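import Cfsg.Agent.H8.Sq5
import Cfsg.Agent.SF.P

/-! Strongly closed sets with a strongly embedded overgroup. -/

set_option autoImplicit false
set_option linter.unusedSectionVars false

namespace H8.Sq

open Cfsg Subgroup FT H4 H5 GW
open BS (Inv Od Cm St Q0 Kg Ab)
open SF (LL PD mem_LL LL_le CH Sr Qx Az Ez RkD Pt)
open scoped commutatorElement

universe u

variable {G : Type u} [Group G] [Finite G] {E : Set G} {T H : Subgroup G}

/-- the involutions of `E` -/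
abbrev DD (E : Set G) : Set G := {d | d ∈ E ∧ Inv d}

theorem fpf_surj {A : Subgroup G} {k : G} (hk : k ∈ Nor A)
    (h : ∀ a ∈ A, k * a = a * k → a = 1) {b : G} (hb : b ∈ A) :
    ∃ a ∈ A, k * a * k⁻¹ * a⁻¹ = b := by
  let φ : A → A := fun a => ⟨k * a * k⁻¹ * a⁻¹, mul_mem (cmem hk a.2) (inv_mem a.2)⟩
  have : Function.Injective φ := fun a a' e => by
    have e1 : k * a * k⁻¹ * (a : G)⁻¹ = k * a' * k⁻¹ * (a' : G)⁻¹ := congrArg Subtype.val e
    refine Subtype.ext (inv_mul_eq_one.1 (h _ (mul_mem (inv_mem a.2) a'.2) ?_))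
    calc k * ((a : G)⁻¹ * a') = k * (a : G)⁻¹ * k⁻¹ * (k * a' * k⁻¹ * (a' : G)⁻¹) * a' * k := by group
      _ = _ := by rw [← e1]; group
  obtain ⟨a, e⟩ := Finite.injective_iff_surjective.1 this ⟨b, hb⟩
  exact ⟨a, a.2, congrArg Subtype.val e⟩

section Sr

variable {Ω : Type*} [MulAction G Ω] [Finite Ω] {x y : Ω} {t : G} (h : SCl E)
  (s : Sr (DD E) ⊤ x y t) (hT : IsSylowOf 2 T ⊤) (hx : T ≤ St G x)
include h s hT hx

theorem nQ {g : G} (hg : g • x = x) : g ∈ Nor (Qx (DD E) ⊤ x) :=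
  SF.nor_Qx (s.pd.nor_LL (mem_top g)) hg

theorem QT : Qx (DD E) ⊤ x ≤ T := by
  have := hT.eq_of_le ((SF.Qx_two (D := DD E) ⊤ x).to_sup_of_normal_left' hT.isPGroup
    fun g hg => nQ h s hT hx (hx hg)) le_sup_right le_top
  exact le_sup_left.trans this.le

theorem two_pts {u : G} (uE : u ∈ E) (h1 : u • x = x) (h2 : u • y = y) : u = 1 := by
  by_contra u1
  obtain ⟨n, hn⟩ := (h.two u uE).exists_inv u1
  exact s.ne (s.pd.uniq ⟨h.pow uE n, hn⟩ (pow_mem (BS.mem_St.2 h1) n) (pow_mem (BS.mem_St.2 h2) n))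

theorem dec {g : G} (hg : g ∈ T) : ∃ c ∈ Qx (DD E) ⊤ x, (c⁻¹ * g) • y = y := by
  obtain ⟨c, hc, e⟩ := s.tr (s.pd.Pt_smul' s.pty (mem_top g)) (s.smul_ne (hx hg) s.ne.symm)
  exact ⟨c, hc, by rw [mul_smul, ← e, inv_smul_smul]⟩

theorem dich : (∀ q ∈ Qx (DD E) ⊤ x, q ∈ E) ∨ (¬ Ab (Qx (DD E) ⊤ x) ∧
    ∀ q ∈ Qx (DD E) ⊤ x, q ∈ E → q ∈ Az (DD E) ⊤ x) := by
  have two := SF.Qx_two (D := DD E) ⊤ x
  have h0 : Az (DD E) ⊤ x ≤ h.sub two := fun a ha => ⟨SF.Az_le _ _ ha, by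
    by_cases a1 : a = 1
    · exact a1 ▸ h.one
    · exact (s.A_D ha a1).1⟩
  have hE : Ez (DD E) ⊤ x y ≤ Nor (h.sub two) := s.bd.E_nor.trans (h.nor_sub two)
  have k : ¬ Ab (Qx (DD E) ⊤ x) → h.sub two = Az (DD E) ⊤ x ∨ h.sub two = Qx (DD E) ⊤ x →
      (∀ q ∈ Qx (DD E) ⊤ x, q ∈ E) ∨ (¬ Ab (Qx (DD E) ⊤ x) ∧
        ∀ q ∈ Qx (DD E) ⊤ x, q ∈ E → q ∈ Az (DD E) ⊤ x) := fun na e =>
    e.symm.imp (fun e q hq => (e.ge hq).2) fun e => ⟨na, fun q hq qE => e.le ⟨hq, qE⟩⟩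
  obtain ⟨d, hd⟩ := s.bd.toA1.exists_dist
  rcases s.bd.tri hd with ⟨e, -⟩ | ⟨e, na, -⟩ | ⟨e, na, -, w, hw⟩
  · exact Or.inl fun q hq => (h0 (e.ge hq)).2
  · refine k na ?_
    obtain ⟨j, e1⟩ := s.bd.card_pow h0 (h.sub_le _) (s.bd.K_le.trans hE)
    rcases j with _ | j
    · exact Or.inl (SF.eq_of_le_card h0 (by rw [e1, zero_add, pow_one])).symm
    · refine Or.inr (SF.eq_of_le_card (h.sub_le _) ?_)
      rw [e, e1]
      exact Nat.pow_le_pow_right Nat.card_pos (by omega)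
  · exact k na (s.bd.irr e na hw h0 (h.sub_le _) (s.bd.K_le.trans hE) (hE hw.1))

theorem sq_one (na : ¬ Ab (Qx (DD E) ⊤ x))
    (hA : ∀ q ∈ Qx (DD E) ⊤ x, q ∈ E → q ∈ Az (DD E) ⊤ x) {g : G} (hg : g ∈ T) (gE : g ∈ E) :
    g * g = 1 := by
  have qt := QT h s hT hx
  have two := hT.isPGroup
  obtain ⟨c, hc, e⟩ := dec h s hT hx hg
  have uT : c⁻¹ * g ∈ T := mul_mem (inv_mem (qt hc)) hg
  have nA : ∀ v ∈ T, ∀ a ∈ Az (DD E) ⊤ x, v * a * v⁻¹ ∈ Az (DD E) ⊤ x := fun v hv a ha =>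
    cmem (SF.nor_Q0 (nQ h s hT hx (hx hv))) ha
  have h1 : ∀ q ∈ Qx (DD E) ⊤ x, c⁻¹ * g * q * (c⁻¹ * g)⁻¹ * q⁻¹ ∈ Az (DD E) ⊤ x := fun q hq => by
    have a1 := hA (g * (q * g⁻¹ * q⁻¹)) (mem_of_eq (mul_mem (cmem (nQ h s hT hx (hx hg)) hq)
      (inv_mem hq)) (by group)) (h.mul T two _ hg _ (SF.cmem (qt hq) (inv_mem hg)) gE
        (h.conj _ (h.inv gE) q))
    exact mem_of_eq (mul_mem (nA _ (inv_mem (qt hc)) _ a1) (s.bd.comm_mem na (inv_mem hc) hq))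
      (by rw [commutatorElement_def]; group)
  have h2 : c⁻¹ * g ∈ Cen (Az (DD E) ⊤ x) := cen.2 fun a ha => by
    obtain ⟨b, hb, rfl⟩ := s.bd.sq_surj na le_rfl (s.bd.K_le.trans s.bd.E_nor)
      (fun e => na fun u hu v hv => s.bd.cen0 u (e hu) v hv) a ha
    have a1 := h1 b hb
    generalize c⁻¹ * g = u at a1 ⊢
    have e1 := s.bd.cen0 _ a1 b hb
    have e2 := s.bd.sq0 _ a1
    generalize hw : u * b * u⁻¹ * b⁻¹ = w at e1 e2
    have e3 : u * b = w * b * u := by rw [← hw]; group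
    calc u * (b * b) = w * (b * w) * b * u := by rw [← mul_assoc, e3, mul_assoc _ u, e3]; group
      _ = _ := by rw [← e1, ← mul_assoc, e2, one_mul]
  obtain ⟨k, hk, k1⟩ : ∃ k ∈ Kg (Ez (DD E) ⊤ x y) t, k ≠ 1 := exists_ne_one_of_ne_bot fun e => by
    have := s.bd.card_K
    have := s.bd.four_le
    rw [e, card_bot] at *
    omega
  have h3 := s.cen_K (s.pd.nor_LL (mem_top _)) (hx uT) e h2 hk
  have kc := cmem (nQ h s hT hx (s.K_x hk)) hc
  have e1 : k * g * k⁻¹ = k * c * k⁻¹ * (c⁻¹ * g) := by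
    calc _ = k * c * (c⁻¹ * g * k⁻¹) := by group
      _ = _ := by rw [(c1.1 (inv_mem (c1s.1 (c1.2 h3)))).symm]; group
  have h4 := hA (k * c * k⁻¹ * c⁻¹) (mul_mem kc (inv_mem hc)) (by
    have := h.mul T two _ (e1 ▸ mul_mem (qt kc) uT) _ (inv_mem hg) (h.conj g gE k) (h.inv gE)
    rwa [e1, mul_assoc, mul_inv_cancel_right] at this)
  have fp : ∀ a ∈ Qx (DD E) ⊤ x, k * a = a * k → a = 1 := fun a ha e => by
    by_contra a1
    exact k1 (s.bd.K_fpf ha a1 hk e)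
  obtain ⟨a, ha, e2⟩ := fpf_surj (s.bd.E_nor0 (s.bd.K_le hk))
    (fun a ha => fp a (SF.Az_le _ _ ha)) h4
  have e3 : a = c := inv_mul_eq_one.1 (fp _ (mul_mem (inv_mem (SF.Az_le _ _ ha)) hc) (by
    calc k * (a⁻¹ * c) = k * a⁻¹ * k⁻¹ * (k * c * k⁻¹ * c⁻¹) * c * k := by group
      _ = _ := by rw [← e2]; group))
  subst e3
  have aE : a ∈ E := by
    by_cases a1 : a = 1
    · exact a1 ▸ h.one
    · exact (s.A_D ha a1).1
  rw [← inv_mul_eq_one.1 (two_pts h s hT hx (h.mul T two _ (inv_mem (qt hc)) _ hg (h.inv aE) gE)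
    (hx uT) e)]
  exact s.bd.sq0 a ha

theorem pur_sr {g : G} (gE : g ∈ E) (g2 : g * g ≠ 1) : Pur E (LL E ⊤) := by
  rcases dich h s hT hx with hA | ⟨na, hA⟩
  · have qt := QT h s hT hx
    have h1 : LL E ⊤ ≤ LL (DD E) ⊤ := SF.LL_le_iff.2 fun a aE _ => by
      obtain ⟨k, -, hk⟩ := conj_into hT (mem_top a) (h.two a aE)
      obtain ⟨c, hc, e⟩ := dec h s hT hx hk
      have := two_pts h s hT hx (h.mul T hT.isPGroup _ (inv_mem (qt hc)) _ hk (h.inv (hA c hc))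
        (h.conj a aE k)) (hx (mul_mem (inv_mem (qt hc)) hk)) e
      exact mem_of_eq (cmem' (s.pd.nor_LL (mem_top k)) (SF.Qx_le ⊤ x hc).1)
        (by rw [inv_mul_eq_one.1 this]; group)
    intro a ha a2
    obtain ⟨k, -, hk⟩ := conj_into hT (mem_top a) a2
    exact (h.conj_iff k).1 (hA _ (s.mem_Q (cmem (s.pd.nor_LL (mem_top k)) (h1 ha)) (hx hk)
      hT.isPGroup hk))
  · obtain ⟨k, -, hk⟩ := conj_into hT (mem_top g) (h.two g gE)
    have := sq_one h s hT hx na hA hk (h.conj g gE k)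
    rw [show k * g * k⁻¹ * (k * g * k⁻¹) = k * (g * g) * k⁻¹ by group] at this
    exact absurd (by simpa using this) g2

end Sr

theorem pur_o1 (h : SCl E) (c : CH (DD E) H) (hH : H ≠ ⊤) (hT : IsSylowOf 2 T ⊤) (hx : T ≤ H)
    (r : RkD (DD E) ⊤) (o1 : Oo (⊤ : Subgroup G) = ⊥) {g : G} (gE : g ∈ E) (g2 : g * g ≠ 1) :
    Pur E (LL E ⊤) := by
  obtain ⟨a, ha, -⟩ := id r
  obtain ⟨b, hb, -, hbH⟩ := c.exists_mem ha (mem_top a)
  have l : SF.Lr (DD E) ⊤ ((1 : G) : G ⧸ H) :=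
    ⟨r, c.pt hb (mem_top b) hbH, by rw [SF.St_one]; exact c.not_le hH hb (mem_top b)⟩
  obtain ⟨y, hy, hne⟩ := c.pd.exists_ne l.pt l.ne
  obtain ⟨t, -, ht, e⟩ := c.pd.Pt_swap l.pt hy hne.symm
  refine pur_sr h (c.pd.sr_of (c.pd.pure l) l ?_ ht (mem_top t) e hne.symm) hT
    (by rwa [SF.St_one]) gE g2
  rw [Od, piCoreOf_compl_singleton]
  exact (le_Oo le_top (le_normalizer.trans ((c.pd.nor_le_nor_LL ⊤).trans (nOo _)))
    (odd_Oo _)).trans (o1.le.trans bot_le)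

theorem pur_rk (h : SCl E) (c : CH (DD E) H) (hH : H ≠ ⊤) (hT : IsSylowOf 2 T ⊤) (hx : T ≤ H)
    (r : RkD (DD E) ⊤) {g : G} (gE : g ∈ E) (g2 : g * g ≠ 1) : Pur E (LL E ⊤) := by
  let f := QuotientGroup.mk' (pPrimeCore 2 G)
  have hf : Function.Surjective f := QuotientGroup.mk'_surjective _
  have od : Odd (Nat.card (pPrimeCore 2 G)) := odd_iff_cop.2 (coprime_card_pPrimeCore 2 G)
  have k1 : ∀ w, P2 w → f w = 1 → w = 1 := fun w hw e =>
    hw.eq_one (odd_ord od ((QuotientGroup.eq_one_iff w).1 e))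
  have ii : ∀ w ∈ E, Inv (f w) ↔ Inv w := fun w hw =>
    ⟨fun e => ⟨fun e1 => e.1 (by rw [e1, map_one]), k1 _ (h.two _ (h.mulc hw hw rfl))
      (by rw [map_mul, e.2])⟩, fun e => ⟨fun e1 => e.1 (k1 w (h.two w hw) e1),
        by rw [← map_mul, e.2, map_one]⟩⟩
  obtain ⟨a, ha, b, hb, -, -, hne, hc⟩ := id r
  have OH : pPrimeCore 2 G ≤ H := by
    obtain ⟨u, hu⟩ := c.ex a ha
    have a1 := c.conj' ha u
    have b1 := c.conj' hb u
    have e : u⁻¹ * a * u * (u⁻¹ * b * u) = u⁻¹ * b * u * (u⁻¹ * a * u) := by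
      calc _ = u⁻¹ * (a * b) * u := by group
        _ = _ := by rw [hc]; group
    have ne : u⁻¹ * a * u ≠ u⁻¹ * b * u := fun e => hne (by simpa using e)
    have ce : ∀ d ∈ DD E, d ∈ H → Cen1 d ≤ H := fun d hd dH w hw =>
      c.fix d hd dH w (by have := c1'.1 (inv_mem hw); rw [inv_inv] at this; rwa [this])
    have hb' := ce _ a1 hu (c1.2 e.symm)
    exact BS.le_of_four a1.2 b1.2 ne e od (le_normalizer_of_normal (mem_top _))
      (le_normalizer_of_normal (mem_top _)) (inf_le_right.trans (ce _ a1 hu))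
      (inf_le_right.trans (ce _ b1 hb'))
      (inf_le_right.trans (ce _ (c.mul _ a1 _ b1 hu hb' ne e) (mul_mem hu hb')))
  have mH : ∀ w, f w ∈ H.map f ↔ w ∈ H := fun w => ⟨fun ⟨v, hv, e⟩ => by
    simpa using mul_mem hv (OH (QuotientGroup.eq.1 e)), mem_map_of_mem f⟩
  have h' := h.map hf
  have c' : CH (DD (f '' E)) (H.map f) :=
    { inv := fun _ e => e.2
      conj := fun d e u => ⟨h'.conj d e.1 u, e.2.conj u⟩
      ex := by
        rintro _ ⟨⟨d, dE, rfl⟩, di⟩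
        obtain ⟨u, hu⟩ := c.ex d ⟨dE, (ii d dE).1 di⟩
        exact ⟨f u, by simpa only [map_mul, map_inv] using mem_map_of_mem f hu⟩
      fix := by
        rintro _ ⟨⟨d, dE, rfl⟩, di⟩ dH u hu
        obtain ⟨u, rfl⟩ := hf u
        exact (mH u).2 (c.fix d ⟨dE, (ii d dE).1 di⟩ ((mH d).1 dH) u
          ((mH _).1 (by simpa only [map_mul, map_inv] using hu)))
      mul := fun d hd e he _ _ hne hc => ⟨h'.mulc hd.1 he.1 hc, hd.2.mul he.2 hne hc⟩ }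
  have := pur_o1 h' c' (fun e => hH (eq_top_iff.2 fun w _ => (mH w).1 (e ▸ mem_top _)))
    (by simpa only [map_top_of_surjective _ hf] using hT.map f) (map_mono hx)
    ⟨f a, ⟨⟨a, ha.1, rfl⟩, (ii a ha.1).2 ha.2⟩, f b, ⟨⟨b, hb.1, rfl⟩, (ii b hb.1).2 hb.2⟩,
      mem_top _, mem_top _, fun e => (ha.2.mul hb.2 hne hc).1 (k1 _ (h.two _ (h.mulc ha.1 hb.1 hc))
        (by rw [map_mul, e, ← map_mul, hb.2.2, map_one])), by rw [← map_mul, hc, map_mul]⟩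
    (by rw [Oo, pPrimeCoreIn_top, pPrimeCore_quotient_pPrimeCore]) ⟨g, gE, rfl⟩
    fun e => g2 (k1 _ (h.two _ (h.mulc gE gE rfl)) (by rw [map_mul, e]))
  intro w hw w2
  refine h.pur_of_map hf (fun v hv v2 => k1 v v2 hv ▸ h.one) w2 (this _ ?_ (w2.map f))
  have : LL E ⊤ ≤ (LL (f '' E) ⊤).comap f :=
    SF.LL_le_iff.2 fun a aE _ => mem_LL ⟨a, aE, rfl⟩ (mem_top _)
  exact this hw

theorem dichot (h : SCl E) (c : CH (DD E) H) (hH : H ≠ ⊤) (hT : IsSylowOf 2 T ⊤) (hx : T ≤ H) :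
    Pur E (LL E ⊤) ∨ (¬ R1 E ∧ (∀ g ∈ E, g * g = 1) ∧ SF.Pure (DD E) (LL E ⊤)) := by
  by_cases r : R1 E
  · exact Or.inl (qsc h r)
  have r' : RkD (DD E) ⊤ := by
    by_contra k
    refine r fun a aE b bE ai bi e => ?_
    by_contra hne
    exact k ⟨a, ⟨aE, ai⟩, b, ⟨bE, bi⟩, mem_top _, mem_top _, hne, e⟩
  by_cases k : ∀ g ∈ E, g * g = 1
  · refine Or.inr ⟨r, k, (c.pure hH r').mono (SF.LL_le_iff.2 fun a aE _ => ?_)⟩
    by_cases a1 : a = 1
    · exact a1 ▸ one_mem _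
    · exact subset_closure ⟨aE, a1, k a aE⟩
  · push Not at k
    obtain ⟨g, gE, g2⟩ := k
    exact Or.inl (pur_rk h c hH hT hx r' gE g2)

/-- the conjugates of elements of `S` -/
def CjS (S : Subgroup G) : Set G := {x | ∃ g : G, g * x * g⁻¹ ∈ S}

section Fin

variable {S : Subgroup G} (hT : IsSylowOf 2 T ⊤) (hS : IsStronglyClosed S T)
include hT hS

theorem mem_S {x : G} (hx : x ∈ T) (h : x ∈ CjS S) : x ∈ S := by
  obtain ⟨g, hg⟩ := h
  simpa [mul_assoc] using hS.2 _ hg g⁻¹ (by simpa [mul_assoc] using hx)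

theorem scl : SCl (CjS S) where
  one := ⟨1, by simp⟩
  conj := fun x ⟨g, hg⟩ k => ⟨g * k⁻¹, by simpa [mul_assoc] using hg⟩
  two := fun x ⟨g, hg⟩ => by
    simpa [mul_assoc] using (P2.of_mem hT.isPGroup (hS.1 hg)).conj g⁻¹
  mul := fun P hP x hx y hy ⟨u, hu⟩ ⟨v, hv⟩ => by
    obtain ⟨g, -, e⟩ := conj_le hT hP le_top
    exact ⟨g, mem_of_eq (mul_mem (mem_S hT hS (e x hx) ⟨u * g⁻¹, by simpa [mul_assoc] using hu⟩)
      (mem_S hT hS (e y hy) ⟨v * g⁻¹, by simpa [mul_assoc] using hv⟩)) (by group)⟩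

theorem LL_eq : LL (CjS S) ⊤ = normalClosure (S : Set G) := by
  refine le_antisymm (SF.LL_le_iff.2 fun a ⟨g, hg⟩ _ => ?_) ?_
  · simpa [mul_assoc] using normalClosure_normal.conj_mem _ (subset_normalClosure hg) g⁻¹
  · have : (LL (CjS S) ⊤).Normal := H7.normal_of_top_le_normalizer ((scl hT hS).le_nor_LL ⊤)
    exact normalClosure_le_normal fun a ha => mem_LL ⟨1, by simpa using ha⟩ (mem_top a)

theorem nor_om : Nor T ≤ Nor (omegaOne 2 S) := fun g hg => mnor fun k hk => by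
  have : omegaOne 2 S ≤ (omegaOne 2 S).comap (MulAut.conj g).toMonoidHom :=
    (closure_le _).2 fun a ha => subset_closure
      ⟨hS.2 a ha.1 g (cmem hg (hS.1 ha.1)), by
        show (g * a * g⁻¹) ^ 2 = 1
        rw [conj_pow, ha.2]; simp⟩
  exact this hk

end Fin

theorem s3289 (T : Sylow 2 G) (S : Subgroup G) (hS : S ≠ ⊥)
    (hsc : IsStronglyClosed S (T : Subgroup G)) (H : Subgroup G) (hH : H ≠ ⊤)
    (hC : ∀ s ∈ S, s ≠ 1 → centralizer ({s} : Set G) ≤ H)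
    (hN : normalizer ((omegaOne 2 S : Subgroup G) : Set G) ≤ H) :
    IsStronglyEmbedded ((H ⊓ normalClosure (S : Set G)).subgroupOf (normalClosure (S : Set G))) ∧
      (S = (T : Subgroup G) ⊓ normalClosure (S : Set G) ∨
        S = omegaOne 2 ((T : Subgroup G) ⊓ normalClosure (S : Set G))) ∧
      (PRankLE 2 1 ↥S → S = (T : Subgroup G) ⊓ normalClosure (S : Set G)) := by
  have hT := isSylowOf_top T
  have h := scl hT hsc
  have n1 : Nor (T : Subgroup G) ≤ H := (nor_om hT hsc).trans hN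
  have n2 : ∀ s ∈ (T : Subgroup G), s ∈ CjS S → Inv s → Cen1 s ≤ H := fun s hs e si =>
    hC s (mem_S hT hsc hs e) si.1
  have c : CH (DD (CjS S)) H :=
    { inv := fun _ e => e.2
      conj := fun d e u => ⟨h.conj d e.1 u, e.2.conj u⟩
      ex := fun d ⟨⟨g, hg⟩, _⟩ => ⟨g⁻¹, by simpa using n1 (le_normalizer (hsc.1 hg))⟩
      fix := fun d hd dH g e => h.uniq hT n1 n2 hd.1 hd.2 dH e
      mul := fun d hd e he _ _ hne hc => ⟨h.mulc hd.1 he.1 hc, hd.2.mul he.2 hne hc⟩ }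
  have hd := dichot h c hH hT (le_normalizer.trans n1)
  rw [LL_eq hT hsc] at hd
  have SX : S ≤ normalClosure (S : Set G) := le_normalClosure
  have mE : ∀ s ∈ S, s ∈ CjS S := fun s hs => ⟨1, by simpa using hs⟩
  have k : Pur (CjS S) (normalClosure (S : Set G)) →
      S = (T : Subgroup G) ⊓ normalClosure (S : Set G) := fun p =>
    le_antisymm (le_inf hsc.1 SX) fun x hx =>
      mem_S hT hsc hx.1 (p x hx.2 (P2.of_mem hT.isPGroup hx.1))
  have om : ∀ (P : Subgroup G) (s : G), s ∈ P → s * s = 1 → s ∈ omegaOne 2 P := fun P s h1 h2 =>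
    Subgroup.subset_closure ⟨h1, by rw [sq, h2]⟩
  refine ⟨?_, hd.imp k fun e => ?_, fun r => k (hd.resolve_right fun e => ?_)⟩
  · obtain ⟨s, hs, s1⟩ := exists_ne_one_of_ne_bot hS
    obtain ⟨n, hn⟩ := (h.two s (mE s hs)).exists_inv s1
    rw [inf_comm]
    refine SF.se_of_sein (c.sein hH (hd.elim (fun p x hx xi => ⟨p x hx (p2_of_sq xi.2), xi⟩)
      fun e => e.2.2) ?_)
    exact Nat.not_odd_iff_even.1 fun o => hn.not_mem o (SX (pow_mem hs n))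
  · obtain ⟨-, h1, h2⟩ := e
    refine le_antisymm (fun s hs => om _ s (mem_inf.2 ⟨hsc.1 hs, SX hs⟩) (h1 s (mE s hs)))
      ((closure_le _).2 fun x hx => ?_)
    by_cases x1 : x = 1
    · exact x1 ▸ one_mem _
    · exact mem_S hT hsc hx.1.1 (h2 x hx.1.2 ⟨x1, by rw [← sq, hx.2]⟩).1
  · refine e.1 fun a aE b bE ai bi e => ?_
    by_contra hne
    obtain ⟨g, -, e1⟩ := conj_le hT (two_pair (h.two a aE) (h.two b bE) e) le_top
    refine BS.rk2_iff.1 ⟨_, mem_S hT hsc (e1 a (mem_sup_left (mem_zpowers a))) (h.conj a aE g), _,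
      mem_S hT hsc (e1 b (mem_sup_right (mem_zpowers b))) (h.conj b bE g), ai.conj g, bi.conj g,
      fun e2 => hne (by simpa using e2), ?_⟩ r
    calc _ = g * (a * b) * g⁻¹ := by group
      _ = _ := by rw [e]; group

end H8.Sq
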