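import Cfsg.Agent.L.Block3
import Cfsg.Agent.H8.BrNum

/-! Consequences of block theory: defect zero, prime power degrees, Brauer-Tuan lemma. -/

set_option linter.unusedSectionVars false

namespace H8

open Subgroup Cfsg
open scoped ComplexConjugate

universe u

variable {G : Type u} [Group G] [Fintype G] {p : ℕ} [hp : Fact p.Prime]

/-- Characters of defect zero vanish on `p`-singular elements. -/
theorem irr_eq_zero_of_defect_zero (χ : IrrCharacter G) {m : ℕ} (hm : Nat.card G = deg χ * m)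
    (hpm : ¬ p ∣ m) {g : G} (hg : p ∣ orderOf g) : χ.1 g = 0 := by
  classical
  obtain ⟨u, y, hu, hy, huy, rfl, -, -⟩ := L.exists_decomp (p := p) g
  have hu1 : u ≠ 1 := by
    rintro rfl
    rw [one_mul] at hg
    exact L.Reg_iff_not_dvd.1 hy hg
  let e : IrrCharacter G → ℂ := Pi.single χ 1
  have hd : (deg χ : ℂ) ≠ 0 := Nat.cast_ne_zero.2 (deg_pos χ).ne'
  have he : L.IZ p e := by
    intro g
    have : L.FF e g = (m : ℂ)⁻¹ * χ.1 g⁻¹ := by
      rw [L.FF, Finset.sum_eq_single χ (fun ψ _ h => by simp [e, h]) (by simp), hm, deg_eq]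
      simp only [e, Pi.single_eq_same]
      push_cast
      field_simp
    rw [this]
    exact (L.UU_natCast hpm).inv.II.mul
      (L.II_of_isIntegral (char_isIntegral (irr_isCharacter χ.2) _))
  have hee : e * e = e := by
    ext ψ; by_cases h : ψ = χ <;> simp [e, h]
  have := he.section_orth hee hu hy huy L.PElt_one L.Reg_one (Commute.refl 1)
    (fun h => hu1 (isConj_one_left.1 h))
  rw [Finset.sum_eq_single χ (fun ψ _ h => by simp [e, h]) (by simp)] at this
  simp only [e, Pi.single_eq_same, one_mul, deg_eq, map_natCast, mul_eq_zero, hd, or_false] at this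
  exact this

theorem deg_dvd_card (χ : IrrCharacter G) : deg χ ∣ Nat.card G :=
  irr_degree_dvd χ.2 (deg_eq χ)

/-- If `p` divides the degree and `p ^ 2` does not divide the order, the character vanishes on
`p`-singular elements. -/
theorem irr_eq_zero_of_dvd_deg (hG : ¬ p ^ 2 ∣ Nat.card G) (χ : IrrCharacter G) (h : p ∣ deg χ)
    {g : G} (hg : p ∣ orderOf g) : χ.1 g = 0 := by
  obtain ⟨m, hm⟩ := deg_dvd_card χ
  refine irr_eq_zero_of_defect_zero χ hm (fun h2 => hG ?_) hg
  rw [hm, pow_two]; exact mul_dvd_mul h h2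

/-- A non-trivial character of degree a power of `p` vanishes on `p`-central elements. -/
theorem irr_eq_zero_of_deg_pow [IsSimpleGroup G] (hG : ¬ IsMulCommutative G)
    {χ : IrrCharacter G} (h1 : χ ≠ ⟨1, irr_one⟩) {k : ℕ} (hk : deg χ = p ^ k) {z : G}
    (hz : z ≠ 1) (hz' : ¬ p ∣ (Cx z).index) : χ.1 z = 0 := by
  rcases irr_eq_zero_or_norm_eq χ.2 z (deg_eq χ) (by
    rw [hk, ← index_centralizer_eq]
    exact ((Nat.Prime.coprime_iff_not_dvd hp.out).2 hz').symm.pow_right _) with h | h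
  · exact h
  · exact absurd (irr_norm_ne_of_simple hG χ.2 (fun h => h1 (Subtype.ext h)) h) hz

/-- A character of the principal block does not vanish on a class of size prime to `p`. -/
theorem B0_apply_ne_zero {χ : IrrCharacter G} (hχ : χ ∈ L.B0 p G) {z : G}
    (hz' : ¬ p ∣ (Cx z).index) : χ.1 z ≠ 0 := by
  classical
  intro h0
  have := L.MM_om_sub_of_mem_B0 (isClassFunction_indicator z)
    (fun g => by split_ifs; exacts [isIntegral_one, isIntegral_zero]) hχ
  have h2 := sum_indicator_mul (f := 1) (fun _ _ => rfl) z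
  simp only [Pi.one_apply, mul_one] at h2
  rw [L.om, sum_indicator_mul (L.irr_class χ), h0, h2, ← index_centralizer_eq] at this
  simp only [mul_zero, zero_div, zero_sub] at this
  exact hz' (L.MM_natCast_iff.1 (by simpa using this.neg))

/-- A non-trivial character of degree a power of `p` is not in the principal `p`-block. -/
theorem not_mem_B0_of_deg_pow [IsSimpleGroup G] (hG : ¬ IsMulCommutative G) (hpG : p ∣ Nat.card G)
    {χ : IrrCharacter G} (h1 : χ ≠ ⟨1, irr_one⟩) {k : ℕ} (hk : deg χ = p ^ k) : χ ∉ L.B0 p G := by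
  intro hχ
  obtain ⟨z, hz, hz'⟩ := exists_central_of_prime p hpG
  refine B0_apply_ne_zero hχ hz' (irr_eq_zero_of_deg_pow hG h1 hk ?_ hz')
  rintro rfl
  rw [orderOf_one] at hz
  exact hp.out.one_lt.ne hz

theorem B0_sum_deg_eq_zero {g : G} (hg : p ∣ orderOf g) {y : G} (hy : ¬ p ∣ orderOf y) :
    ∑ χ ∈ L.B0 p G, χ.1 g * conj (χ.1 y) = 0 := by
  obtain ⟨u, w, hu, hw, huw, rfl, -, -⟩ := L.exists_decomp (p := p) g
  have hu1 : u ≠ 1 := by
    rintro rfl
    rw [one_mul] at hg
    exact L.Reg_iff_not_dvd.1 hw hg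
  have := L.B0_orth hu hw huw L.PElt_one (L.Reg_iff_not_dvd.2 hy) (Commute.one_left y)
    (fun h => hu1 (isConj_one_left.1 h))
  simpa using this

theorem exists_mem_B0_not_dvd {g : G} (hg : p ∣ orderOf g) {q : ℕ} (hq : q.Prime) :
    ∃ χ ∈ L.B0 p G, χ ≠ ⟨1, irr_one⟩ ∧ χ.1 g ≠ 0 ∧ ¬ q ∣ deg χ := by
  classical
  haveI := Fact.mk hq
  by_contra hcon
  push Not at hcon
  have h0 := B0_sum_deg_eq_zero hg (y := 1) (by simpa using hp.out.one_lt.ne')
  rw [← Finset.add_sum_erase _ _ L.triv_mem_B0] at h0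
  have : L.MM q (∑ χ ∈ (L.B0 p G).erase (L.triv G), χ.1 g * conj (χ.1 1)) := by
    refine L.MM_sum fun χ hχ => ?_
    by_cases h : χ.1 g = 0
    · rw [h, zero_mul]; exact L.MM_zero
    · have h2 := hcon χ (Finset.mem_of_mem_erase hχ) (Finset.ne_of_mem_erase hχ) h
      rw [deg_eq, map_natCast]
      exact (L.II_of_isIntegral (char_isIntegral (irr_isCharacter χ.2) _)).mul_MM
        (L.MM_natCast_iff.2 h2)
  rw [← neg_eq_iff_add_eq_zero.2 h0] at this
  exact L.not_MM_one (by simpa using this.neg)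

/-- The Brauer-Tuan congruence. -/
theorem B0_sum_deg_isIntegral (P : Subgroup G) (hP : IsPGroup p P) {y : G}
    (hy : ¬ p ∣ orderOf y) :
    IsIntegral ℤ ((∑ χ ∈ L.B0 p G, deg χ * χ.1 y) / Nat.card P) := by
  classical
  have h1 : ∀ χ : IrrCharacter G, ∃ n : ℕ, ∑ w : P, χ.1 w = Nat.card P * n := by
    intro χ
    obtain ⟨n, hn⟩ := char_classInner_nat (char_restrict (irr_isCharacter χ.2) P) char_one
    refine ⟨n, ?_⟩
    rw [← hn, classInner, ← mul_assoc, mul_inv_cancel₀ card_ne_zero_complex, one_mul]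
    simp
  choose n hn using h1
  have h2 : ∑ w : P, ∑ χ ∈ L.B0 p G, χ.1 w * conj (χ.1 y⁻¹) = ∑ χ ∈ L.B0 p G, deg χ * χ.1 y := by
    rw [Finset.sum_eq_single 1]
    · refine Finset.sum_congr rfl fun χ _ => ?_
      rw [coe_one, deg_eq, char_conj_eq (irr_isCharacter χ.2), inv_inv]
    · intro w _ hw
      refine B0_sum_deg_eq_zero ?_ (by rwa [orderOf_inv])
      obtain ⟨k, hk⟩ := IsPGroup.iff_orderOf.1 hP w
      rw [orderOf_coe, hk]
      refine dvd_pow_self _ ?_
      rintro rfl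
      exact hw (orderOf_eq_one_iff.1 (by simpa using hk))
    · simp
  rw [← h2, Finset.sum_comm]
  have h3 : (∑ χ ∈ L.B0 p G, ∑ w : P, χ.1 w * conj (χ.1 y⁻¹)) / Nat.card P =
      ∑ χ ∈ L.B0 p G, n χ * χ.1 y := by
    rw [div_eq_iff card_ne_zero_complex, Finset.sum_mul]
    refine Finset.sum_congr rfl fun χ _ => ?_
    rw [← Finset.sum_mul, hn, char_conj_eq (irr_isCharacter χ.2), inv_inv]; ring
  rw [h3]
  exact IsIntegral.sum _ fun χ _ =>
    (isIntegral_natCast _).mul (char_isIntegral (irr_isCharacter χ.2) _)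

/-- Brauer: in a simple group of order `p * q ^ a * r ^ b` no element of order `q` commutes with
an element of order `p`. -/
theorem not_commute_of_three_primes [IsSimpleGroup G] (hG : ¬ IsMulCommutative G) {q r a b : ℕ}
    (hq : q.Prime) (hr : r.Prime) (hpq : p ≠ q) (hpr : p ≠ r)
    (hN : Nat.card G = p * q ^ a * r ^ b) {x v : G} (hx : orderOf x = p) (hv : orderOf v = q) :
    ¬ Commute v x := by
  intro hc
  haveI := Fact.mk hq
  have hcop : (orderOf v).Coprime (orderOf x) := by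
    rw [hx, hv]; exact (Nat.coprime_primes hq hp.out).2 hpq.symm
  have ho := hc.orderOf_mul_eq_mul_orderOf_of_coprime hcop
  rw [hx, hv] at ho
  obtain ⟨χ, h0, h1, h2, h3⟩ := exists_mem_B0_not_dvd (p := q) (g := v * x)
    (by rw [ho]; exact dvd_mul_right _ _) hr
  have hp2 : ¬ p ^ 2 ∣ Nat.card G := by
    rw [hN, pow_two, mul_assoc, Nat.mul_dvd_mul_iff_left hp.out.pos]
    intro h
    rcases (Nat.Prime.dvd_mul hp.out).1 h with h | h
    · exact hpq ((Nat.prime_dvd_prime_iff_eq hp.out hq).1 (hp.out.dvd_of_dvd_pow h))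
    · exact hpr ((Nat.prime_dvd_prime_iff_eq hp.out hr).1 (hp.out.dvd_of_dvd_pow h))
  have h4 : ¬ p ∣ deg χ := fun h =>
    h2 (irr_eq_zero_of_dvd_deg hp2 χ h (by rw [ho]; exact dvd_mul_left _ _))
  have h5 := deg_dvd_card χ
  rw [hN] at h5
  have h6 := Nat.Coprime.dvd_of_dvd_mul_right
    (((Nat.Prime.coprime_iff_not_dvd hr).2 h3).symm.pow_right b) h5
  have h7 := Nat.Coprime.dvd_of_dvd_mul_left ((Nat.Prime.coprime_iff_not_dvd hp.out).2 h4).symm h6
  obtain ⟨k, -, hk⟩ := (Nat.dvd_prime_pow hq).1 h7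
  exact not_mem_B0_of_deg_pow hG (hv ▸ orderOf_dvd_natCard v) h1 hk h0

end H8
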