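import Cfsg.Agent.H8.AltC1
import Cfsg.Agent.H8.SLn
import Cfsg.Agent.H8.Char4
import Cfsg.Agent.W.Cor
import Cfsg.Agent.H1.Bsw5
import Cfsg.Agent.H5.Dich2
import Cfsg.Agent.J1.Main

/-! A 2-central involution with centralizer `2 × A_m`. -/

set_option autoImplicit false

namespace H8

open Cfsg Subgroup FT GW

universe u

variable {G : Type u} [Group G] [Finite G]

/-- properties of an involution centralizer `2 × A₄` -/
structure K24 (t : G) : Prop where
  card : Nat.card (Cen1 t) = 24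
  cm : ∀ x y, x * t = t * x → y * t = t * y → x * x = 1 → y * y = 1 → x * y = y * x
  nc : ∀ x, x * t = t * x → x * x ≠ 1 → ∃ y, y * t = t * y ∧ y * y = 1 ∧ x * y ≠ y * x
  ex : ∃ V : Subgroup G, (∀ x, x ∈ V ↔ x * t = t * x ∧ x * x = 1) ∧ Nat.card V = 8

omit [Finite G] in
theorem K24.map {t : G} (h : K24 t) (φ : G ≃* G) : K24 (φ t) := by
  have e : ∀ x y : G, φ x * φ y = φ y * φ x ↔ x * y = y * x := fun x y => by
    rw [← map_mul, ← map_mul, φ.injective.eq_iff]
  have e' : ∀ x : G, φ x * φ x = 1 ↔ x * x = 1 := fun x => by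
    rw [← map_mul, map_eq_one_iff _ φ.injective]
  refine ⟨?_, fun x y => ?_, fun x => ?_, ?_⟩
  · rw [← h.card]
    refine (Nat.card_congr (φ.toEquiv.subtypeEquiv fun x => ?_)).symm
    rw [c1, c1]; exact (e x t).symm
  · obtain ⟨x, rfl⟩ := φ.surjective x
    obtain ⟨y, rfl⟩ := φ.surjective y
    simpa only [e, e'] using h.cm x y
  · obtain ⟨x, rfl⟩ := φ.surjective x
    rw [e, Ne, e']
    intro a b
    obtain ⟨y, hy⟩ := h.nc x a b
    exact ⟨φ y, by simpa only [e, e', Ne] using hy⟩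
  · obtain ⟨V, a, b⟩ := h.ex
    refine ⟨V.map φ.toMonoidHom, fun x => ?_, (card_map_of_injective φ.injective).trans b⟩
    obtain ⟨x, rfl⟩ := φ.surjective x
    rw [e, e', ← a]
    exact mem_map_iff_mem φ.injective

theorem aut_of_K24 (hns : ¬ Group.IsSolvable G) {J : G} (J2 : J * J = 1) (J1 : J ≠ 1) (h : K24 J)
    (ho : ¬ 2 ∣ (Cen1 J).index) (one : ∀ u : G, u * u = 1 → u ≠ 1 → IsConj J u) :
    ∃ (F : Type) (_ : Field F) (_ : Fintype F), Fintype.card F = 8 ∧
      Nonempty (G ≃* MulAut (Matrix.ProjectiveSpecialLinearGroup (Fin 2) F)) := by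
  have all : ∀ u : G, u * u = 1 → u ≠ 1 → K24 u := fun u a b => by
    obtain ⟨g, rfl⟩ := isConj_iff.1 (one u a b)
    exact h.map (MulAut.conj g)
  obtain ⟨V, mV, c8⟩ := h.ex
  have JV : J ∈ V := (mV J).2 ⟨rfl, J2⟩
  have cmV : ∀ x ∈ V, ∀ y ∈ V, x * y = y * x := fun x hx y hy =>
    h.cm x y ((mV x).1 hx).1 ((mV y).1 hy).1 ((mV x).1 hx).2 ((mV y).1 hy).2
  have VC : V ≤ Cen1 J := fun x hx => c1.2 ((mV x).1 hx).1
  have iV : ¬ 2 ∣ V.index := by
    have a := relIndex_mul_index VC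
    have b := H5.card_inf_mul_relIndex V (Cen1 J)
    rw [inf_eq_left.2 VC, c8, h.card] at b
    rw [← a, show V.relIndex (Cen1 J) = 3 by omega]
    omega
  have pV : IsPGroup 2 V := IsPGroup.of_card (n := 3) c8
  have as : W.AS V ⊤ := ⟨⟨le_top, pV, by rwa [relIndex_top_right]⟩,
    ⟨⟨fun x y => Subtype.ext (cmV _ x.2 _ y.2)⟩⟩⟩
  have sol : ∀ t : G, orderOf t = 2 → Nat.card (Cen1 t) = 24 := fun t ht =>
    (all t (by rw [← pow_two, ← ht, pow_orderOf_eq_one]) (by rintro rfl; simp at ht)).card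
  have hO : Oo (⊤ : Subgroup G) = ⊥ := by
    have nO : ∀ g z, z ∈ Oo (⊤ : Subgroup G) → g * z * g⁻¹ ∈ Oo (⊤ : Subgroup G) := fun g z hz =>
      (mem_normalizer_iff.1 (lOo ⊤ (mem_top g)) z).1 hz
    have sq1 : ∀ z ∈ Oo (⊤ : Subgroup G), z * z = 1 → z = 1 := fun z hz e => by
      by_contra c
      have := (Oo (⊤ : Subgroup G)).orderOf_dvd_natCard hz
      rw [W.o2 e c] at this
      exact (Nat.not_even_iff_odd.2 (odd_Oo ⊤)) (even_iff_two_dvd.2 this)
    have inv : ∀ u : G, u * u = 1 → u ≠ 1 → ∀ y ∈ Oo (⊤ : Subgroup G), u * y * u⁻¹ = y⁻¹ :=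
      fun u a b y hy => H1.inv_of_fpf a (nO u) (fun z hz hz' => by
        have k := all u a b
        have zu : z * u = u * z := mem_centralizer_singleton_iff.1 hz'
        by_contra c
        obtain ⟨y, y1, y2, y3⟩ := k.nc z zu fun e => c (sq1 z hz e)
        have yi : y⁻¹ = y := inv_eq_of_mul_eq_one_right y2
        have q : z * y * z⁻¹ * (z * y * z⁻¹) = 1 := W.csq y2
        have r := k.cm (z * y * z⁻¹) y (by
          calc z * y * z⁻¹ * u = z * y * (z⁻¹ * u * z) * z⁻¹ := by group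
            _ = z * (y * u) * z⁻¹ := by rw [mul_assoc z⁻¹, ← zu]; group
            _ = _ := by rw [y1, ← mul_assoc, zu]; group) y1 q y2
        have s := sq1 (z * (y * z⁻¹ * y⁻¹)) (mul_mem hz (nO y _ (inv_mem hz))) (by
          rw [yi]
          calc z * (y * z⁻¹ * y) * (z * (y * z⁻¹ * y))
              = z * y * z⁻¹ * (y * (z * y * z⁻¹)) * y := by group
            _ = 1 := by rw [← r, ← mul_assoc, q, one_mul, y2])
        exact y3 (by
          calc z * y = z * (y * z⁻¹ * y⁻¹) * (y * z) := by group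
            _ = _ := by rw [s, one_mul])) hy
    obtain ⟨a, ha, a1⟩ : ∃ a ∈ V, a ∉ zpowers J := by
      by_contra c
      push Not at c
      have := card_le_of_le (show V ≤ zpowers J from c)
      rw [Nat.card_zpowers, W.o2 J2 J1] at this
      omega
    refine le_bot_iff.1 fun y hy => sq1 y hy ?_
    have e1 := inv J J2 J1 y hy
    have e2 := inv a ((mV a).1 ha).2 (fun e => a1 (e ▸ one_mem _)) _ (inv_mem hy)
    have e3 := inv (a * J) ((mV _).1 (mul_mem ha JV)).2 (fun e => a1 (by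
      rw [eq_inv_of_mul_eq_one_left e]; exact inv_mem (mem_zpowers J))) y hy
    rw [show a * J * y * (a * J)⁻¹ = a * (J * y * J⁻¹) * a⁻¹ by group, e1, e2, inv_inv] at e3
    exact eq_inv_iff_mul_eq_one.1 e3
  obtain ⟨F, _, _, hF, N, hN, ⟨e⟩, cN⟩ := W.solv_cen as hO (fun t ht =>
    isSolvable_of_card_eq_prime_pow_mul Nat.prime_two Nat.prime_three 3 1 (sol t ht))
    fun c => hns (Group.isSolvable_of_surjective (f := (⊤ : Subgroup G).subtype)
      fun x => ⟨⟨x, trivial⟩, rfl⟩)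
  have cF : 4 ≤ Fintype.card F := by
    rcases hF with h | ⟨n, a, b⟩
    · omega
    · exact b ▸ Nat.pow_le_pow_right (n := 2) (by norm_num) a
  haveI : IsSimpleGroup N := by
    haveI := psl_simple (ι := Fin 2) (F := F) (Or.inr ⟨by simp, by
      by_contra c
      push Not at c
      classical
      have : (Finset.univ : Finset F) ⊆ {0, 1, -1} := fun a _ => by
        by_cases a0 : a = 0
        · simp [a0]
        · simpa [a0] using sq_eq_one_iff.1 (c a a0)
      have := (Finset.card_le_card this).trans Finset.card_le_three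
      rw [Finset.card_univ] at this
      omega⟩)
    exact e.isSimpleGroup
  have nc : ¬ IsMulCommutative N := fun c => by
    have : N ≤ Cen N := le_centralizer_iff_isMulCommutative.2 c
    rw [cN, le_bot_iff] at this
    subst this
    exact not_nontrivial _ (IsSimpleGroup.toNontrivial (G := (⊥ : Subgroup G)))
  have ev : 2 ∣ Nat.card N := by
    by_contra c
    have := le_Oo le_top le_normalizer_of_normal (Nat.odd_iff.2 (by omega : Nat.card N % 2 = 1))
    rw [hO, le_bot_iff] at this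
    subst this
    exact not_nontrivial _ (IsSimpleGroup.toNontrivial (G := (⊥ : Subgroup G)))
  have VN : V ≤ N := fun x hx => by
    obtain ⟨t, ht⟩ := exists_prime_orderOf_dvd_card' 2 ev
    have t2 : (t : G) * t = 1 := by rw [← coe_mul, ← pow_two, ← ht, pow_orderOf_eq_one, coe_one]
    by_cases x1 : x = 1
    · exact x1 ▸ one_mem _
    obtain ⟨g, rfl⟩ := isConj_iff.1 ((one t t2 fun c => by
      rw [show t = 1 from Subtype.ext c] at ht; simp at ht).symm.trans (one x ((mV x).1 hx).2 x1))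
    exact hN.conj_mem _ t.2 g
  have asN : W.AS (V.subgroupOf N) ⊤ := (as.of_le VN le_top).sub
  have c8' : Nat.card (V.subgroupOf N) = 8 :=
    (Nat.card_congr (subgroupOfEquivOfLe VN).toEquiv).trans c8
  have c8N : 8 ∣ Nat.card N := c8 ▸ card_dvd_of_le VN
  have n16 : ¬ 16 ∣ Nat.card N := fun c => iV (by
    have := c.trans N.card_subgroup_dvd_card
    rw [← V.card_mul_index, c8] at this
    omega)
  have F8 : Fintype.card F = 8 := by
    rw [Nat.card_congr e.toEquiv] at c8N n16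
    rcases hF with ⟨h, -⟩ | ⟨n, a, b⟩
    · have := card_psl (F := F) (Nat.odd_iff.2 (by omega))
      obtain ⟨k, hk⟩ := c8N
      obtain ⟨q, hq⟩ : ∃ q, Fintype.card F = q + 1 := ⟨Fintype.card F - 1, by omega⟩
      rw [hk, hq, show (q + 1) ^ 2 - 1 = q * (q + 2) from Nat.sub_eq_of_eq_add (by ring)] at this
      have e16 : (q + 1) * (q * (q + 2)) % 16 = 0 := by omega
      rw [Nat.mul_mod, Nat.mul_mod q, Nat.add_mod q 1, Nat.add_mod q 2] at e16
      have : q % 16 = 2 ∨ q % 16 = 10 ∨ q % 16 = 4 ∨ q % 16 = 12 := by omega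
      rcases this with r | r | r | r <;> simp [r] at e16
    · rw [W.card_psl_even b, b] at c8N n16
      rw [b]
      have a1 : n < 4 := by
        by_contra c
        exact n16 ((Nat.pow_dvd_pow 2 (not_lt.1 c)).mul_right _)
      interval_cases n
      · norm_num at c8N
      · rfl
  have cN' : Nat.card N = 504 := by
    rw [Nat.card_congr e.toEquiv, W.card_psl_even (n := 3) F8, F8]; rfl
  have cenN : ∀ t : N, Nat.card (Cen1 t) ∣ Nat.card (Cen1 (t : G)) := fun t =>
    card_dvd_of_injective ((N.subtype.comp (Cen1 t).subtype).codRestrict (Cen1 (t : G))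
      fun x => W.c1_sub.1 x.2) fun x y h => Subtype.ext (Subtype.ext (Subtype.mk.inj h))
  have n7 := W.nc7 nc asN c8' fun t ht => isSolvable_of_card_dvd_prime_pow_mul Nat.prime_two
    Nat.prime_three 3 1 _ _ rfl ((cenN t).trans (sol t ((orderOf_coe t).trans ht)).dvd)
  have cV : Cen (V.subgroupOf N) = V.subgroupOf N := le_antisymm (fun x hx => by
    have k : ∀ y ∈ V, (x : G) * y = y * x := fun y hy =>
      congrArg Subtype.val (hx ⟨y, VN hy⟩ hy).symm
    refine (mV x).2 ⟨k J JV, ?_⟩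
    by_contra c
    obtain ⟨y, y1, y2, y3⟩ := h.nc x (k J JV) c
    exact y3 (k y ((mV y).2 ⟨y1, y2⟩))) (asN.cen le_rfl)
  have c56 : Nat.card (Nor (V.subgroupOf N)) = 56 := by
    have := H5.card_inf_mul_relIndex (Cen (V.subgroupOf N)) (Nor (V.subgroupOf N))
    rw [n7, cV, inf_eq_left.2 le_normalizer, c8'] at this
    omega
  have cj : ∀ j ∈ V.subgroupOf N, j ≠ 1 → Cen1 j = V.subgroupOf N := fun j hj j1 => by
    have k := all j ((mV j).1 hj).2 fun c => j1 (Subtype.ext c)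
    obtain ⟨V', m', c'⟩ := k.ex
    obtain rfl : V = V' := eq_of_le_of_card_ge
      (fun x hx => (m' x).2 ⟨cmV x hx j hj, ((mV x).1 hx).2⟩) (by omega)
    have a : Cen1 j ≤ Nor (V.subgroupOf N) := fun x hx => mem_normalizer_fintype fun y hy => by
      have xj : (x : G) * j = j * x := c1.1 (W.c1_sub.1 hx)
      obtain ⟨y1, y2⟩ := (m' y).1 hy
      refine (m' _).2 ⟨?_, W.csq y2⟩
      calc (x : G) * y * (x : G)⁻¹ * j = x * y * ((x : G)⁻¹ * j * x) * (x : G)⁻¹ := by group
        _ = x * (y * j) * (x : G)⁻¹ := by rw [mul_assoc (x : G)⁻¹, ← xj]; group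
        _ = j * (x * y * (x : G)⁻¹) := by rw [y1, ← mul_assoc, xj]; group
    have b := Nat.dvd_gcd (card_dvd_of_le a) (cenN j)
    rw [c56, k.card] at b
    exact (eq_of_le_of_card_ge (asN.c1 hj) (c8' ▸ Nat.le_of_dvd (by norm_num) b)).symm
  obtain ⟨P, hP⟩ := asN.syl.exists_sylow_top
  have bd := card_mulAut_le cN' P (hP ▸ c8') (by rw [← c56, ← hP]; rfl) (hP ▸ cj)
    fun p hp => Subtype.ext ((mV p).1 (show p ∈ V.subgroupOf N from hP ▸ hp)).2
  have lb : 1512 ≤ Nat.card G := by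
    have a := H7.card_sup_mul_card_inf (A := Cen1 J) (B := N) le_normalizer_of_normal
    have b : Cen1 J ⊓ N = V := le_antisymm (fun x hx => by
      have : (⟨x, hx.2⟩ : N) ∈ Cen1 (⟨J, VN JV⟩ : N) := W.c1_sub.2 hx.1
      rwa [cj _ JV fun c => J1 (congrArg Subtype.val c)] at this) (le_inf VC VN)
    rw [b, c8, h.card, cN'] at a
    have := (Cen1 J ⊔ N).card_le_card_group
    omega
  have inj : Function.Injective (MulAut.conjNormal : G →* MulAut N) := by
    rw [injective_iff_map_eq_one]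
    intro g hg
    rw [← mem_bot, ← cN]
    intro y hy
    have := congrArg (fun α : MulAut N => (α ⟨y, hy⟩ : G)) hg
    exact (mul_inv_eq_iff_eq_mul.1 this).symm
  exact ⟨F, _, _, F8, ⟨(MulEquiv.ofBijective _ (inj.bijective_of_nat_card_le
    (bd.trans lb))).trans (MulAut.congr e)⟩⟩

theorem alt_small : ∀ m ≤ 3, ∀ a : alternatingGroup (Fin m), a * a = 1 → a = 1 := by
  intro m hm
  interval_cases m <;> decide +kernel

theorem alt4 : (∀ a b : alternatingGroup (Fin 4), a * a = 1 → b * b = 1 → a * b = b * a ∧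
      (a ≠ 1 → b ≠ 1 → ∃ c, c * a = b * c)) ∧
    (∀ a : alternatingGroup (Fin 4), a * a ≠ 1 → ∃ b, b * b = 1 ∧ a * b ≠ b * a) ∧
    (Finset.univ.filter fun a : alternatingGroup (Fin 4) => a * a = 1).card = 4 ∧
    Fintype.card (alternatingGroup (Fin 4)) = 12 := by
  refine ⟨fun a b => ?_, by decide +kernel, by decide +kernel, by decide +kernel⟩
  have h1 : ∀ a b : alternatingGroup (Fin 4), a * a = 1 → b * b = 1 → a * b = b * a := by
    decide +kernel
  have h2 : ∀ a b : alternatingGroup (Fin 4), a * a = 1 ∧ b * b = 1 ∧ a ≠ 1 ∧ b ≠ 1 →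
      ∃ c, c * a = b * c := by decide +kernel
  exact fun x y => ⟨h1 a b x y, fun z w => h2 a b ⟨x, y, z, w⟩⟩

theorem alt5 (a b : alternatingGroup (Fin 5)) (h1 : a * a = 1) (h2 : b * b = 1) (h3 : a ≠ 1)
    (h4 : b ≠ 1) : IsConj a b := by
  have k : ∀ a : alternatingGroup (Fin 5), a * a = 1 → a ≠ 1 → IsConj JK.v5 a := fun a h1 h3 => by
    have := JK.cls5_conj a
    rw [JK.cls5, if_neg h3, if_pos h1] at this
    exact JK.isConj_of_mul this
  exact (k a h1 h3).symm.trans (k b h2 h4)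

theorem two_times_alt (hns : ¬ Group.IsSolvable G) (h2 : ∀ N : Subgroup G, N.Normal → N.index ≠ 2)
    (J : G) (hJ : IsTwoCentralInvolution J) (m : ℕ) (T : Subgroup G)
    (hT : Nonempty (T ≃* alternatingGroup (Fin m)))
    (hd : IsInternalDirectProduct (zpowers J) T (Cen1 J)) :
    (m = 4 ∧ ∃ (F : Type) (_ : Field F) (_ : Fintype F), Fintype.card F = 8 ∧
        Nonempty (G ≃* MulAut (Matrix.ProjectiveSpecialLinearGroup (Fin 2) F))) ∨
      (m = 5 ∧ Spor.IsoJ1 G) := by
  classical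
  obtain ⟨oJ, P, -, hP⟩ := hJ
  obtain ⟨-, TC, d3, d4, d5⟩ := hd
  obtain ⟨e⟩ := hT
  have J2 : J * J = 1 := by rw [← pow_two, ← oJ, pow_orderOf_eq_one]
  have J1 : J ≠ 1 := by rintro rfl; simp at oJ
  have JT : J ∉ T := fun c => J1 (mem_bot.1 (d4 ▸ ⟨mem_zpowers J, c⟩))
  have nT : ∀ A ≤ T, zpowers J ≤ normalizer (A : Set G) := fun A hA x hx =>
    mem_normalizer_fintype fun y hy => by rwa [d3 x hx y (hA hy), mul_inv_cancel_right]
  have zp : ∀ x ∈ zpowers J, x = 1 ∨ x = J := fun x hx => by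
    obtain ⟨k, hk, rfl⟩ := Finset.mem_image.1 (mem_zpowers_iff_mem_range_orderOf.1 hx)
    rw [oJ, Finset.mem_range] at hk
    interval_cases k <;> simp
  have dec : ∀ g ∈ Cen1 J, g ∈ T ∨ J * g ∈ T := fun g hg => by
    obtain ⟨a, ha, b, hb, rfl⟩ := (H7.mem_sup_of_le_normalizer_right (nT T le_rfl)).1 (d5.ge hg)
    rcases zp a ha with rfl | rfl
    · exact Or.inl (by rwa [one_mul])
    · exact Or.inr (by rwa [← mul_assoc, J2, one_mul])
  have cs : ∀ A ≤ T, Nat.card ↥(zpowers J ⊔ A) = 2 * Nat.card A := fun A hA => by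
    have := H7.card_sup_mul_card_inf (nT A hA)
    rwa [le_bot_iff.1 (d4 ▸ inf_le_inf_left _ hA : zpowers J ⊓ A ≤ ⊥), card_bot, mul_one,
      Nat.card_zpowers, oJ] at this
  have cC : Nat.card (Cen1 J) = 2 * Nat.card T := d5 ▸ cs T le_rfl
  have ho : ¬ 2 ∣ (Cen1 J).index := fun c =>
    P.not_dvd_index (c.trans (index_dvd_of_le fun x hx => c1.2 (hP x hx)))
  have iT : T.index % 4 = 2 := by
    have a := T.card_mul_index
    rw [← (Cen1 J).card_mul_index, cC, mul_comm 2, mul_assoc] at a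
    have := Nat.eq_of_mul_eq_mul_left Nat.card_pos a
    omega
  have th := fun u (hu : u * u = 1) => H5.Dich.exists_conj_mem h2 T iT hu
  obtain ⟨g, hg⟩ := th J J2
  let ι : alternatingGroup (Fin m) →* G := T.subtype.comp e.symm.toMonoidHom
  have hι : Function.Injective ι := Subtype.val_injective.comp e.symm.injective
  have hm : ∀ a, ι a ∈ T := fun a => (e.symm a).2
  have hs : ∀ g ∈ T, ∃ a, ι a = g := fun g hg => ⟨e ⟨g, hg⟩, by simp [ι]⟩
  have sq : ∀ a, ι a * ι a = 1 ↔ a * a = 1 := fun a => by rw [← map_mul, map_eq_one_iff _ hι]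
  have cm : ∀ a b, ι a * ι b = ι b * ι a ↔ a * b = b * a := fun a b => by
    rw [← map_mul, ← map_mul, hι.eq_iff]
  obtain ⟨s, hs'⟩ := hs _ hg
  have s2 : s * s = 1 := (sq s).1 (by rw [hs']; simpa using W.csq (g := g⁻¹) J2)
  have s1 : s ≠ 1 := fun c => J1 (by
    rw [c, map_one] at hs'; simpa using conj_eq_one_iff.1 (show g⁻¹ * J * g⁻¹⁻¹ = 1 by simp [← hs']))
  have one : (∀ a : alternatingGroup (Fin m), a * a = 1 → a ≠ 1 → IsConj s a) →
      ∀ u : G, u * u = 1 → u ≠ 1 → IsConj J u := fun k u u2 u1 => by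
    obtain ⟨x, hx⟩ := th u u2
    obtain ⟨a, ha⟩ := hs _ hx
    have := ι.map_isConj (k a ((sq a).1 (by rw [ha]; simpa using W.csq (g := x⁻¹) u2))
      fun c => u1 (by
        rw [c, map_one] at ha; exact conj_eq_one_iff.1 (show x⁻¹ * u * x⁻¹⁻¹ = 1 by simp [← ha])))
    rw [hs', ha] at this
    exact (isConj_iff.2 ⟨g⁻¹, by simp⟩).trans (this.trans (isConj_iff.2 ⟨x, by group⟩))
  have sqT : ∀ z ∈ Cen1 J, J * z * (J * z) = z * z := fun z hz => by
    rw [mul_assoc, ← mul_assoc z, c1.1 hz, mul_assoc, ← mul_assoc, J2, one_mul]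
  rcases (by omega : m ≤ 3 ∨ m = 4 ∨ m = 5 ∨ 6 ≤ m) with c | rfl | rfl | c
  · exact absurd (alt_small m c s s2) s1
  · obtain ⟨a1, a2, a3, a4⟩ := alt4
    have red : ∀ x, x * J = J * x → ∃ a, (ι a * ι a = x * x) ∧
        ∀ y, y * J = J * y → (ι a * y = y * ι a ↔ x * y = y * x) := fun x hx => by
      rcases dec x (c1.2 hx) with k | k <;> obtain ⟨a, ha⟩ := hs _ k
      · exact ⟨a, by rw [ha], fun y _ => by rw [ha]⟩
      · refine ⟨a, by rw [ha, sqT x (c1.2 hx)], fun y hy => ?_⟩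
        rw [ha, ← mul_assoc, hy, mul_assoc, mul_assoc, mul_left_cancel_iff]
    have cmm : ∀ x y, x * J = J * x → y * J = J * y → x * x = 1 → y * y = 1 → x * y = y * x := by
      intro x y hx hy x2 y2
      obtain ⟨a, b1, b2⟩ := red x hx
      obtain ⟨b, b3, b4⟩ := red y hy
      rw [← b2 y hy, eq_comm, ← b4 _ (c1.1 (TC (hm a))), cm]
      exact (a1 b a ((sq b).1 (b3.trans y2)) ((sq a).1 (b1.trans x2))).1
    refine Or.inl ⟨rfl, aut_of_K24 hns J2 J1 ⟨?_, cmm, fun x hx x2 => ?_, ?_⟩ ho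
      (one fun a b c => JK.isConj_of_mul ((a1 s a s2 b).2 s1 c))⟩
    · rw [cC, Nat.card_congr e.toEquiv, Nat.card_eq_fintype_card, a4]
    · obtain ⟨a, b1, b2⟩ := red x hx
      obtain ⟨b, b3, b4⟩ := a2 a fun c => x2 (b1.symm.trans ((sq a).2 c))
      exact ⟨ι b, c1.1 (TC (hm b)), (sq b).2 b3, fun c =>
        b4 ((cm a b).1 ((b2 _ (c1.1 (TC (hm b)))).2 c))⟩
    · let V : Subgroup G :=
        { carrier := {x | x * J = J * x ∧ x * x = 1}
          one_mem' := by simp
          mul_mem' := fun {x y} hx hy => ⟨c1.1 (mul_mem (c1.2 hx.1) (c1.2 hy.1)), by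
            rw [mul_assoc, ← mul_assoc y, ← cmm x y hx.1 hy.1 hx.2 hy.2, mul_assoc, hy.2, mul_one,
              hx.2]⟩
          inv_mem' := fun {x} hx => by rwa [inv_eq_of_mul_eq_one_right hx.2] }
      have JV : J ∈ V := ⟨rfl, J2⟩
      have : V = zpowers J ⊔ (V ⊓ T) := le_antisymm (fun x hx => by
        rcases dec x (c1.2 hx.1) with k | k
        · exact mem_sup_right ⟨hx, k⟩
        · have := mul_mem (mem_sup_left (mem_zpowers J))
            (mem_sup_right ⟨mul_mem JV hx, k⟩ : J * x ∈ zpowers J ⊔ (V ⊓ T))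
          rwa [← mul_assoc, J2, one_mul] at this) (sup_le (zpowers_le.2 JV) inf_le_left)
      refine ⟨V, fun _ => Iff.rfl, ?_⟩
      rw [this, cs _ inf_le_right]
      have : Nat.card ↥(V ⊓ T) = 4 := by
        rw [← a3, ← Fintype.card_subtype, ← Nat.card_eq_fintype_card]
        refine (Nat.card_congr (Equiv.ofBijective (fun a : {a // a * a = 1} =>
          (⟨ι a, ⟨c1.1 (TC (hm a)), (sq a).2 a.2⟩, hm a⟩ : ↥(V ⊓ T))) ⟨fun a b h => ?_,
            fun x => ?_⟩)).symm
        · exact Subtype.ext (hι (Subtype.mk.inj h))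
        · obtain ⟨a, ha⟩ := hs _ x.2.2
          exact ⟨⟨a, (sq a).1 (ha ▸ x.2.1.2)⟩, Subtype.ext ha⟩
      rw [this]
  · have := Fintype.ofFinite G
    obtain ⟨Φ, h⟩ := JK.exists_JS J2 ⟨e⟩ JT TC dec (one fun a b c => alt5 s a s2 b s1 c)
    exact Or.inr ⟨rfl, _root_.J1.iso_of_JS' h⟩
  · have := mem_of_sq (N := ((T.comap (MulAut.conj g).toMonoidHom).comap ι).map
      (alternatingGroup (Fin m)).subtype) (s := s.1) (by simpa using c) (congrArg Subtype.val s2)
      (Equiv.Perm.mem_alternatingGroup.1 s.2) fun x hx hc => by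
        rw [← Equiv.Perm.mem_alternatingGroup] at hx
        refine ⟨⟨x, hx⟩ * ⟨x, hx⟩, ?_, rfl⟩
        have k : g * ι ⟨x, hx⟩ * g⁻¹ ∈ Cen1 J := c1.2 (by
          have := (cm ⟨x, hx⟩ s).2 (Subtype.ext hc)
          rw [hs'] at this
          calc g * ι ⟨x, hx⟩ * g⁻¹ * J = g * (ι ⟨x, hx⟩ * (g⁻¹ * J * g)) * g⁻¹ := by group
            _ = _ := by rw [this]; group)
        show MulAut.conj g (ι (⟨x, hx⟩ * ⟨x, hx⟩)) ∈ T
        rw [map_mul, map_mul]
        rcases dec _ k with l | l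
        · exact mul_mem l l
        · exact sqT _ k ▸ mul_mem l l
    obtain ⟨a, ha, e'⟩ := this
    obtain rfl : a = s := Subtype.ext e'
    have : g * ι a * g⁻¹ ∈ T := ha
    rw [hs'] at this
    exact absurd (by simpa [mul_assoc] using this) JT

end H8
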