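import Cfsg.Agent.H8.N21
import Cfsg.Agent.FT.CF5

/-!
Brauer's theorem on groups with few Sylow subgroups of prime order: the degrees in the principal
block.
-/

set_option autoImplicit false
set_option linter.unusedVariables false
set_option linter.style.haveILetI false
set_option linter.unusedSectionVars false

namespace H8

open Subgroup Cfsg
open scoped ComplexConjugate Classical

universe u

theorem few_num_aux {p n m m' : ℕ} (hp : 2 ≤ p) (hn : 2 * n < p + 3)
    (h : m * m' = (p - 1) * (n * p + 1)) (h1 : m ≡ 1 [MOD p]) : m = 1 ∨ m = n * p + 1 := by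
  obtain ⟨q, rfl⟩ : ∃ q, p = q + 1 := ⟨p - 1, by omega⟩
  rw [Nat.add_sub_cancel] at h
  have hm0 : 0 < m := Nat.pos_of_ne_zero fun e => by
    rw [e, zero_mul] at h; exact absurd h.symm (Nat.mul_ne_zero (by omega) (by omega))
  obtain ⟨u, hu⟩ := (Nat.modEq_iff_dvd' hm0).mp h1.symm
  obtain rfl : m = (q + 1) * u + 1 := by omega
  have h2 : (q + 1) ∣ m' + 1 := by
    have : m' + 1 + (q + 1) * (u * m') = (q + 1) * (q * n + 1) := by nlinarith
    exact (Nat.dvd_add_left (dvd_mul_right _ _)).mp (this ▸ dvd_mul_right _ _)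
  obtain ⟨v, hv⟩ := h2
  have h3 : (m' : ℤ) = (q + 1) * v - 1 := by
    have : (m' : ℤ) + 1 = (q + 1) * v := by exact_mod_cast hv
    linarith
  have h4 : (((q + 1) * u + 1) * ((q + 1) * v - 1) : ℤ) = q * (n * (q + 1) + 1) := by
    rw [← h3]; exact_mod_cast h
  have h5 : ((n : ℤ) - u * v) * q = (u + 1) * (v - 1) := by
    have : ((q : ℤ) + 1) * (((n : ℤ) - u * v) * q) = (q + 1) * ((u + 1) * (v - 1)) := by
      linear_combination -h4
    exact mul_left_cancel₀ (by positivity) this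
  have hq : (1 : ℤ) ≤ q := by exact_mod_cast (by omega : 1 ≤ q)
  have hv1 : (1 : ℤ) ≤ v := by
    rcases v with _ | v
    · omega
    · push_cast; omega
  have hn' : (2 * n : ℤ) < q + 4 := by exact_mod_cast hn
  by_cases hu0 : u = 0
  · left; simp [hu0]
  have hu1 : (1 : ℤ) ≤ u := by exact_mod_cast Nat.pos_of_ne_zero hu0
  right
  obtain ⟨k, hk⟩ : ∃ k : ℤ, k = n - u * v := ⟨_, rfl⟩
  rw [← hk] at h5
  have hk0 : 0 ≤ k := by
    by_contra c
    have : k * q < 0 := mul_neg_of_neg_of_pos (not_le.mp c) (by omega)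
    have : (0 : ℤ) ≤ (u + 1) * (v - 1) := mul_nonneg (by omega) (by omega)
    omega
  rcases hk0.eq_or_lt with e | e
  · rw [← e, zero_mul] at h5
    have : (v : ℤ) = 1 := by
      rcases mul_eq_zero.mp h5.symm with a | a <;> omega
    have : (n : ℤ) = u := by rw [this] at hk; omega
    have : n = u := by exact_mod_cast this
    rw [this, mul_comm]
  · exfalso
    have a1 : 2 * ((v : ℤ) - 1) ≤ k * q := by nlinarith
    have a2 : (n : ℤ) = k * q + u + 1 - v + k := by linear_combination -hk - h5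
    nlinarith

theorem few_num_pos {p n m : ℕ} (hp : 2 ≤ p) (hn : 2 * n < p + 3)
    (h : m ∣ (p - 1) * (n * p + 1)) (h1 : (p : ℤ) ∣ m - 1) : m = 1 ∨ m = n * p + 1 :=
  let ⟨_, e⟩ := h
  few_num_aux hp hn e.symm (Nat.modEq_iff_dvd.mpr (by simpa using h1)).symm

theorem few_num_neg {p n m : ℕ} (hp : 2 ≤ p) (hn : 2 * n < p + 3)
    (h : m ∣ (p - 1) * (n * p + 1)) (h1 : (p : ℤ) ∣ m + 1) :
    m = p - 1 ∨ m = (p - 1) * (n * p + 1) := by
  obtain ⟨m', e⟩ := h
  have h2 : (p : ℤ) ∣ m' - 1 := by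
    have e' : ((p : ℤ) - 1) * (n * p + 1) = m * m' := by
      have : (((p - 1 : ℕ) : ℤ)) = p - 1 := by omega
      rw [← this]; exact_mod_cast e
    have : (m' : ℤ) - 1 = (m + 1) * m' - p * (n * p + 1 - n) := by linear_combination e'
    exact this ▸ (h1.mul_right _).sub (dvd_mul_right _ _)
  rcases few_num_pos hp hn (Dvd.intro_left m e.symm) h2 with a | a
  · right; rw [e, a, mul_one]
  · left; rw [a] at e; exact (Nat.eq_of_mul_eq_mul_right (by omega) e).symm

variable {G : Type u} [Group G] [Fintype G] {p : ℕ} [hp : Fact p.Prime] {x : G} {h : DefOne p x}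

theorem eq_one_of_deg (hG : _root_.commutator G = ⊤) {χ : IrrCharacter G} (h1 : deg χ = 1) :
    χ = ⟨1, irr_one⟩ := by
  by_contra c
  have := two_le_deg hG c
  omega

namespace DefOne.Block
variable (b : h.Block) (hG : _root_.commutator G = ⊤) {n : ℕ} (hN : (Nx x).index = n * p + 1)
  (hn : 2 * n < p + 3) (hb : Nat.card G < (p - 1) * Nat.card h.H * (n * p + 1) ^ 2)
include hG hN hn hb

theorem index_Cx_dvd : (Cx x).index ∣ (p - 1) * (n * p + 1) := by
  rw [h.index_Cx, hN, mul_comm]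
  exact Nat.mul_dvd_mul_right h.card_H_dvd _

theorem sum_deg_sq_le (k : (ZMod p)ˣ) :
    ∑ χ ∈ b.B, deg χ * deg χ + b.E.card * (deg (b.ex k) * deg (b.ex k)) ≤ Nat.card G := by
  have := b.sum_sq_le k (g := 1) (by simpa using hp.out.ne_one) (fun χ => deg χ)
    fun χ => by simp [deg_eq]
  rw [show Cx (1 : G) = ⊤ from eq_top_iff.mpr fun g _ => by simp [mem_Cx], card_top] at this
  exact_mod_cast this

theorem deg_pos_sgn {χ : IrrCharacter G} (hχ : χ ∈ b.B) (h1 : b.sgn χ = 1) :
    χ = ⟨1, irr_one⟩ ∨ deg χ = n * p + 1 := by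
  obtain ⟨k, hk⟩ := b.deg_modEq hχ
  refine (few_num_pos hp.out.two_le hn ((b.deg_dvd hχ).trans (index_Cx_dvd hG hN hn hb))
    ⟨k - 1, by rw [h1] at hk; linear_combination hk⟩).imp_left (eq_one_of_deg hG)

theorem deg_neg_sgn {χ : IrrCharacter G} (hχ : χ ∈ b.B) (h1 : b.sgn χ = -1) : deg χ = p - 1 := by
  obtain ⟨k, hk⟩ := b.deg_modEq hχ
  refine (few_num_neg hp.out.two_le hn ((b.deg_dvd hχ).trans (index_Cx_dvd hG hN hn hb))
    ⟨k + 1, by rw [h1] at hk; linear_combination hk⟩).resolve_right fun e => ?_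
  have a1 := (Finset.single_le_sum (f := fun χ => deg χ * deg χ) (fun _ _ => Nat.zero_le _)
    hχ).trans ((Nat.le_add_right _ _).trans (b.sum_deg_sq_le hG hN hn hb 1))
  have a2 := Nat.le_of_dvd (by have := hp.out.two_le; omega) h.card_H_dvd
  have a3 : (p - 1) * Nat.card h.H * (n * p + 1) ^ 2 ≤ (p - 1) * (p - 1) * (n * p + 1) ^ 2 := by
    gcongr
  simp only [e] at a1
  nlinarith

theorem card_E_mul_deg_dvd (k : (ZMod p)ˣ) :
    b.E.card * deg (b.ex k) ∣ (p - 1) * (n * p + 1) := by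
  rw [← b.card_E_mul, mul_assoc, mul_comm (Nat.card h.H), ← hN, ← h.index_Cx]
  exact Nat.mul_dvd_mul_left _ (b.deg_ex_dvd k)

theorem deg_ex_pos (k : (ZMod p)ˣ) (h1 : b.sgn0 = 1) : b.E.card * deg (b.ex k) = n * p + 1 := by
  obtain ⟨j, hj⟩ := b.deg_ex_modEq k
  have e : (b.E.card : ℤ) * Nat.card h.H = p - 1 := by
    have := b.card_E_mul
    have := hp.out.pos
    zify [this] at *; assumption
  refine (few_num_pos hp.out.two_le hn (b.card_E_mul_deg_dvd hG hN hn hb k)
    ⟨b.E.card * j - 1, by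
      rw [h1] at hj; push_cast; linear_combination b.E.card * hj - e⟩).resolve_left fun c => ?_
  exact b.ex_ne_one k (eq_one_of_deg hG (Nat.eq_one_of_mul_eq_one_left c))

theorem deg_ex_neg (k : (ZMod p)ˣ) (h1 : b.sgn0 = -1) : deg (b.ex k) = Nat.card h.H := by
  obtain ⟨j, hj⟩ := b.deg_ex_modEq k
  have e0 := b.card_E_mul
  have e : (b.E.card : ℤ) * Nat.card h.H = p - 1 := by
    have := hp.out.pos
    zify [this] at *; assumption
  have ht : 0 < b.E.card := Nat.pos_of_ne_zero fun c => by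
    have := hp.out.two_le
    rw [c] at e0; omega
  rcases few_num_neg hp.out.two_le hn (b.card_E_mul_deg_dvd hG hN hn hb k)
    ⟨b.E.card * j + 1, by
      rw [h1] at hj; push_cast; linear_combination b.E.card * hj + e⟩ with c | c
  · exact Nat.eq_of_mul_eq_mul_left ht (c.trans e0.symm)
  · rw [← e0, mul_assoc] at c
    have a1 := (Nat.le_add_left _ _).trans (b.sum_deg_sq_le hG hN hn hb k)
    rw [Nat.eq_of_mul_eq_mul_left ht c] at a1
    rw [← e0] at hb
    nlinarith

end DefOne.Block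

end H8
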