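import Cfsg.Agent.H8.Few1

/-!
Brauer's theorem on groups with few Sylow subgroups of prime order: the characters induced from
the normaliser.
-/

set_option autoImplicit false
set_option linter.unusedVariables false
set_option linter.style.haveILetI false
set_option linter.unusedSectionVars false

namespace H8

open Subgroup Cfsg
open scoped ComplexConjugate Classical commutatorElement

universe u

variable {G : Type u} [Group G] [Fintype G] {p : ℕ} [hp : Fact p.Prime] {x : G} {h : DefOne p x}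

theorem DefOne.Block.sum_inner (b : h.Block) {f : G → ℂ} (hf : IsClassFunction G f) {c : ℂ}
    (hc : ∀ i : ZMod p, i ≠ 0 → ∀ v ∈ h.V, f (xp x i * v) = c) (k : (ZMod p)ˣ) :
    ∑ χ ∈ b.B, b.sgn χ * classInner f χ + b.sgn0 * classInner f (b.ex k) = c := by
  have h1 := h.classInner_Theta_of_const k hf (fun _ => c) hc
  have hp0 : (p : ℂ) ≠ 0 := by exact_mod_cast hp.out.ne_zero
  rw [← Finset.sum_mul, Finset.sum_sub_distrib, sum_psi_mul, if_neg k.ne_zero, Finset.sum_const,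
    Finset.card_univ, ZMod.card, nsmul_eq_mul, mul_one, sub_zero, inv_mul_cancel_left₀ hp0,
    ← conj_classInner, b.Theta_eq, classInner_add_right, classInner_sum_right] at h1
  simpa [classInner_smul_right] using (starRingEnd ℂ).injective h1

theorem eq_sum_of_coeff {Φ : G → ℂ} {m : IrrCharacter G → ℕ}
    (hm : Φ = ∑ χ : IrrCharacter G, (m χ : ℂ) • (χ : G → ℂ)) (S : Finset (IrrCharacter G))
    (h1 : ∀ χ ∈ S, m χ ≠ 0) (h2 : Φ 1 = (∑ χ ∈ S, deg χ : ℕ)) : Φ = ∑ χ ∈ S, (χ : G → ℂ) := by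
  have h3 : ∑ χ, m χ * deg χ = ∑ χ, (if χ ∈ S then 1 else 0) * deg χ := by
    have := congrFun hm 1
    rw [h2, Finset.sum_apply] at this
    simp only [Pi.smul_apply, deg_eq, smul_eq_mul] at this
    simp only [ite_mul, one_mul, zero_mul, Finset.sum_ite_mem, Finset.univ_inter]
    exact_mod_cast this.symm
  have h4 := (Finset.sum_eq_sum_iff_of_le (s := Finset.univ)
    (f := fun χ => (if χ ∈ S then 1 else 0) * deg χ) (g := fun χ => m χ * deg χ) fun χ _ =>
      Nat.mul_le_mul_right _ (by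
        split_ifs with c
        · exact Nat.pos_of_ne_zero (h1 χ c)
        · exact Nat.zero_le _)).mp h3.symm
  rw [hm, ← Finset.univ_inter S, ← Finset.sum_ite_mem]
  refine Finset.sum_congr rfl fun χ c => ?_
  rw [← Nat.eq_of_mul_eq_mul_right (deg_pos χ) (h4 χ c)]
  split_ifs <;> simp

/-- the hypothesis of Brauer's theorem -/
structure Few (h : DefOne p x) (n : ℕ) : Prop where
  perf : _root_.commutator G = ⊤
  V_eq : h.V = ⊥
  index : (Nx x).index = n * p + 1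
  lt : 2 * n < p + 3
  pos : 0 < n

namespace Few
variable {n : ℕ} (f : Few h n) (b : h.Block)
include f

theorem card_G : Nat.card G = (n * p + 1) * (p * Nat.card h.H) := by
  rw [h.card_eq, f.index, f.V_eq, card_bot, mul_one]

theorem bound : Nat.card G < (p - 1) * Nat.card h.H * (n * p + 1) ^ 2 := by
  have h1 := hp.out.two_le
  have h2 := f.pos
  have h3 : 0 < Nat.card h.H := Nat.card_pos
  have h4 : p < (p - 1) * (n * p + 1) :=
    lt_of_lt_of_le (by nlinarith) (Nat.le_mul_of_pos_left _ (by omega))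
  rw [f.card_G]
  calc _ = (n * p + 1) * Nat.card h.H * p := by ring
    _ < (n * p + 1) * Nat.card h.H * ((p - 1) * (n * p + 1)) := by gcongr
    _ = _ := by ring

theorem decomp {Φ : G → ℂ} (hΦ : IsCharacter G Φ) (h1 : Φ 1 = (n * p + 1 : ℕ))
    (hv : ∀ i : ZMod p, i ≠ 0 → Φ (xp x i) = 1) :
    (∃ χ ∈ b.B, χ ≠ ⟨1, irr_one⟩ ∧ Φ = χ) ∨ (b.sgn0 = 1 ∧ Φ = ∑ θ ∈ b.E, (θ : G → ℂ)) ∨
      (classInner Φ 1 ≠ 0 ∧ (classInner Φ 1 = 1 → ∀ χ : IrrCharacter G,
        (χ ∈ b.B ∧ χ ≠ ⟨1, irr_one⟩) ∨ χ ∈ b.E → classInner Φ χ = 0)) := by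
  obtain ⟨m, hm, e⟩ := char_exists_coeff hΦ
  have key : ∀ k, ∑ χ ∈ b.B, b.sgn χ * m χ + b.sgn0 * m (b.ex k) = 1 := fun k => by
    have := b.sum_inner (char_isClassFunction hΦ) (c := 1) (fun i hi v hv' => by
      rw [f.V_eq, mem_bot] at hv'; rw [hv', mul_one, hv i hi]) k
    simp only [hm] at this
    exact_mod_cast this
  by_cases c1 : ∃ χ ∈ b.B, χ ≠ ⟨1, irr_one⟩ ∧ b.sgn χ = 1 ∧ m χ ≠ 0
  · obtain ⟨χ, a1, a2, a3, a4⟩ := c1
    refine Or.inl ⟨χ, a1, a2, ?_⟩
    simpa using eq_sum_of_coeff e {χ} (by simpa using a4) (by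
      rw [h1, Finset.sum_singleton,
        (b.deg_pos_sgn f.perf f.index f.lt f.bound a1 a3).resolve_left a2])
  by_cases c2 : b.sgn0 = 1 ∧ m (b.ex 1) ≠ 0
  · refine Or.inr (Or.inl ⟨c2.1, eq_sum_of_coeff e _ (fun θ hθ => ?_) ?_⟩)
    · obtain ⟨k, rfl⟩ := b.mem_E.mp hθ
      have a1 := key k
      have a2 := key 1
      rw [c2.1] at a1 a2
      have := c2.2
      omega
    · rw [h1, b.sum_E_reg 1 _ fun l => b.deg_ex l 1, smul_eq_mul,
        b.deg_ex_pos f.perf f.index f.lt f.bound 1 c2.1]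
  have d1 : ∀ χ ∈ b.B.erase ⟨1, irr_one⟩, b.sgn χ * m χ = -m χ := fun χ hχ => by
    obtain ⟨a1, a2⟩ := Finset.mem_erase.mp hχ
    rcases b.sgn_eq χ a2 with a | a
    · have : m χ = 0 := by_contra fun c => c1 ⟨χ, a2, a1, a, c⟩
      simp [this]
    · simp [a]
  have d2 : ∀ k, b.sgn0 * m (b.ex k) = -m (b.ex k) := fun k => by
    rcases b.sgn0_eq with a | a
    · have a1 := key k
      have a2 := key 1
      have : m (b.ex 1) = 0 := by_contra fun c => c2 ⟨a, c⟩
      rw [a] at a1 a2 ⊢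
      omega
    · simp [a]
  have d3 : ∀ k, (m ⟨1, irr_one⟩ : ℤ) = 1 + (∑ χ ∈ b.B.erase ⟨1, irr_one⟩, m χ : ℕ) + m (b.ex k) :=
    fun k => by
      have := key k
      rw [← Finset.add_sum_erase _ _ b.one_mem, Finset.sum_congr rfl d1, d2, b.sgn_one,
        Finset.sum_neg_distrib] at this
      push_cast; linarith
  have d4 : classInner Φ 1 = m ⟨1, irr_one⟩ := hm ⟨1, irr_one⟩
  refine Or.inr (Or.inr ⟨?_, fun c χ hχ => ?_⟩)
  · have := d3 1
    rw [d4]; exact_mod_cast (by omega : m ⟨1, irr_one⟩ ≠ 0)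
  have d5 : m ⟨1, irr_one⟩ = 1 := by exact_mod_cast d4.symm.trans c
  rw [hm, Nat.cast_eq_zero]
  rcases hχ with ⟨a1, a2⟩ | a
  · have := d3 1
    exact Finset.sum_eq_zero_iff.mp (by omega) χ (Finset.mem_erase.mpr ⟨a2, a1⟩)
  · obtain ⟨k, rfl⟩ := b.mem_E.mp a
    have := d3 k
    omega

theorem Cx_eq : Cx x = zpowers x :=
  le_antisymm (fun g hg => h.mem_zpowers_iff.mpr (h.mem_zpowers_of_V_eq_bot f.V_eq hg))
    (zpowers_le.mpr self_mem_Cx)

theorem P_le : zpowers x ≤ Nx x := le_normalizer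

theorem der_le : ⁅Nx x, Nx x⁆ ≤ zpowers x := commutator_le.mpr fun a ha c hc => by
  rw [← f.Cx_eq]
  have := (h.nu_eq_one_iff ⁅(⟨a, ha⟩ : Nx x), ⟨c, hc⟩⁆).mp (by
    rw [map_commutatorElement, commutatorElement_eq_one_iff_mul_comm, mul_comm])
  exact this

theorem card_N : Nat.card (Nx x) = p * Nat.card h.H := by
  rw [h.card_Nx, f.Cx_eq, h.card_zpowers]

theorem relIndex_P : (zpowers x).relIndex (Nx x) = Nat.card h.H := by
  have := H5.card_mul_relIndex f.P_le
  rw [f.card_N, h.card_zpowers] at this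
  exact Nat.eq_of_mul_eq_mul_left hp.out.pos this

theorem inf_cen {y : G} (hy : y ∉ zpowers x) : zpowers x ⊓ FT.Cen1 y = ⊥ :=
  eq_bot_iff.mpr fun g hg => by_contra fun c => hy (by
    have a1 : y ∈ centralizer ({g} : Set G) :=
      mem_centralizer_singleton_iff.mpr (mem_centralizer_singleton_iff.mp hg.2).symm
    rwa [← centralizer_zpowers, zpowers_eq_of_mem_of_card_prime h.card_zpowers hg.1 c,
      centralizer_zpowers, ← Cx, f.Cx_eq] at a1)

theorem ind_apply {μ : G → ℂ} (hμ : μ ∈ FT.irrK (Nx x) (zpowers x)) {i : ZMod p} (hi : i ≠ 0) :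
    FT.ind (Nx x) ⊤ μ (xp x i) = 1 := by
  have hl := FT.lin_of_mem_irrK f.der_le hμ
  have hk := (FT.mem_irrK.mp hμ).2
  have hx : xp x i ∈ zpowers x := h.mem_zpowers_iff.mpr ⟨i, rfl⟩
  rw [hl.on.ind_apply, Finset.sum_congr rfl (g := fun y => if y ∈ Nx x then 1 else 0) fun y _ => ?_,
    ← Finset.sum_filter, Finset.filter_filter, Finset.filter_congr (q := (· ∈ Nx x))
      fun y _ => by simp, FT.sum_mem_const, nsmul_eq_mul, mul_one,
    inv_mul_cancel₀ (FT.card_ne_zero' _)]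
  split_ifs with c
  · rw [FT.cfker_apply (hk (H5.inv_conj_mem_of_mem_normalizer c hx)), hl.apply_one]
  · refine hl.on _ fun e => c (inv_mem_iff.mp (h.mem_Nx_of_conj hi (h.mem_zpowers_of_mem_Nx
      (by simpa using e) ?_)))
    rw [conj_pow, orderOf_dvd_iff_pow_eq_one.mp (h.orderOf_xp hi).dvd]; simp

theorem ind_decomp {μ : G → ℂ} (hμ : μ ∈ FT.irrK (Nx x) (zpowers x)) (h1 : μ ≠ FT.one (Nx x)) :
    (∃ χ ∈ b.B, χ ≠ ⟨1, irr_one⟩ ∧ FT.ind (Nx x) ⊤ μ = χ) ∨
      (b.sgn0 = 1 ∧ FT.ind (Nx x) ⊤ μ = ∑ θ ∈ b.E, (θ : G → ℂ)) := by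
  have hl := FT.lin_of_mem_irrK f.der_le hμ
  rcases f.decomp b (FT.chr_top_iff.mp (hl.chr.ind le_top)) (by
    rw [FT.ind_apply_one le_top, hl.apply_one, relIndex_top_right, f.index, mul_one])
    (fun i => f.ind_apply hμ) with c | c | c
  · exact Or.inl c
  · exact Or.inr c
  · exact absurd (by rw [← FT.ip_top, ← FT.one_top, hl.irr.ip_ind_one le_top h1]) c.1

end Few

/-- the permutation character on the Sylow subgroups -/
noncomputable def permN (x : G) : G → ℂ := FT.ind (Nx x) ⊤ (FT.one (Nx x))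

theorem permN_apply (g : G) : permN x g = Nat.card (MulAction.fixedBy (G ⧸ Nx x) g) := by
  rw [← indFun_one_apply, permN, FT.ind_top_eq, FT.one, FT.rs_res]; rfl

theorem permN_chr : FT.Chr ⊤ (permN x) := (FT.chr_one _).ind le_top

namespace Few
variable {n : ℕ} (f : Few h n) (b : h.Block)
include f

theorem permN_one : permN x 1 = (n * p + 1 : ℕ) := by
  rw [permN, FT.ind_apply_one le_top, FT.one_one, relIndex_top_right, f.index, mul_one]

theorem permN_orth (χ : IrrCharacter G) (hχ : (χ ∈ b.B ∧ χ ≠ ⟨1, irr_one⟩) ∨ χ ∈ b.E) :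
    classInner (permN x) χ = 0 := by
  have h1 : classInner (permN x) 1 = 1 := by
    rw [← FT.ip_top, ← FT.one_top, permN, FT.ip_ind_left le_top _ (FT.cf_one _), ← FT.ip_res_right,
      FT.res_one_eq le_top, FT.ip_one_one]
  rcases f.decomp b (FT.chr_top_iff.mp permN_chr) f.permN_one
    (fun i => f.ind_apply (FT.one_mem_irrK f.P_le)) with ⟨ψ, a1, a2, a3⟩ | c | c
  · rw [a3, irr_classInner_of_ne ψ.2 irr_one fun e => a2 (Subtype.ext e)] at h1
    exact absurd h1 zero_ne_one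
  · rw [c.2, classInner_sum_left, Finset.sum_eq_zero fun θ hθ => irr_classInner_of_ne θ.2 irr_one
      fun e => by
        obtain ⟨k, rfl⟩ := b.mem_E.mp hθ
        exact b.ex_ne_one k (Subtype.ext e)] at h1
    exact absurd h1 zero_ne_one
  · exact c.2 h1 χ hχ

theorem ip_permN {μ : G → ℂ} (hμ : μ ∈ FT.irrK (Nx x) (zpowers x)) (h1 : μ ≠ FT.one (Nx x)) :
    FT.ip (Nx x) (permN x) μ = 0 := by
  obtain ⟨b⟩ := h.nonempty_block
  rw [← FT.ip_ind_right le_top _ permN_chr.cf, FT.ip_top]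
  rcases f.ind_decomp b hμ h1 with ⟨χ, a1, a2, a3⟩ | c
  · rw [a3, f.permN_orth b χ (Or.inl ⟨a1, a2⟩)]
  · rw [c.2, classInner_sum_right]
    exact Finset.sum_eq_zero fun θ hθ => f.permN_orth b θ (Or.inr hθ)

theorem ip_permN_one : FT.ip (Nx x) (permN x) (FT.one (Nx x)) = (n + 1 : ℕ) := by
  have h1 : FT.ip (zpowers x) (permN x) (FT.one (zpowers x)) = (n + 1 : ℕ) := by
    have hp0 : (p : ℂ) ≠ 0 := by exact_mod_cast hp.out.ne_zero
    have h7 : (1 : G) ∈ Finset.univ.filter (· ∈ zpowers x) := by simp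
    rw [FT.ip, ← Finset.add_sum_erase _ _ h7, Finset.sum_congr rfl (g := fun _ => 1) fun y hy => by
        obtain ⟨a1, a2⟩ := Finset.mem_erase.mp hy
        obtain ⟨i, rfl⟩ := h.mem_zpowers_iff.mp (Finset.mem_filter.mp a2).2
        rw [FT.one_of_mem (Finset.mem_filter.mp a2).2, permN, f.ind_apply (FT.one_mem_irrK f.P_le)
          fun e => a1 (h.xp_eq_one_iff.mpr e)]; simp,
      Finset.sum_const, Finset.card_erase_of_mem h7, FT.card_filter_mem, h.card_zpowers,
      f.permN_one, FT.one_one, nsmul_eq_mul, Nat.cast_sub hp.out.one_le]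
    push_cast; simp; field_simp
  rw [← h1, ← FT.ip_res_of_le f.P_le, ← FT.ip_ind_right f.P_le _ (permN_chr.cf.res le_top),
    ← FT.sum_irrK_of_der_le f.P_le f.der_le, FT.ip_sum_right, Finset.sum_eq_single_of_mem _
      (FT.one_mem_irrK f.P_le) fun μ a c => by rw [FT.ip_res_left, f.ip_permN a c],
    FT.ip_res_left]

theorem permN_N {y : G} (hy : y ∈ Nx x) (hy' : y ∉ zpowers x) : permN x y = (n + 1 : ℕ) := by
  rw [← FT.res_of_mem (permN x) hy, (permN_chr.cf.res le_top).apply_eq_sum,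
    Finset.sum_eq_single_of_mem _ (FT.mem_irrs.mpr (FT.irr_one _)) fun χ a c => ?_,
    FT.ip_res_left, f.ip_permN_one, FT.one_of_mem hy, mul_one]
  by_cases k : zpowers x ≤ FT.cfker (Nx x) χ
  · rw [FT.ip_res_left, f.ip_permN (FT.mem_irrK.mpr ⟨FT.mem_irrs.mp a, k⟩) c, zero_mul]
  · rw [(FT.mem_irrs.mp a).apply_eq_zero_of_reg f.P_le le_rfl k (f.inf_cen hy'), mul_zero]

theorem ip_permN_self : classInner (permN x) (permN x) = (n + 1 : ℕ) := by
  rw [← FT.ip_top, ← f.ip_permN_one]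
  exact FT.ip_ind_right le_top _ permN_chr.cf

end Few

end H8
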