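import Cfsg.Agent.H8.Few2

/-!
Brauer's theorem on groups with few Sylow subgroups of prime order: the case of an automiser of
odd order.
-/

set_option autoImplicit false
set_option linter.unusedVariables false
set_option linter.style.haveILetI false
set_option linter.unusedSectionVars false

namespace H8

open Subgroup Cfsg
open scoped ComplexConjugate Classical commutatorElement

universe u

variable {G : Type u} [Group G] [Fintype G] {p : ℕ} [hp : Fact p.Prime] {x : G} {h : DefOne p x}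

theorem orderOf_inv_conj (y g : G) : orderOf (y⁻¹ * g * y) = orderOf g := by
  simpa using (MulAut.conj y⁻¹).orderOf_eq g

theorem DefOne.exists_conj_sing (h : DefOne p x) {g : G} (hg : p ∣ orderOf g) :
    ∃ y : G, ∃ i : ZMod p, i ≠ 0 ∧ ∃ v ∈ h.V, y⁻¹ * g * y = xp x i * v := by
  obtain ⟨P, hP⟩ := h.exists_sylow
  have h1 := orderOf_pow_orderOf_div (orderOf_pos g).ne' hg
  obtain ⟨y, hy⟩ := exists_conj_mem_sylow P (k := 1) (h1.trans (pow_one p).symm)
  rw [hP] at hy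
  have h2 : y⁻¹ * g ^ (orderOf g / p) * y ≠ 1 := fun e => hp.out.ne_one (by
    rw [← h1, ← orderOf_inv_conj y, e, orderOf_one])
  have h3 : y⁻¹ * g * y ∈ Cx x := by
    rw [Cx, ← centralizer_zpowers, ← zpowers_eq_of_mem_of_card_prime h.card_zpowers hy h2,
      centralizer_zpowers, mem_centralizer_singleton_iff]
    group
  obtain ⟨v, hv, e⟩ := h.exists_decomp h3
  exact ⟨y, _, fun c => (h.mem_V'.mp (h.mem_V.mpr ⟨h3, c⟩)).2 (orderOf_inv_conj y g ▸ hg), v, hv, e⟩

theorem sum_deg_le {Φ : G → ℂ} (hΦ : IsCharacter G Φ) {d : ℕ} (hd : Φ 1 = d)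
    (S : Finset (IrrCharacter G)) (hS : ∀ χ ∈ S, classInner Φ χ ≠ 0) : ∑ χ ∈ S, deg χ ≤ d := by
  obtain ⟨m, hm, e⟩ := char_exists_coeff hΦ
  have h3 : ∑ χ, m χ * deg χ = d := by
    have := congrFun e 1
    rw [hd, Finset.sum_apply] at this
    simp only [Pi.smul_apply, deg_eq, smul_eq_mul] at this
    exact_mod_cast this.symm
  calc _ ≤ ∑ χ ∈ S, m χ * deg χ := Finset.sum_le_sum fun χ c => Nat.le_mul_of_pos_left _
        (Nat.pos_of_ne_zero fun e => hS χ c (by rw [hm, e, Nat.cast_zero]))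
    _ ≤ _ := h3 ▸ Finset.sum_le_sum_of_subset (Finset.subset_univ S)

namespace DefOne.Block
variable (b : h.Block)

theorem apply_B_sing {χ : IrrCharacter G} (hχ : χ ∈ b.B) {g : G} (hg : p ∣ orderOf g) :
    χ.1 g = b.sgn χ := by
  obtain ⟨y, i, hi, v, hv, e⟩ := h.exists_conj_sing hg
  rw [← b.apply_B χ hχ i hi v hv, ← e]
  simpa using (char_isClassFunction (irr_isCharacter χ.2) g y⁻¹).symm

theorem inner_of_reg {f : G → ℂ} (hf : ∀ g, ¬ p ∣ orderOf g → f g = 0) {χ : IrrCharacter G}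
    (hχ : χ ∈ b.B) : classInner f χ = b.sgn χ * classInner f 1 := by
  rw [classInner, classInner, mul_left_comm, Finset.mul_sum (a := (b.sgn χ : ℂ))]
  congr 1
  refine Finset.sum_congr rfl fun g _ => ?_
  by_cases c : p ∣ orderOf g
  · rw [b.apply_B_sing hχ c]; simp [mul_comm]
  · simp [hf g c]

theorem inner_mul_conj {k l : (ZMod p)ˣ} (hkl : b.ex l ≠ b.ex k) {χ : IrrCharacter G}
    (hχ : χ ∈ b.B) : classInner ((b.ex k).1 * fun g => conj ((b.ex k).1 g)) χ =
      classInner ((b.ex l).1 * fun g => conj ((b.ex k).1 g)) χ + b.sgn χ := by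
  have := b.inner_of_reg (f := ((b.ex k).1 * fun g => conj ((b.ex k).1 g)) -
    (b.ex l).1 * fun g => conj ((b.ex k).1 g)) (fun g hg => by simp [b.ex_apply_reg k l hg]) hχ
  rw [classInner_sub_left, classInner_sub_left, classInner_mul_left _ _ 1,
    classInner_mul_left _ _ 1] at this
  simp only [RCLike.conj_conj, Pi.one_apply, mul_one] at this
  rw [irr_classInner_self (b.ex k).2, irr_classInner_of_ne (b.ex l).2 (b.ex k).2
    fun e => hkl (Subtype.ext e)] at this
  linear_combination this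

theorem exists_ex_ne (ht : 1 < b.E.card) (k : (ZMod p)ˣ) : ∃ l, b.ex l ≠ b.ex k := by
  obtain ⟨θ, a, c⟩ := Finset.exists_mem_ne ht (b.ex k)
  obtain ⟨l, rfl⟩ := b.mem_E.mp a
  exact ⟨l, c⟩

theorem sum_deg_sgn_le (ht : 1 < b.E.card) (k : (ZMod p)ˣ) (δ : ℤ) :
    ∑ χ ∈ b.B.filter (b.sgn · = δ), deg χ ≤ deg (b.ex k) * deg (b.ex k) := by
  obtain ⟨l, hl⟩ := b.exists_ex_ne ht k
  have hc : ∀ j, IsCharacter G ((b.ex j).1 * fun g => conj ((b.ex k).1 g)) := fun j =>
    char_mul (irr_isCharacter (b.ex j).2) (char_conj (irr_isCharacter (b.ex k).2))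
  have hd : ∀ j, ((b.ex j).1 * fun g => conj ((b.ex k).1 g)) 1 =
      (deg (b.ex k) * deg (b.ex k) : ℕ) := fun j => by simp [deg_eq, b.deg_ex j k]
  have key : ∀ χ ∈ b.B, ∃ r s : ℕ, classInner ((b.ex k).1 * fun g => conj ((b.ex k).1 g)) χ = r ∧
      classInner ((b.ex l).1 * fun g => conj ((b.ex k).1 g)) χ = s ∧ (r : ℤ) = s + b.sgn χ :=
    fun χ hχ => by
      obtain ⟨r, hr⟩ := char_classInner_nat (hc k) (irr_isCharacter χ.2)
      obtain ⟨s, hs⟩ := char_classInner_nat (hc l) (irr_isCharacter χ.2)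
      have := b.inner_mul_conj hl hχ
      rw [hr, hs] at this
      exact ⟨r, s, hr, hs, by exact_mod_cast this⟩
  by_cases c : δ = 1
  · refine sum_deg_le (hc k) (hd k) _ fun χ hχ => ?_
    obtain ⟨a1, a2⟩ := Finset.mem_filter.mp hχ
    obtain ⟨r, s, hr, -, e⟩ := key χ a1
    rw [hr]; exact_mod_cast (by omega : r ≠ 0)
  · refine sum_deg_le (hc l) (hd l) _ fun χ hχ => ?_
    obtain ⟨a1, a2⟩ := Finset.mem_filter.mp hχ
    obtain ⟨r, s, -, hs, e⟩ := key χ a1
    have := b.sgn_eq χ a1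
    rw [hs]; exact_mod_cast (by omega : s ≠ 0)

theorem sum_B_eq {A : Type*} [AddCommMonoid A] (F : IrrCharacter G → A) :
    ∑ χ ∈ b.B, F χ = F ⟨1, irr_one⟩ + ∑ χ ∈ (b.B.filter (b.sgn · = 1)).erase ⟨1, irr_one⟩, F χ +
      ∑ χ ∈ b.B.filter (b.sgn · = -1), F χ := by
  rw [Finset.add_sum_erase _ _ (Finset.mem_filter.mpr ⟨b.one_mem, b.sgn_one⟩),
    ← Finset.sum_filter_add_sum_filter_not b.B (b.sgn · = 1)]
  congr 2
  exact Finset.filter_congr fun χ hχ => by have := b.sgn_eq χ hχ; omega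

/-- the degree equation in terms of the numbers of characters of each sign -/
theorem exists_count (hG : _root_.commutator G = ⊤) {n : ℕ} (hN : (Nx x).index = n * p + 1)
    (hn : 2 * n < p + 3) (hb : Nat.card G < (p - 1) * Nat.card h.H * (n * p + 1) ^ 2)
    (k : (ZMod p)ˣ) : ∃ a c : ℕ, 1 + a + c = Nat.card h.H ∧
      1 + a * (n * p + 1) + b.sgn0 * deg (b.ex k) = c * (p - 1) ∧
      ∑ χ ∈ b.B.filter (b.sgn · = 1), deg χ = 1 + a * (n * p + 1) ∧
      c = (b.B.filter (b.sgn · = -1)).card := by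
  have h1 : ∀ χ ∈ (b.B.filter (b.sgn · = 1)).erase ⟨1, irr_one⟩,
      b.sgn χ = 1 ∧ deg χ = n * p + 1 := fun χ hχ => by
    obtain ⟨a1, a2⟩ := Finset.mem_erase.mp hχ
    obtain ⟨a3, a4⟩ := Finset.mem_filter.mp a2
    exact ⟨a4, (b.deg_pos_sgn hG hN hn hb a3 a4).resolve_left a1⟩
  refine ⟨((b.B.filter (b.sgn · = 1)).erase ⟨1, irr_one⟩).card, _, ?_, ?_, ?_, rfl⟩
  · rw [← b.card_B, Finset.card_eq_sum_ones b.B, b.sum_B_eq, ← Finset.card_eq_sum_ones,
      ← Finset.card_eq_sum_ones]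
  · have := b.sum_deg k
    rw [b.sum_B_eq, b.sgn_one, deg_one, Finset.sum_congr rfl (g := fun _ => (n * p + 1 : ℤ))
      fun χ hχ => by simp [(h1 χ hχ).1, (h1 χ hχ).2],
      Finset.sum_congr (s₁ := b.B.filter (b.sgn · = -1)) rfl (g := fun _ => -(p - 1 : ℤ))
      fun χ hχ => by
        obtain ⟨a3, a4⟩ := Finset.mem_filter.mp hχ
        rw [a4, b.deg_neg_sgn hG hN hn hb a3 a4, Nat.cast_sub hp.out.one_le]; simp] at this
    simp only [Finset.sum_const, nsmul_eq_mul] at this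
    linear_combination this
  · rw [← Finset.add_sum_erase _ _ (Finset.mem_filter.mpr ⟨b.one_mem, b.sgn_one⟩), deg_one,
      Finset.sum_congr rfl fun χ hχ => (h1 χ hχ).2, Finset.sum_const, smul_eq_mul]

end DefOne.Block

namespace Few
variable {n : ℕ} (f : Few h n) (b : h.Block)
include f

theorem one_lt_H : 1 < Nat.card h.H := h.one_lt_card_H f.perf
theorem three_le : 3 ≤ p := by
  have := f.one_lt_H; have := DefOne.Block.card_H_lt (h := h); omega
theorem odd_p : Odd p := hp.out.odd_of_ne_two (by have := f.three_le; omega)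

theorem exists_ind_eq (h0 : b.sgn0 = 1) :
    ∃ μ ∈ FT.irrK (Nx x) (zpowers x), FT.ind (Nx x) ⊤ μ = ∑ θ ∈ b.E, (θ : G → ℂ) := by
  have hθ : FT.Irr ⊤ (b.ex 1).1 := FT.irr_top_iff.mpr (b.ex 1).2
  have h1 : FT.ip (zpowers x) (b.ex 1).1 (FT.one (zpowers x)) ≠ 0 := by
    have a1 : ∑ g ∈ Finset.univ.filter (· ∈ zpowers x), (b.ex 1).1 g * conj (FT.one (zpowers x) g) =
        ∑ i : ZMod p, (b.ex 1).1 (xp x i) :=
      (Finset.sum_bij (fun i _ => xp x i) (fun i _ => by simpa using h.mem_zpowers_iff.mpr ⟨i, rfl⟩)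
        (fun i _ j _ e => h.xp_injective e) (fun g hg => by
          obtain ⟨i, rfl⟩ := h.mem_zpowers_iff.mp (Finset.mem_filter.mp hg).2
          exact ⟨i, Finset.mem_univ _, rfl⟩)
        fun i _ => by rw [FT.one_of_mem (h.mem_zpowers_iff.mpr ⟨i, rfl⟩)]; simp).symm
    rw [FT.ip, a1, sum_zmod_eq_ne, xp_zero, deg_eq, Finset.sum_congr rfl fun i _ =>
      b.apply_ex' 1 i.2, ← Finset.mul_sum, h.sum_eta_ne (Units.ne_zero 1), h0]
    refine mul_ne_zero (inv_ne_zero (FT.card_ne_zero' _)) ?_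
    have := deg_pos (b.ex 1)
    simp only [Int.cast_one, neg_mul, one_mul, neg_neg]
    exact_mod_cast (by omega : deg (b.ex 1) + Nat.card h.H ≠ 0)
  rw [← FT.ip_res_of_le f.P_le, ← FT.ip_ind_right f.P_le _ (hθ.cf.res le_top),
    ← FT.sum_irrK_of_der_le f.P_le f.der_le, FT.ip_sum_right] at h1
  obtain ⟨μ, a1, a2⟩ := Finset.exists_ne_zero_of_sum_ne_zero h1
  rw [FT.ip_res_left, ← FT.ip_ind_right le_top _ hθ.cf, FT.ip_top, ← conj_classInner,
    map_ne_zero] at a2
  have a3 : b.ex 1 ∈ b.E := b.mem_E.mpr ⟨1, rfl⟩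
  rcases f.ind_decomp b a1 (fun e => a2 (e ▸ f.permN_orth b _ (Or.inr a3))) with ⟨χ, c1, -, c3⟩ | c
  · exact absurd (c3 ▸ irr_classInner_of_ne χ.2 (b.ex 1).2 fun e =>
      b.ex_notMem 1 (Subtype.ext e ▸ c1)) a2
  · exact ⟨μ, a1, c.2⟩

theorem of_odd (ho : Odd (Nat.card h.H)) : n = 1 ∧ 2 * Nat.card h.H = p - 1 := by
  obtain ⟨b⟩ := h.nonempty_block
  have e0 := b.card_E_mul
  have h3 := f.three_le
  have h2 := f.one_lt_H
  have ht : Even b.E.card := by
    have : Even (b.E.card * Nat.card h.H) := e0 ▸ Nat.Odd.sub_odd f.odd_p odd_one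
    exact (Nat.even_mul.mp this).resolve_right (Nat.not_even_iff_odd.mpr ho)
  have ht0 : b.E.card ≠ 0 := fun c => by rw [c] at e0; omega
  obtain ⟨a, c, a1, a2, a3, -⟩ := b.exists_count f.perf f.index f.lt f.bound 1
  rcases b.sgn0_eq with h0 | h0
  · exfalso
    have d1 := b.deg_ex_pos f.perf f.index f.lt f.bound 1 h0
    have d2 : Even (n * p + 1) := d1 ▸ ht.mul_right _
    have d3 : Odd (deg (b.ex 1)) := by
      have i1 : Even ((a : ℤ) * (n * p + 1)) := Even.mul_left (by exact_mod_cast d2) _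
      have i2 : Even ((c : ℤ) * (p - 1)) :=
        Even.mul_left (Odd.sub_odd (by exact_mod_cast f.odd_p) odd_one) _
      rw [h0, one_mul] at a2
      obtain ⟨r, hr⟩ := i1
      obtain ⟨s, hs⟩ := i2
      exact Nat.odd_iff.mpr (by omega)
    haveI := Fact.mk Nat.prime_two
    obtain ⟨z, hz⟩ := exists_prime_orderOf_dvd_card' (G := G) 2
      (f.card_G ▸ (even_iff_two_dvd.mp d2).mul_right _)
    obtain ⟨μ, -, e⟩ := f.exists_ind_eq b h0
    have d4 := congrFun e z
    have hzp : ¬ p ∣ orderOf z := fun c => by have := Nat.le_of_dvd two_pos (hz ▸ c); omega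
    rw [FT.ind_apply_eq_zero fun y _ hy => absurd (orderOf_dvd_natCard _ hy) (by
      rw [orderOf_inv_conj, hz, f.card_N, ← even_iff_two_dvd, Nat.not_even_iff_odd]
      exact f.odd_p.mul ho), Finset.sum_apply, b.sum_E_reg 1 _ fun l => b.ex_apply_reg l 1 hzp,
      nsmul_eq_mul, eq_comm, mul_eq_zero, Nat.cast_eq_zero] at d4
    obtain ⟨r, s, i1, i2, -⟩ := char_involution (irr_isCharacter (b.ex 1).2)
      (hz ▸ pow_orderOf_eq_one z)
    rw [d4.resolve_left ht0, eq_comm, sub_eq_zero, Nat.cast_inj] at i2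
    rw [deg_eq, i2, ← Nat.cast_add, Nat.cast_inj] at i1
    rw [i1, Nat.odd_iff] at d3
    omega
  · have d1 := b.deg_ex_neg f.perf f.index f.lt f.bound 1 h0
    have ht2 : 2 ≤ b.E.card := by obtain ⟨r, hr⟩ := ht; omega
    have d2 := b.sum_deg_sgn_le ht2 1 1
    rw [a3, d1] at d2
    rw [h0, d1] at a2
    have hn := f.pos
    generalize Nat.card h.H = e at *
    generalize b.E.card = t at *
    obtain rfl : p = t * e + 1 := by omega
    have d3 : a * (n + 1) + 1 = e := by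
      have i1 : ((t * e + 1 : ℕ) : ℤ) * (a * (n + 1) + 1) = (t * e + 1 : ℕ) * e := by
        have : (c : ℤ) = e - 1 - a := by omega
        rw [this] at a2
        linear_combination a2
      exact_mod_cast mul_left_cancel₀ (by positivity) i1
    have d4 : a * (n * t) * e + e ≤ e * e := by nlinarith
    have d5 : a * (n * t) + 1 ≤ e := by
      by_contra i; nlinarith
    have ha : 0 < a := Nat.pos_of_ne_zero fun i => by rw [i] at d3; omega
    have d6 : n * t ≤ n + 1 := Nat.le_of_mul_le_mul_left (by omega) ha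
    have d7 : n = 1 := by nlinarith
    subst d7
    obtain rfl : t = 2 := by omega
    exact ⟨rfl, by omega⟩

end Few

end H8
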