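import Cfsg.Agent.H8.GL42a
import Cfsg.Agent.H7.TI

/-! `SL(4,2) ≅ A₈`, and linear representations on `O₂(X)/Φ(O₂(X))`. -/

set_option autoImplicit false

namespace H8
open Matrix Subgroup Equiv
open scoped commutatorElement

theorem sl_mul_val {ι R : Type*} [Fintype ι] [DecidableEq ι] [CommRing R]
    (A B : SpecialLinearGroup ι R) : (A * B).1 = A.1 * B.1 := rfl

theorem sl_mul_inv {ι R : Type*} [Fintype ι] [DecidableEq ι] [CommRing R]
    (A : SpecialLinearGroup ι R) : A.1 * (A⁻¹).1 = 1 := congrArg Subtype.val (mul_inv_cancel A)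

theorem Cpt.eq_id {f : Fin 8 → Fin 8} (h : Cpt 1 f) : f = id := by
  have h1 : ∀ i j, i ≠ j → (f i = i ∧ f j = j) ∨ (f i = j ∧ f j = i) := fun i j hij =>
    uu_inj i j _ _ hij (by simpa using h i j)
  funext i
  obtain ⟨j, k, hij, hik, hjk⟩ : ∃ j k : Fin 8, i ≠ j ∧ i ≠ k ∧ j ≠ k := by revert i; decide
  rcases h1 i j hij with h2 | h2
  · exact h2.1
  · rcases h1 i k hik with h3 | h3
    · exact h3.1
    · exact absurd (h2.1.symm.trans h3.1) hjk

theorem cpt_one : Cpt 1 id := fun i j => by simp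

theorem Cpt.inv {A B : Matrix (Fin 4) (Fin 4) (ZMod 2)} {f g : Fin 8 → Fin 8} (h1 : Cpt A f)
    (hAB : A * B = 1) (hfg : ∀ x, f (g x) = x) : Cpt B g := fun i j => by
  rw [← h1 (g i) (g j), hfg, hfg]
  have : Bᵀ * (Aᵀ * (uu i + uu j) * A) * B = (A * B)ᵀ * (uu i + uu j) * (A * B) := by
    simp only [transpose_mul, Matrix.mul_assoc]
  rw [this, hAB]; simp

/-- the graph of the isomorphism -/
def DD : Subgroup (SL42 × Perm (Fin 8)) where
  carrier := {x | Cpt x.1.1 x.2}
  one_mem' := cpt_one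
  mul_mem' := fun {x y} hx hy => by
    have h1 : Cpt x.1.1 x.2 := hx
    have h2 : Cpt y.1.1 y.2 := hy
    have := h1.mul h2
    show Cpt (x.1 * y.1).1 ⇑(x.2 * y.2)
    rw [sl_mul_val, Perm.coe_mul]
    exact this
  inv_mem' := fun {x} hx => by
    have h1 : Cpt x.1.1 x.2 := hx
    have h2 : x.1.1 * (x.1⁻¹).1 = 1 := sl_mul_inv _
    exact Cpt.inv (B := (x.1⁻¹).1) (g := ⇑(x.2⁻¹)) h1 h2 (fun y => by simp)

theorem DD_bij : Function.Bijective ((MonoidHom.fst _ _).comp DD.subtype) := by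
  refine ⟨(injective_iff_map_eq_one _).mpr fun x hx => ?_, fun A => ?_⟩
  · have h1 : x.1.1 = 1 := hx
    have h2 : Cpt x.1.1.1 x.1.2 := x.2
    rw [h1] at h2
    exact Subtype.ext (Prod.ext h1 (Equiv.ext fun i => congrFun (Cpt.eq_id h2) i))
  · refine sl_induction (fun A => ∃ x, ((MonoidHom.fst _ _).comp DD.subtype) x = A)
      (fun i j hij a => ?_) ?_ A
    · obtain rfl | rfl : a = 0 ∨ a = 1 := by revert a; decide
      · exact ⟨1, by simp⟩
      · have h1 : Cpt (Matrix.SpecialLinearGroup.transvection hij (1 : ZMod 2)).1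
            ⇑(⟨tvp i j, tvp i j, tvp_inv i j, tvp_inv i j⟩ : Perm (Fin 8)) := tvp_cpt i j hij
        exact ⟨⟨(Matrix.SpecialLinearGroup.transvection hij (1 : ZMod 2),
          ⟨tvp i j, tvp i j, tvp_inv i j, tvp_inv i j⟩), h1⟩, rfl⟩
    · rintro _ _ ⟨x, rfl⟩ ⟨y, rfl⟩
      exact ⟨x * y, map_mul _ _ _⟩

/-- the action of `SL(4,2)` on the eight heptads -/
noncomputable def sl42Perm : SL42 →* Perm (Fin 8) :=
  ((MonoidHom.snd _ _).comp DD.subtype).comp (MulEquiv.ofBijective _ DD_bij).symm.toMonoidHom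

theorem sl42Perm_cpt (A : SL42) : Cpt A.1 (sl42Perm A) := by
  have h1 : ((MonoidHom.fst _ _).comp DD.subtype) ((MulEquiv.ofBijective _ DD_bij).symm A) = A :=
    (MulEquiv.ofBijective _ DD_bij).apply_symm_apply A
  have h2 := ((MulEquiv.ofBijective _ DD_bij).symm A).2
  have h3 : ((MulEquiv.ofBijective _ DD_bij).symm A).1.1 = A := h1
  change Cpt _ _ at h2
  rw [h3] at h2
  exact h2

theorem sl42Perm_eq {A : SL42} {f : Fin 8 → Fin 8} (h : Cpt A.1 f) : ⇑(sl42Perm A) = f := by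
  have h1 := (h.mul (sl42Perm_cpt A⁻¹))
  have h2 : A.1 * (A⁻¹).1 = 1 := sl_mul_inv _
  rw [h2] at h1
  have h3 := h1.eq_id
  funext i
  have := congrFun h3 (sl42Perm A i)
  simp only [map_inv, Function.comp, Perm.coe_inv, symm_apply_apply, id] at this
  exact this.symm

theorem zmod2_cases (a : ZMod 2) : a = 0 ∨ a = 1 := by revert a; decide

theorem center_sl_two {ι : Type*} [Fintype ι] [DecidableEq ι] [Nonempty ι] :
    center (SpecialLinearGroup ι (ZMod 2)) = ⊥ := by
  rw [eq_bot_iff]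
  intro A hA
  obtain ⟨r, h1, h2⟩ := Matrix.SpecialLinearGroup.mem_center_iff.mp hA
  rcases zmod2_cases r with rfl | rfl
  · rw [zero_pow Fintype.card_ne_zero] at h1; exact absurd h1 (by decide)
  · exact Subtype.ext (by rw [← h2]; simp)

theorem sl_two_simple {ι : Type*} [Fintype ι] [DecidableEq ι] (h : 3 ≤ Fintype.card ι) :
    IsSimpleGroup (SpecialLinearGroup ι (ZMod 2)) := by
  have hq := H4.isQuasisimple_iff'.mp (sl_quasisimple (ι := ι) (F := ZMod 2) (Or.inl h))
  haveI := hq.2.1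
  haveI : Nonempty ι := Fintype.card_pos_iff.mp (by omega)
  refine ⟨fun N hN => ?_⟩
  rcases hq.2.2 N hN with h1 | h1
  · exact Or.inr h1
  · rw [center_sl_two] at h1; exact Or.inl (le_bot_iff.mp h1)

theorem sl42Perm_injective : Function.Injective sl42Perm := by
  haveI : IsSimpleGroup SL42 := sl_two_simple (by simp)
  rw [← MonoidHom.ker_eq_bot_iff]
  refine (IsSimpleGroup.eq_bot_or_eq_top_of_normal _ inferInstance).resolve_right fun h => ?_
  have h1 : SpecialLinearGroup.transvection (show (0 : Fin 4) ≠ 1 by decide) (1 : ZMod 2) ∈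
      sl42Perm.ker := h ▸ mem_top _
  have h2 := sl42Perm_eq (A := SpecialLinearGroup.transvection (show (0 : Fin 4) ≠ 1 by decide) 1)
    (tvp_cpt 0 1 (by decide))
  rw [MonoidHom.mem_ker.mp h1] at h2
  exact absurd (congrFun h2 0) (by decide)

theorem sl42Perm_mem (A : SL42) : sl42Perm A ∈ alternatingGroup (Fin 8) := by
  have h1 : A ∈ commutator SL42 := by
    rw [sl_commutator_eq_top (Or.inl (by simp))]; exact mem_top _
  exact Abelianization.commutator_subset_ker (Perm.sign.comp sl42Perm) h1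

/-- the units of `ZMod 2`: `GL = SL` -/
def glToSL {ι : Type*} [Fintype ι] [DecidableEq ι] : GL ι (ZMod 2) ≃* SpecialLinearGroup ι (ZMod 2) where
  toFun A := ⟨A.1, (zmod2_cases _).resolve_left (GeneralLinearGroup.det_ne_zero A)⟩
  invFun A := SpecialLinearGroup.toGL A
  left_inv _ := Units.ext rfl
  right_inv _ := Subtype.ext rfl
  map_mul' _ _ := Subtype.ext rfl

theorem card_sl_two (n : ℕ) : Nat.card (SpecialLinearGroup (Fin n) (ZMod 2)) =
    ∏ i : Fin n, (2 ^ n - 2 ^ (i : ℕ)) := by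
  rw [← Nat.card_congr glToSL.toEquiv, Matrix.card_GL_field, ZMod.card]

theorem card_SL42 : Nat.card SL42 = 20160 := by rw [card_sl_two]; decide

theorem card_A8 : Nat.card (alternatingGroup (Fin 8)) = 20160 := by
  have := two_mul_nat_card_alternatingGroup (α := Fin 8)
  rw [Nat.card_perm, Nat.card_fin] at this
  have h : (8 : ℕ).factorial = 40320 := by decide
  omega

/-- `SL(4,2) ≅ A₈` -/
noncomputable def sl42Equiv : SL42 ≃* alternatingGroup (Fin 8) :=
  MulEquiv.ofBijective (sl42Perm.codRestrict _ sl42Perm_mem) (by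
    rw [Nat.bijective_iff_injective_and_card, card_SL42, card_A8]
    exact ⟨fun a b h => sl42Perm_injective (congrArg Subtype.val h), rfl⟩)

theorem sl42Equiv_coe (A : SL42) : (sl42Equiv A : Perm (Fin 8)) = sl42Perm A := rfl

/-- coordinates for an elementary abelian normal section: `X` acts on `V` through matrices -/
structure Coord {X : Type*} [Group X] (Q Φ : Subgroup X) (n : ℕ) where
  /-- the representation -/
  ρ : X →* SpecialLinearGroup (Fin n) (ZMod 2)
  /-- the coordinate vector of an element of `Q` -/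
  c : X → Fin n → ZMod 2
  c_mul : ∀ x ∈ Q, ∀ y ∈ Q, c (x * y) = c x + c y
  c_eq_zero : ∀ x ∈ Q, (c x = 0 ↔ x ∈ Φ)
  c_surj : ∀ v, ∃ x ∈ Q, c x = v
  c_conj : ∀ g, ∀ x ∈ Q, c (g * x * g⁻¹) = (ρ g).1 *ᵥ c x

theorem exists_coord {X : Type*} [Group X] [Finite X] (Q Φ : Subgroup X) [Q.Normal] [Φ.Normal]
    (h : H7.phiS 2 Q ≤ Φ) : ∃ n, Nat.card (Q.map (QuotientGroup.mk' Φ)) = 2 ^ n ∧
      Nonempty (Coord Q Φ n) := by
  classical
  set π := QuotientGroup.mk' Φ
  set V := Q.map π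
  have hea : Cfsg.IsElementaryAbelian 2 V := H7.ea_map_of_phiS_le (by
    rwa [QuotientGroup.ker_mk'])
  haveI : V.Normal := Normal.map inferInstance _ (QuotientGroup.mk'_surjective _)
  letI : CommGroup V := { (inferInstance : Group V) with mul_comm := hea.1.is_comm.comm }
  letI : Module (ZMod 2) (Additive V) := AddCommGroup.zmodModule (fun x => by
    apply Additive.toMul.injective
    have : (Additive.toMul x) ^ 2 = 1 := Subtype.ext (hea.2 _ (Additive.toMul x).2)
    simpa using this)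
  set n := Module.finrank (ZMod 2) (Additive V)
  have hn : Nat.card V = 2 ^ n := by
    have := Module.natCard_eq_pow_finrank (K := ZMod 2) (V := Additive V)
    rwa [Nat.card_zmod] at this
  let b := Module.finBasisOfFinrankEq (ZMod 2) (Additive V) (n := n) rfl
  let φ : MulAut V →* (Additive V ≃ₗ[ZMod 2] Additive V) :=
    { toFun := fun f => { (MulEquiv.toAdditive f) with
        map_smul' := ZMod.map_smul (MulEquiv.toAdditive f) }
      map_one' := by ext; rfl
      map_mul' := fun _ _ => by ext; rfl }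
  let ψ := ((Matrix.GeneralLinearGroup.toLin' b).trans
    (LinearMap.GeneralLinearGroup.generalLinearEquiv (ZMod 2) (Additive V))).symm
  let ρ : X →* SpecialLinearGroup (Fin n) (ZMod 2) :=
    glToSL.toMonoidHom.comp (ψ.toMonoidHom.comp (φ.comp ((MulAut.conjNormal (H := V)).comp π)))
  let c : X → Fin n → ZMod 2 := fun x =>
    if h : x ∈ Q then b.equivFun (Additive.ofMul (⟨π x, mem_map_of_mem _ h⟩ : V)) else 0
  have hc : ∀ x (h : x ∈ Q), c x = b.equivFun (Additive.ofMul (⟨π x, mem_map_of_mem _ h⟩ : V)) :=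
    fun x h => dif_pos h
  refine ⟨n, hn, ⟨⟨ρ, c, fun x hx y hy => ?_, fun x hx => ?_, fun v => ?_, fun g x hx => ?_⟩⟩⟩
  · rw [hc _ hx, hc _ hy, hc _ (mul_mem hx hy), ← map_add]; rfl
  · rw [hc _ hx, LinearEquiv.map_eq_zero_iff, ← QuotientGroup.eq_one_iff]
    exact ⟨fun h => congrArg Subtype.val (Additive.ofMul.injective h), fun h =>
      congrArg Additive.ofMul (Subtype.ext h)⟩
  · obtain ⟨x, hx, h1⟩ := (Additive.toMul (b.equivFun.symm v)).2
    refine ⟨x, hx, ?_⟩
    rw [hc _ hx, ← LinearEquiv.eq_symm_apply]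
    exact Additive.toMul.injective (Subtype.ext h1)
  · rw [hc _ hx, hc _ (Normal.conj_mem inferInstance _ hx g)]
    have h1 : (ρ g).1 = LinearMap.toMatrix b b (φ (MulAut.conjNormal (H := V) (π g))) := rfl
    rw [h1, Module.Basis.equivFun_apply, Module.Basis.equivFun_apply, LinearMap.toMatrix_mulVec_repr]
    congr 2

theorem Coord.mem_ker {X : Type*} [Group X] {Q Φ : Subgroup X} [Q.Normal] {n : ℕ} (C : Coord Q Φ n)
    {g : X} : g ∈ C.ρ.ker ↔ ∀ q ∈ Q, ⁅q, g⁆ ∈ Φ := by
  have h0 : ∀ q ∈ Q, (⁅q, g⁆ ∈ Φ ↔ (C.ρ g).1 *ᵥ C.c q = C.c q) := fun q hq => by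
    have h1 : g * q⁻¹ * g⁻¹ ∈ Q := Normal.conj_mem inferInstance _ (inv_mem hq) g
    have h2 : C.c q⁻¹ = C.c q := by
      have h3 := C.c_mul q hq q⁻¹ (inv_mem hq)
      have h4 := C.c_mul 1 Q.one_mem 1 Q.one_mem
      rw [mul_inv_cancel] at h3
      rw [one_mul] at h4
      have h5 : C.c 1 = 0 := by simpa using h4
      rw [h5] at h3
      have := eq_neg_of_add_eq_zero_right h3.symm
      rw [this]; ext i; simp
    rw [← C.c_eq_zero _ (by
      rw [commutatorElement_def, mul_assoc, mul_assoc]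
      exact mul_mem hq (by simpa [mul_assoc] using h1)), commutatorElement_def,
      show q * g * q⁻¹ * g⁻¹ = q * (g * q⁻¹ * g⁻¹) by group, C.c_mul _ hq _ h1,
      C.c_conj _ _ (inv_mem hq), h2, add_eq_zero_iff_eq_neg, eq_comm]
    have : -C.c q = C.c q := by ext i; simp
    constructor <;> intro h
    · have h6 := congrArg Neg.neg h
      rw [neg_neg, this] at h6; exact h6
    · rw [h, this]
  rw [MonoidHom.mem_ker]
  constructor
  · intro h q hq
    rw [h0 q hq, h]; simp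
  · intro h
    apply Subtype.ext
    apply Matrix.toLin'.injective
    refine LinearMap.ext fun v => ?_
    obtain ⟨q, hq, rfl⟩ := C.c_surj v
    simpa using (h0 q hq).mp (h q hq)

theorem Coord.ker_eq {X : Type*} [Group X] [Finite X] {n : ℕ}
    (C : Coord (Cfsg.pCore 2 X) (H7.phiS 2 (Cfsg.pCore 2 X)) n)
    (hc : centralizer (Cfsg.pCore 2 X : Set X) ≤ Cfsg.pCore 2 X) : C.ρ.ker = Cfsg.pCore 2 X := by
  haveI : Fact (Nat.Prime 2) := ⟨Nat.prime_two⟩
  ext g
  rw [C.mem_ker]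
  exact ⟨H7.mem_pCore_of_commutator_le_phiS hc, fun hg q hq =>
    mem_sup_left (commutator_mem_commutator hq hg)⟩

/-- embedding of `SL(n,2)` into `SL(m,2)` -/
theorem exists_sl_emb {F : Type*} [Field F] {n m : ℕ} (h : n ≤ m) :
    ∃ f : SpecialLinearGroup (Fin n) F →* SpecialLinearGroup (Fin m) F, Function.Injective f := by
  induction h with
  | refl => exact ⟨MonoidHom.id _, Function.injective_id⟩
  | @step m _ ih =>
    obtain ⟨f, hf⟩ := ih
    let e : Fin m ⊕ Unit ≃ Fin (m + 1) := Fintype.equivFinOfCardEq (by simp)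
    exact ⟨(embSL e).comp f, (embSL_injective e).comp hf⟩

theorem card_le_of_sectional {X : Type*} [Group X] {k : ℕ} (h : Cfsg.SectionalPRankLE 2 k X)
    {Y : Type*} [Group Y] (H : Subgroup X) (f : H →* Y) (hf : Function.Surjective f)
    (hY : ∀ y : Y, y ^ 2 = 1) : Nat.card Y ≤ 2 ^ k := by
  have e := QuotientGroup.quotientKerEquivOfSurjective f hf
  have h1 : ∀ y : H ⧸ f.ker, y ^ 2 = 1 := fun y => e.injective (by rw [map_pow, hY, map_one])
  have h2 := h H f.ker ⊤ ⟨⟨fun a b => Subtype.ext (by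
    have ha := h1 a.1
    have hb := h1 b.1
    have hab := h1 (a.1 * b.1)
    rw [pow_two] at ha hb hab
    show a.1 * b.1 = b.1 * a.1
    calc a.1 * b.1 = a.1 * a.1 * (a.1 * b.1) * (b.1 * b.1) := by rw [ha, hb]; simp
      _ = a.1 * (a.1 * (a.1 * b.1) * b.1) * b.1 := by group
      _ = b.1 * a.1 := by
        have : a.1 * (a.1 * b.1) * b.1 = 1 := by rw [← mul_assoc, ha, one_mul, hb]
        rw [this, mul_one]
        calc a.1 * b.1 = (a.1 * a.1) * (a.1 * b.1) := by rw [ha, one_mul]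
          _ = _ := by
            have h7 : b.1 * a.1 = (a.1 * b.1)⁻¹ := by
              rw [_root_.mul_inv_rev, inv_eq_of_mul_eq_one_right ha, inv_eq_of_mul_eq_one_right hb]
            rw [h7, inv_eq_of_mul_eq_one_right hab, ha, one_mul])⟩⟩ (fun a _ => h1 a)
  rwa [Subgroup.card_top, Nat.card_congr e.toEquiv] at h2

theorem exists_coord_core {X : Type*} [Group X] [Finite X] {k : ℕ}
    (h4 : Cfsg.SectionalPRankLE 2 k (Cfsg.pCore 2 X)) :
    ∃ n ≤ k, Nonempty (Coord (Cfsg.pCore 2 X) (H7.phiS 2 (Cfsg.pCore 2 X)) n) := by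
  obtain ⟨n, hn, hC⟩ := exists_coord (Cfsg.pCore 2 X) (H7.phiS 2 (Cfsg.pCore 2 X)) le_rfl
  refine ⟨n, ?_, hC⟩
  have hea : Cfsg.IsElementaryAbelian 2 ((Cfsg.pCore 2 X).map
      (QuotientGroup.mk' (H7.phiS 2 (Cfsg.pCore 2 X)))) := H7.ea_map_of_phiS_le (by
    rw [QuotientGroup.ker_mk'])
  have := card_le_of_sectional h4 ⊤
    (((QuotientGroup.mk' (H7.phiS 2 (Cfsg.pCore 2 X))).subgroupMap (Cfsg.pCore 2 X)).comp
      (⊤ : Subgroup (Cfsg.pCore 2 X)).subtype)
    ((MonoidHom.subgroupMap_surjective _ _).comp fun x => ⟨⟨x, mem_top _⟩, rfl⟩)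
    (fun y => Subtype.ext (hea.2 _ y.2))
  rw [hn] at this
  exact (Nat.pow_le_pow_iff_right (by norm_num)).mp this

end H8
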