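import Cfsg.Agent.H8.SLBlock

/-! `SL(4,2) ≅ A₈`, and linear representations on `O₂(X)/Φ(O₂(X))`. -/

set_option autoImplicit false

namespace H8
open Matrix Subgroup Equiv
open scoped commutatorElement

abbrev SL42 := SpecialLinearGroup (Fin 4) (ZMod 2)

/-- a heptad of symplectic forms, and zero -/
def uu : Fin 8 → Matrix (Fin 4) (Fin 4) (ZMod 2) :=
  ![!![0, 0, 0, 1; 0, 0, 1, 0; 0, 1, 0, 0; 1, 0, 0, 0],
    !![0, 0, 1, 1; 0, 0, 0, 1; 1, 0, 0, 0; 1, 1, 0, 0],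
    !![0, 1, 1, 0; 1, 0, 1, 1; 1, 1, 0, 0; 0, 1, 0, 0],
    !![0, 1, 1, 1; 1, 0, 0, 0; 1, 0, 0, 1; 1, 0, 1, 0],
    !![0, 1, 0, 0; 1, 0, 1, 0; 0, 1, 0, 1; 0, 0, 1, 0],
    !![0, 1, 0, 1; 1, 0, 0, 1; 0, 0, 0, 1; 1, 1, 1, 0],
    !![0, 0, 1, 0; 0, 0, 1, 1; 1, 1, 0, 1; 0, 1, 1, 0],
    0]

/-- compatibility of a matrix with a map on the eight heptads -/
def Cpt (A : Matrix (Fin 4) (Fin 4) (ZMod 2)) (f : Fin 8 → Fin 8) : Prop :=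
  ∀ i j, Aᵀ * (uu (f i) + uu (f j)) * A = uu i + uu j

instance (A : Matrix (Fin 4) (Fin 4) (ZMod 2)) (f : Fin 8 → Fin 8) : Decidable (Cpt A f) := by
  unfold Cpt; infer_instance

theorem Cpt.mul {A B : Matrix (Fin 4) (Fin 4) (ZMod 2)} {f g : Fin 8 → Fin 8} (h1 : Cpt A f)
    (h2 : Cpt B g) : Cpt (A * B) (f ∘ g) := fun i j => by
  rw [transpose_mul, ← h2 i j, ← h1 (g i) (g j)]
  simp only [Function.comp, Matrix.mul_assoc]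

/-- the table of the partners of the transvections -/
def tvp : Fin 4 → Fin 4 → Fin 8 → Fin 8 :=
  ![![id, ![5, 3, 6, 1, 7, 0, 2, 4], ![1, 0, 4, 5, 2, 3, 7, 6], ![7, 6, 3, 2, 5, 4, 1, 0]],
    ![![4, 5, 6, 7, 0, 1, 2, 3], id, ![7, 6, 5, 4, 3, 2, 1, 0], ![6, 7, 4, 5, 2, 3, 0, 1]],
    ![![2, 7, 0, 5, 6, 3, 4, 1], ![7, 2, 1, 6, 5, 4, 3, 0], id, ![4, 3, 6, 1, 0, 7, 2, 5]],
    ![![7, 2, 1, 4, 3, 6, 5, 0], ![1, 0, 7, 5, 6, 3, 4, 2], ![3, 5, 6, 0, 7, 1, 2, 4], id]]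

theorem tvp_cpt : ∀ i j : Fin 4, i ≠ j → Cpt (1 + single i j 1) (tvp i j) := by decide +kernel
theorem tvp_inv : ∀ i j : Fin 4, ∀ x, tvp i j (tvp i j x) = x := by decide +kernel
theorem uu_inj : ∀ i j k l : Fin 8, i ≠ j → uu k + uu l = uu i + uu j →
    (k = i ∧ l = j) ∨ (k = j ∧ l = i) := by decide +kernel

end H8
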