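import Cfsg.Agent.H8.PrimeSylow

/-! No simple group has order 5400. -/

namespace H8
open Subgroup MulAction
open scoped Pointwise

variable {G : Type*} [Group G]

theorem factorization_eq_of_pow_mul {p k m : ℕ} (hp : p.Prime) (hm : ¬ p ∣ m) :
    (p ^ k * m).factorization p = k := by
  have hm0 : m ≠ 0 := by rintro rfl; exact hm (dvd_zero p)
  rw [Nat.factorization_mul (pow_ne_zero _ hp.ne_zero) hm0, hp.factorization_pow]
  simp [Nat.factorization_eq_zero_of_not_dvd hm]

theorem card_sylow_eq_index_normalizer' [Finite G] {p : ℕ} [Fact p.Prime] (P : Sylow p G) :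
    Nat.card (Sylow p G) = (normalizer ((P : Subgroup G) : Set G)).index :=
  P.card_eq_index_normalizer

theorem smul_sylow_eq_iff' {p : ℕ} {g : G} {P : Sylow p G} :
    g • P = P ↔ g ∈ normalizer ((P : Subgroup G) : Set G) :=
  Sylow.smul_eq_iff_mem_normalizer

/-- A group of order `450` has a normal Sylow `5`-subgroup. -/
theorem sylow_eq_of_card_450 [Finite G] (h : Nat.card G = 450) (P R : Sylow 5 G) : P = R := by
  haveI : Fact (Nat.Prime 2) := ⟨by norm_num⟩
  haveI : Fact (Nat.Prime 5) := ⟨by norm_num⟩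
  obtain ⟨S⟩ : Nonempty (Sylow 2 G) := inferInstance
  have hS : Nat.card (S : Subgroup G) = 2 := by
    rw [Sylow.card_eq_multiplicity, h]
    have : (450 : ℕ).factorization 2 = 1 := by
      rw [show (450 : ℕ) = 2 ^ 1 * 225 by norm_num]
      exact factorization_eq_of_pow_mul (by norm_num) (by norm_num)
    rw [this]; norm_num
  have hcyc : IsCyclic (S : Subgroup G) := isCyclic_of_prime_card hS
  have hmin : (Nat.card G).minFac = 2 := by rw [h]; norm_num
  have hc := IsCyclic.isComplement' hmin hcyc
  set K := (MonoidHom.transferSylow S (hcyc.normalizer_le_centralizer hmin)).ker with hK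
  have hKc : Nat.card K = 225 := by
    have := hc.card_mul_card
    rw [hS, h] at this; omega
  have hKi : K.index = 2 := by
    have := K.card_mul_index
    rw [hKc, h] at this; omega
  have hle : ∀ Q : Sylow 5 G, (Q : Subgroup G) ≤ K := by
    intro Q x hx
    obtain ⟨k, hk⟩ := IsPGroup.iff_orderOf.mp Q.isPGroup' ⟨x, hx⟩
    rw [Subgroup.orderOf_mk] at hk
    have h2 : x ^ 2 ∈ K := by rw [← hKi]; exact K.pow_index_mem x
    have hcop : (orderOf x).Coprime 2 := by
      rw [hk]; exact Nat.Coprime.pow_left _ (by norm_num)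
    obtain ⟨m, hm⟩ := exists_pow_eq_self_of_coprime hcop.symm
    rw [← hm]; exact K.pow_mem h2 m
  have hn : Nat.card (Sylow 5 K) = 1 := by
    have h1 := card_sylow_modEq_one 5 K
    have h2 := (P.subtype (hle P)).card_dvd_index
    have h3 : ((P.subtype (hle P) : Sylow 5 K) : Subgroup K).index = 9 := by
      have h4 := ((P.subtype (hle P) : Sylow 5 K) : Subgroup K).card_mul_index
      rw [Sylow.card_eq_multiplicity, hKc] at h4
      have : (225 : ℕ).factorization 5 = 2 := by
        rw [show (225 : ℕ) = 5 ^ 2 * 9 by norm_num]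
        exact factorization_eq_of_pow_mul (by norm_num) (by norm_num)
      rw [this] at h4; omega
    rw [h3] at h2
    have h5 := Nat.le_of_dvd (by norm_num) h2
    unfold Nat.ModEq at h1
    interval_cases hh : Nat.card (Sylow 5 K) <;> simp_all
  haveI := (Nat.card_eq_one_iff_unique.mp hn).1
  have := Subsingleton.elim (P.subtype (hle P)) (R.subtype (hle R))
  exact Sylow.subtype_injective this

theorem card_ne_5400 [Finite G] [IsSimpleGroup G] : Nat.card G ≠ 5400 := by
  intro h
  haveI : Fact (Nat.Prime 3) := ⟨by norm_num⟩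
  haveI : Fact (Nat.Prime 5) := ⟨by norm_num⟩
  have hG : ¬ IsMulCommutative G := not_comm_of_card_not_prime (by rw [h]; norm_num)
  have hcard : ∀ Q : Sylow 5 G, Nat.card (Q : Subgroup G) = 5 ^ 2 := by
    intro Q
    rw [Sylow.card_eq_multiplicity, h]
    have : (5400 : ℕ).factorization 5 = 2 := by
      rw [show (5400 : ℕ) = 5 ^ 2 * 216 by norm_num]
      exact factorization_eq_of_pow_mul (by norm_num) (by norm_num)
    rw [this]
  have hab : ∀ Q : Sylow 5 G, IsMulCommutative (Q : Subgroup G) := fun Q =>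
    IsPGroup.isMulCommutative_of_card_eq_prime_sq (hcard Q)
  obtain ⟨P⟩ : Nonempty (Sylow 5 G) := inferInstance
  have hidx : (P : Subgroup G).index = 216 := by
    have := (P : Subgroup G).card_mul_index
    rw [hcard, h] at this; omega
  have hn : Nat.card (Sylow 5 G) = 36 := by
    have h1 := card_sylow_modEq_one 5 G
    have h2 := P.card_dvd_index
    rw [hidx] at h2
    have h3 := two_mul_card_dvd_factorial_card_sylow hG (p := 5) (by rw [h]; norm_num)
    obtain ⟨r, j, hr, -, -, -, -, h4⟩ := exists_prime_of_abelian_sylow hG P (hcard P) (by norm_num)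
      (hab P)
    rw [h] at h3 h4
    have h5 := Nat.le_of_dvd (by norm_num) h4
    have h6 := hr.two_le
    have h7 : Nat.card (Sylow 5 G) ≤ 108 := by nlinarith
    unfold Nat.ModEq at h1
    generalize Nat.card (Sylow 5 G) = n at *
    have h8 : n ∈ Nat.divisors 216 := by simp [h2]
    have : Nat.divisors 216 = {1,2,3,4,6,8,9,12,18,24,27,36,54,72,108,216} := by decide +kernel
    rw [this] at h8
    simp only [Finset.mem_insert, Finset.mem_singleton] at h8
    rcases h8 with rfl | rfl | rfl | rfl | rfl | rfl | rfl | rfl | rfl | rfl | rfl | rfl | rfl | rfl |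
      rfl | rfl <;> first | rfl | omega | (revert h3; decide)
  have hN : Nat.card (normalizer ((P : Subgroup G) : Set G)) = 150 := by
    have h1 := (normalizer ((P : Subgroup G) : Set G)).card_mul_index
    rw [← card_sylow_eq_index_normalizer' P, hn, h] at h1; omega
  obtain ⟨⟨σ, hσN⟩, hσ⟩ := exists_prime_orderOf_dvd_card' (G := normalizer ((P : Subgroup G) : Set G)) 3
    (by rw [hN]; norm_num)
  rw [Subgroup.orderOf_mk] at hσ
  have hσP : σ • P = P := Sylow.smul_eq_iff_mem_normalizer.mpr hσN
  -- the sets `T` and `U`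
  set U : Set (Sylow 5 G) := {R | (P : Subgroup G) ⊓ R = ⊥} with hU
  set T : Set (Sylow 5 G) := {R | R ≠ P ∧ (P : Subgroup G) ⊓ R ≠ ⊥} with hT
  have key : ∀ g : G, g • P = P → ∀ R : Sylow 5 G,
      ((P : Subgroup G) ⊓ (g • R : Sylow 5 G) = ⊥ ↔ (P : Subgroup G) ⊓ R = ⊥) := by
    intro g hg R
    have : (P : Subgroup G) ⊓ (g • R : Sylow 5 G) = MulAut.conj g • ((P : Subgroup G) ⊓ R) := by
      rw [Subgroup.smul_inf, ← Sylow.coe_subgroup_smul, ← Sylow.coe_subgroup_smul, hg]
    rw [this]
    constructor
    · intro h1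
      have := congrArg (fun H : Subgroup G => (MulAut.conj g)⁻¹ • H) h1
      simpa using this
    · intro h1; rw [h1]; simp
  have hU25 : 25 ∣ Nat.card U := by
    refine dvd_card_of_orbits (P := (P : Subgroup G)) U ?_ 25 ?_
    · rintro ⟨g, hg⟩ R hR
      have hgP : g • P = P := Sylow.smul_eq_iff_mem_normalizer.mpr (le_normalizer hg)
      exact (key g hgP R).mpr hR
    · intro R hR
      rw [card_orbit_sylow _ P.isPGroup' R]
      have : (R : Subgroup G).subgroupOf (P : Subgroup G) = ⊥ := by
        rw [subgroupOf_eq_bot, disjoint_iff, inf_comm]; exact hR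
      rw [this, index_bot, hcard]; norm_num
  have hPne : (P : Subgroup G) ≠ ⊥ := by
    intro h0; have := hcard P; rw [h0] at this; simp at this
  have hTU : Nat.card T + Nat.card U + 1 = 36 := by
    rw [← hn]
    have e1 : Set.univ = (T ∪ U) ∪ {P} := by
      ext R; simp only [Set.mem_univ, Set.mem_union, hT, hU, Set.mem_ofPred_eq,
        Set.mem_singleton_iff, true_iff]
      by_cases h1 : R = P
      · exact Or.inr h1
      · by_cases h2 : (P : Subgroup G) ⊓ R = ⊥
        · exact Or.inl (Or.inr h2)
        · exact Or.inl (Or.inl ⟨h1, h2⟩)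
    have d1 : Disjoint T U := by
      rw [Set.disjoint_left]; intro R h1 h2; exact h1.2 h2
    have d2 : Disjoint (T ∪ U) {P} := by
      rw [Set.disjoint_singleton_right]
      rintro (h1 | h1)
      · exact h1.1 rfl
      · apply hPne; simpa [hU] using h1
    rw [← Set.ncard_univ (Sylow 5 G), e1, Set.ncard_union_eq d2, Set.ncard_union_eq d1, Set.ncard_singleton]
    rfl
  have hT3 : ¬ 3 ∣ Nat.card T := by omega
  obtain ⟨R, hRT, hR⟩ : ∃ R ∈ T, σ • R = R := by
    by_contra hcon
    push Not at hcon
    apply hT3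
    refine dvd_card_of_orbits (P := zpowers σ) T ?_ 3 ?_
    · rintro ⟨g, hg⟩ R hR
      have hgP : g • P = P := Sylow.smul_eq_iff_mem_normalizer.mpr
        ((zpowers_le.mpr hσN) hg)
      refine ⟨fun h1 => hR.1 ?_, fun h1 => hR.2 ((key g hgP R).mp h1)⟩
      have h2 : g • R = g • P := by rw [hgP]; exact h1
      exact smul_left_cancel g h2
    · intro R hR
      have h1 : Nat.card (orbit (zpowers σ) R) ∣ 3 := by
        rw [← hσ, ← Nat.card_zpowers, Nat.card_congr (orbitEquivQuotientStabilizer (zpowers σ) R)]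
        exact (stabilizer (zpowers σ) R).index_dvd_card
      rcases (Nat.dvd_prime (by norm_num)).mp h1 with h2 | h2
      · exfalso
        apply hcon R hR
        haveI := (Nat.card_eq_one_iff_unique.mp h2).1
        have := Subsingleton.elim (⟨_, mem_orbit R (⟨σ, mem_zpowers σ⟩ : zpowers σ)⟩ :
          orbit (zpowers σ) R) ⟨R, mem_orbit_self R⟩
        exact congrArg Subtype.val this
      · rw [h2]
  set D : Subgroup G := (P : Subgroup G) ⊓ R with hD
  set M := normalizer (D : Set G) with hM
  have hle : ∀ Q : Sylow 5 G, D ≤ Q → (Q : Subgroup G) ≤ M := by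
    intro Q hQ x hx
    apply centralizer_le_normalizer
    rw [mem_centralizer_iff]
    intro y hy
    have := (hab Q).is_comm.comm (⟨y, hQ hy⟩ : (Q : Subgroup G)) ⟨x, hx⟩
    exact congrArg Subtype.val this
  have hPM : (P : Subgroup G) ≤ M := hle P inf_le_left
  have hRM : (R : Subgroup G) ≤ M := hle R inf_le_right
  have hσM : σ ∈ M := by
    have h1 := smul_sylow_eq_iff'.mp hR
    rw [hM, mem_normalizer_iff]
    intro x
    rw [mem_normalizer_iff] at h1 hσN
    simp only [hD, SetLike.mem_coe, mem_inf] at *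
    rw [h1 x, hσN x]
  have hMtop : M ≠ ⊤ := normalizer_ne_top D hRT.2
    (fun h0 => sylow_ne_top hG P (eq_top_iff.mpr (h0 ▸ inf_le_left)))
  have hMi := two_mul_card_dvd_factorial_index hG M hMtop
  have hMi10 : 10 ≤ M.index := by
    by_contra hlt
    push Not at hlt
    have := hMi.trans (Nat.factorial_dvd_factorial (show M.index ≤ 9 by omega))
    rw [h] at this
    revert this; decide
  have hMc := M.card_mul_index
  rw [h] at hMc
  have hM540 : Nat.card M ≤ 540 := by nlinarith
  set P' : Sylow 5 M := P.subtype hPM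
  set R' : Sylow 5 M := R.subtype hRM
  have hne : P' ≠ R' := fun h0 => hRT.1 (Sylow.subtype_injective h0).symm
  set N' := normalizer ((P' : Subgroup M) : Set M) with hN'
  have h75 : 75 ∣ Nat.card N' := by
    have h25 : 25 ∣ Nat.card N' := by
      have h1 := card_dvd_of_le (le_normalizer (H := (P' : Subgroup M)))
      have h2 : Nat.card (P' : Subgroup M) = 25 := by
        have := hcard P
        rw [← Nat.card_congr (subgroupOfEquivOfLe hPM).toEquiv] at this
        exact this
      rwa [h2] at h1
    have h3 : 3 ∣ Nat.card N' := by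
      have hm : (⟨σ, hσM⟩ : M) ∈ N' := by
        rw [hN', ← smul_sylow_eq_iff', Sylow.smul_subtype]
        congr 1
      have := orderOf_dvd_natCard (⟨⟨σ, hσM⟩, hm⟩ : N')
      rwa [Subgroup.orderOf_mk, Subgroup.orderOf_mk, hσ] at this
    exact Nat.Coprime.mul_dvd_of_dvd_of_dvd (show Nat.Coprime 25 3 by norm_num) h25 h3
  have h1 := N'.card_mul_index
  rw [hN', ← card_sylow_eq_index_normalizer' P', ← hN'] at h1
  have h2 := card_sylow_modEq_one 5 M
  have h3 : Nat.card (Sylow 5 M) ≠ 1 := by
    intro h0
    haveI := (Nat.card_eq_one_iff_unique.mp h0).1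
    exact hne (Subsingleton.elim _ _)
  obtain ⟨k, hk⟩ := h75
  have hkpos : 0 < k := by
    have := Nat.card_pos (α := N'); omega
  unfold Nat.ModEq at h2
  have h4 : 6 ≤ Nat.card (Sylow 5 M) := by omega
  have h450 : Nat.card M = 450 := by
    rw [hk] at h1
    have h5 : Nat.card (Sylow 5 M) ≤ 7 := by nlinarith
    have h6 : Nat.card (Sylow 5 M) = 6 := by omega
    rw [h6] at h1
    omega
  exact hne (sylow_eq_of_card_450 h450 P' R')

end H8
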