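import Cfsg.Agent.H8.Sieve
import Cfsg.Agent.H8.N5400
import Cfsg.Agent.H5.InvSylow

/-! No finite group has exactly twenty-one Sylow `5`-subgroups. -/

set_option linter.unusedSectionVars false

namespace H8

open Subgroup MulAction Cfsg
open scoped Pointwise

universe u

section V

variable {G : Type u} [Group G] [Fintype G] {p : ℕ} [hp : Fact p.Prime] {x : G} {h : DefOne p x}

theorem DefOne.Block.V_eq_bot_of_deg_le [IsSimpleGroup G] (hG : ¬ IsMulCommutative G)
    (b : h.Block) {χ : IrrCharacter G} (hχ : χ ∈ b.B) (h1 : χ ≠ ⟨1, irr_one⟩)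
    (hd : deg χ ≤ 2 * p) : h.V = ⊥ :=
  (eq_bot_iff_forall _).2 fun _ hv => irr_faithful_of_simple χ.2 (fun h5 => h1 (Subtype.ext h5))
    (b.apply_V_of_deg_lt (commutator_eq_top_of_simple hG) hχ hd hv)

theorem DefOne.Block.V_eq_bot_of_deg_ex_le [IsSimpleGroup G] (hG : ¬ IsMulCommutative G)
    (b : h.Block) (k : (ZMod p)ˣ) (hd : deg (b.ex k) ≤ 2 * p) : h.V = ⊥ :=
  (eq_bot_iff_forall _).2 fun _ hv => irr_faithful_of_simple (b.ex k).2
    (fun h5 => b.ex_ne_one k (Subtype.ext h5))
    (b.ex_apply_V_of_deg_lt (commutator_eq_top_of_simple hG) k hd hv)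

theorem deg_one : deg (⟨1, irr_one⟩ : IrrCharacter G) = 1 := by
  have : (1 : ℂ) = deg (⟨1, irr_one⟩ : IrrCharacter G) := deg_eq ⟨1, irr_one⟩
  exact_mod_cast this.symm

/-- The degree equation modulo an integer. -/
theorem DefOne.Block.dvd_one_add (b : h.Block) (k : (ZMod p)ˣ) {q : ℕ}
    (hq : ∀ χ ∈ b.B, χ ≠ ⟨1, irr_one⟩ → q ∣ deg χ) : (q : ℤ) ∣ 1 + b.sgn0 * deg (b.ex k) := by
  classical
  have h1 := b.sum_deg k
  rw [← Finset.add_sum_erase _ _ b.one_mem, b.sgn_one, deg_one] at h1
  have h2 : (q : ℤ) ∣ ∑ χ ∈ b.B.erase ⟨1, irr_one⟩, b.sgn χ * deg χ :=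
    Finset.dvd_sum fun χ hχ => Dvd.dvd.mul_left (Int.natCast_dvd_natCast.2
      (hq χ (Finset.mem_of_mem_erase hχ) (Finset.ne_of_mem_erase hχ))) _
  have h3 : 1 + b.sgn0 * deg (b.ex k) = -∑ χ ∈ b.B.erase ⟨1, irr_one⟩, b.sgn χ * deg χ := by
    push_cast at h1; linarith
  rw [h3]; exact h2.neg_right

end V

variable {G : Type u} [Group G] [Finite G]

theorem card_sylow_quotient_eq {p : ℕ} [Fact p.Prime] (M : Subgroup G) [M.Normal]
    (hM : ∀ P : Sylow p G, M ≤ normalizer ((P : Subgroup G) : Set G)) :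
    Nat.card (Sylow p (G ⧸ M)) = Nat.card (Sylow p G) := by
  symm
  refine Nat.card_congr (Equiv.ofBijective
    (Sylow.mapSurjective (QuotientGroup.mk'_surjective M) (p := p)) ⟨fun P Q hPQ => ?_, ?_⟩)
  · have h1 : (P : Subgroup G).map (QuotientGroup.mk' M) = (Q : Subgroup G).map (QuotientGroup.mk' M) :=
      congrArg (fun S : Sylow p (G ⧸ M) => (S : Subgroup (G ⧸ M))) hPQ
    have h2 := congrArg (Subgroup.comap (QuotientGroup.mk' M)) h1
    rw [comap_map_eq, comap_map_eq, QuotientGroup.ker_mk'] at h2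
    have h3 : (Q : Subgroup G) ≤ normalizer ((P : Subgroup G) : Set G) :=
      (le_sup_left.trans h2.ge).trans (sup_le le_normalizer (hM P))
    have h4 := (H5.isSylowOf_top P).le_of_le_normalizer' Q.isPGroup' le_top h3
    exact (Sylow.ext (Q.is_maximal' P.isPGroup' h4))
  · exact Sylow.mapSurjective_surjective _ p

theorem relIndex_eq_index_of_sup_eq_top {M K : Subgroup G} [M.Normal] (h : M ⊔ K = ⊤) :
    K.relIndex M = K.index := by
  have h1 := relIndex_sup_left K M
  rw [h, relIndex_top_right] at h1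
  have h2 := relIndex_mul_index (inf_le_left : M ⊓ K ≤ M)
  have h3 := relIndex_mul_index (inf_le_right : M ⊓ K ≤ K)
  rw [inf_relIndex_left] at h2
  rw [inf_relIndex_right, ← h1, ← h2, mul_comm] at h3
  exact (Nat.eq_of_mul_eq_mul_right (Nat.pos_of_ne_zero index_ne_zero_of_finite) h3).symm

theorem card_sylow_normal_dvd {p : ℕ} [Fact p.Prime] (M : Subgroup G) [M.Normal] :
    Nat.card (Sylow p M) ∣ Nat.card (Sylow p G) := by
  obtain ⟨P⟩ : Nonempty (Sylow p G) := inferInstance
  have h1 : H5.IsSylowOf p ((P : Subgroup G) ⊓ M) M :=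
    (H5.isSylowOf_top P).inf_of_le_normalizer le_top (by rw [normalizer_eq_top]; exact le_top)
  obtain ⟨S, hS⟩ := h1.exists_sylow
  set K := normalizer (((P : Subgroup G) ⊓ M : Subgroup G) : Set G) with hK
  have h2 : normalizer ((P : Subgroup G) : Set G) ≤ K := by
    intro g hg
    rw [hK, mem_normalizer_iff]
    rw [mem_normalizer_iff] at hg
    intro y
    simp only [mem_inf, SetLike.mem_coe] at *
    rw [← hg y]
    refine and_congr_right fun _ => ⟨fun h => ‹M.Normal›.conj_mem _ h g, fun h => ?_⟩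
    simpa [mul_assoc] using ‹M.Normal›.conj_mem _ h g⁻¹
  have h3 : M ⊔ K = ⊤ := by
    have := h1.sup_normalizer (K := ⊤) le_top (by rw [normalizer_eq_top])
    rwa [top_inf_eq] at this
  have h4 : normalizer ((S : Subgroup M) : Set M) = K.subgroupOf M := by
    have : (S : Subgroup M) = ((P : Subgroup G) ⊓ M).subgroupOf M := by
      rw [← hS]; exact (comap_map_eq_self_of_injective M.subtype_injective _).symm
    rw [this, hK, subgroupOf_normalizer_eq inf_le_right]
  rw [card_sylow_eq_index_normalizer' S, card_sylow_eq_index_normalizer' P, h4]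
  have h5 : (K.subgroupOf M).index = K.index := relIndex_eq_index_of_sup_eq_top h3
  rw [h5]
  exact index_dvd_of_le h2

/-- The orbit of a Sylow subgroup `P` under a subgroup normalised by `P`. -/
theorem card_orbit_sylow_modEq {p : ℕ} [hp : Fact p.Prime] (P : Sylow p G) (R : Subgroup G)
    (hR : (P : Subgroup G) ≤ normalizer (R : Set G)) : Nat.card (orbit R P) ≡ 1 [MOD p] := by
  have h1 : p ∣ Nat.card ↥(orbit R P \ {P}) := by
    refine dvd_card_of_orbits (P := (P : Subgroup G)) _ ?_ p ?_
    · rintro ⟨g, hg⟩ Q ⟨⟨r, rfl⟩, hQ⟩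
      have hgP : g • P = P := smul_sylow_eq_iff'.2 (le_normalizer hg)
      refine ⟨⟨⟨g * r * g⁻¹, (mem_normalizer_iff.1 (hR hg) r).1 r.2⟩, ?_⟩, fun h => hQ ?_⟩
      · change (g * r * g⁻¹) • P = g • (r : G) • P
        rw [mul_smul, mul_smul, inv_smul_eq_iff.2 hgP.symm]
      · have h2 : g • (r • P) = g • P := by rw [hgP]; exact h
        exact smul_left_cancel g h2
    · intro Q hQ
      rw [card_orbit_sylow _ P.isPGroup' Q]
      obtain ⟨k, hk⟩ := P.isPGroup'.index ((Q : Subgroup G).subgroupOf P)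
      rw [hk]
      refine dvd_pow_self _ ?_
      rintro rfl
      rw [pow_zero, index_eq_one, subgroupOf_eq_top] at hk
      exact hQ.2 (Sylow.ext (P.is_maximal' Q.isPGroup' hk))
  have h2 : Nat.card ↥(orbit R P \ {P}) + 1 = Nat.card (orbit R P) :=
    Set.ncard_sdiff_singleton_add_one (mem_orbit_self P)
  rw [← h2]
  exact (Nat.modEq_zero_iff_dvd.2 h1).add_right 1

theorem card_orbit_le {H α : Type*} [Group H] [MulAction H α] [Finite α] (a : α) :
    Nat.card (orbit H a) ≤ Nat.card α :=
  Nat.card_le_card_of_injective _ Subtype.val_injective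

theorem le_normalizer_of_normal_coprime (h : Nat.card (Sylow 5 G) = 21) (M : Subgroup G) [M.Normal]
    (hM : ¬ 5 ∣ Nat.card M) (P : Sylow 5 G) : M ≤ normalizer ((P : Subgroup G) : Set G) := by
  haveI : Fact (Nat.Prime 5) := ⟨by norm_num⟩
  set N := normalizer ((P : Subgroup G) : Set G) with hN
  have hidx : N.index = 21 := by rw [← h, card_sylow_eq_index_normalizer' P]
  have hd : N.relIndex M ∣ 21 := by
    rw [← hidx]
    have h1 : N.relIndex M = (N.subgroupOf (M ⊔ N)).index := by
      have h2 : (M.subgroupOf (M ⊔ N)) ⊔ (N.subgroupOf (M ⊔ N)) = ⊤ := by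
        rw [← subgroupOf_sup le_sup_left le_sup_right, subgroupOf_self]
      rw [← relIndex_eq_index_of_sup_eq_top h2, relIndex_subgroupOf le_sup_left]
    rw [h1]
    exact relIndex_dvd_index_of_le le_sup_right
  have hc : (Nat.card (P : Subgroup G)).Coprime (Nat.card M) := by
    obtain ⟨k, hk⟩ := IsPGroup.iff_card.1 P.isPGroup'
    rw [hk]
    exact ((Nat.Prime.coprime_iff_not_dvd (by norm_num)).2 hM).pow_left _
  have key : ∀ r : ℕ, r = 3 ∨ r = 7 → ¬ r ∣ N.relIndex M := by
    intro r hr
    haveI : Fact r.Prime := ⟨by rcases hr with rfl | rfl <;> norm_num⟩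
    haveI := P.isPGroup'.isNilpotent
    obtain ⟨R, hR, hPR⟩ := H5.exists_invariant_isSylowOf r (A := P) (K := M)
      (by rw [normalizer_eq_top]; exact le_top) hc (Or.inl inferInstance)
    have h1 := card_orbit_sylow_modEq P R hPR
    have h2 := card_orbit_le (H := R) P
    rw [h] at h2
    obtain ⟨k, hk⟩ := hR.isPGroup.card_orbit P
    have h3 : Nat.card (orbit R P) = 1 := by
      rw [hk] at h1 h2 ⊢
      have h4 : k < 3 := by
        by_contra h5
        have : r ^ 3 ≤ r ^ k := Nat.pow_le_pow_right (by omega) (by omega)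
        rcases hr with rfl | rfl <;> omega
      rcases hr with rfl | rfl <;> interval_cases k <;> simp_all [Nat.ModEq]
    have h4 : R ≤ N := by
      intro g hg
      haveI := (Nat.card_eq_one_iff_unique.mp h3).1
      have := Subsingleton.elim (⟨_, mem_orbit P (⟨g, hg⟩ : R)⟩ : orbit R P) ⟨P, mem_orbit_self P⟩
      exact smul_sylow_eq_iff'.1 (congrArg Subtype.val this)
    exact fun h5 => hR.not_dvd (h5.trans (relIndex_dvd_of_le_left M h4))
  have h1 : N.relIndex M = 1 := by
    have h2 := key 3 (Or.inl rfl)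
    have h3 := key 7 (Or.inr rfl)
    have h4 := Nat.le_of_dvd (by norm_num) hd
    interval_cases N.relIndex M <;> simp_all
  exact relIndex_eq_one.1 h1

theorem card_eq_five_of_simple [IsSimpleGroup G] (hG : ¬ IsMulCommutative G)
    (h : Nat.card (Sylow 5 G) = 21) (P : Sylow 5 G) : Nat.card (P : Subgroup G) = 5 := by
  classical
  haveI : Fact (Nat.Prime 5) := ⟨by norm_num⟩
  haveI := Fintype.ofFinite (Sylow 5 G)
  have horb : ∀ A B : Sylow 5 G, A ≠ B → Nat.card (orbit (A : Subgroup G) B) = 5 := by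
    intro A B hAB
    have h1 := card_orbit_le (H := (A : Subgroup G)) B
    obtain ⟨k, hk⟩ := A.isPGroup'.card_orbit B
    rw [h, hk] at h1
    have h4 : k < 2 := by
      by_contra h5
      have : 5 ^ 2 ≤ 5 ^ k := Nat.pow_le_pow_right (by omega) (by omega)
      omega
    have h5 : k ≠ 0 := by
      rintro rfl
      rw [card_orbit_sylow _ A.isPGroup' B, pow_zero, index_eq_one, subgroupOf_eq_top] at hk
      exact hAB (Sylow.ext (A.is_maximal' B.isPGroup' hk)).symm
    obtain rfl : k = 1 := by omega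
    exact hk
  have hinf : ∀ A B : Sylow 5 G, A ≠ B →
      Nat.card ↥((A : Subgroup G) ⊓ B) * 5 = Nat.card (P : Subgroup G) := by
    intro A B hAB
    have h1 := horb A B hAB
    rw [card_orbit_sylow _ A.isPGroup' B] at h1
    have h2 := ((B : Subgroup G).subgroupOf A).card_mul_index
    rw [h1, ← inf_subgroupOf_left, Nat.card_congr (subgroupOfEquivOfLe inf_le_left).toEquiv] at h2
    rw [h2]
    exact Nat.card_congr (Sylow.equiv A P).toEquiv
  have hinf' : ∀ A B C D : Sylow 5 G, A ≠ B → C ≠ D → (A : Subgroup G) ⊓ B ≤ (C : Subgroup G) ⊓ D →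
      (A : Subgroup G) ⊓ B = (C : Subgroup G) ⊓ D := fun A B C D h1 h2 h3 =>
    eq_of_le_of_card_ge h3 (by have := hinf A B h1; have := hinf C D h2; omega)
  have hle : ∀ A B C : Sylow 5 G, A ≠ B → C ∈ orbit (A : Subgroup G) B →
      (A : Subgroup G) ⊓ B ≤ C := by
    rintro A B C hAB ⟨⟨g, hg⟩, rfl⟩ y hy
    have h1 := horb A B hAB
    rw [card_orbit_sylow _ A.isPGroup' B] at h1
    have h2 := le_normalizer_inf_of_index (P := (A : Subgroup G)) (R := (B : Subgroup G))
      A.isPGroup' (by rw [relIndex]; exact h1)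
    change y ∈ ((g • B : Sylow 5 G) : Subgroup G)
    rw [mem_smul_sylow_iff]
    have := (mem_normalizer_iff.1 (h2 (inv_mem hg)) y).1 hy
    rw [inv_inv] at this
    exact this.2
  have hne : ∀ A B C : Sylow 5 G, A ≠ B → C ∈ orbit (A : Subgroup G) B → A ≠ C := by
    rintro A B C hAB ⟨⟨g, hg⟩, rfl⟩ h1
    have hgA : g • A = A := smul_sylow_eq_iff'.2 (le_normalizer hg)
    have h2 : g • A = g • B := by rw [hgA]; exact h1
    exact hAB (smul_left_cancel g h2)
  obtain ⟨R, hR⟩ : ∃ R : Sylow 5 G, P ≠ R := by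
    haveI : Nontrivial (Sylow 5 G) := Finite.one_lt_card_iff_nontrivial.1 (by omega)
    obtain ⟨R, hR⟩ := exists_ne P
    exact ⟨R, hR.symm⟩
  by_contra hP
  have hD : (P : Subgroup G) ⊓ R ≠ ⊥ := by
    intro h0
    have := hinf P R hR
    rw [h0] at this
    simp at this; omega
  obtain ⟨A, hA⟩ : ∃ A : Sylow 5 G, ¬ (P : Subgroup G) ⊓ R ≤ A := by
    by_contra hcon
    push Not at hcon
    have h1 : (P : Subgroup G) ⊓ R ≤ (P : Subgroup G).normalCore := by
      intro y hy g
      have := hcon (g⁻¹ • P) hy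
      rwa [mem_smul_sylow_iff, inv_inv] at this
    rcases (P : Subgroup G).normalCore_normal.eq_bot_or_eq_top with h2 | h2
    · exact hD (eq_bot_iff.2 (h2 ▸ h1))
    · exact sylow_ne_top hG P (eq_top_iff.2 (h2 ▸ normalCore_le _))
  have hAB : ∀ B ∈ orbit (P : Subgroup G) R, A ≠ B := by
    rintro B hB rfl
    exact hA (hle P R A hR hB)
  have hdisj : ((orbit (P : Subgroup G) R).toFinset : Set (Sylow 5 G)).PairwiseDisjoint
      fun B => (orbit (A : Subgroup G) B).toFinset := by
    intro B hB C hC hBC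
    rw [Set.coe_toFinset] at hB hC
    rw [Function.onFun, Finset.disjoint_left]
    intro E hE hE'
    rw [Set.mem_toFinset] at hE hE'
    have e1 := hinf' A B A E (hAB B hB) (hne A B E (hAB B hB) hE)
      (le_inf inf_le_left (hle A B E (hAB B hB) hE))
    have e2 := hinf' A C A E (hAB C hC) (hne A C E (hAB C hC) hE')
      (le_inf inf_le_left (hle A C E (hAB C hC) hE'))
    have e3 := hinf' P R B C hR hBC (le_inf (hle P R B hR hB) (hle P R C hR hC))
    have e4 := hinf' A B B C (hAB B hB) hBC (le_inf inf_le_right (by rw [e1, ← e2]; exact inf_le_right))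
    exact hA (by rw [e3, ← e4]; exact inf_le_left)
  have h1 := Finset.card_le_univ ((orbit (P : Subgroup G) R).toFinset.biUnion
    fun B => (orbit (A : Subgroup G) B).toFinset)
  rw [Finset.card_biUnion hdisj, Finset.sum_congr rfl (g := fun _ => 5) (fun B hB => by
    rw [Set.toFinset_card, ← Nat.card_eq_fintype_card]
    exact horb A B (hAB B (Set.mem_toFinset.1 hB))), Finset.sum_const, Set.toFinset_card,
    ← Nat.card_eq_fintype_card, ← Nat.card_eq_fintype_card, horb P R hR, h] at h1
  simp at h1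

theorem card_sylow_ne_of_simple [IsSimpleGroup G] : Nat.card (Sylow 5 G) ≠ 21 := by
  classical
  intro h
  haveI : Fact (Nat.Prime 5) := ⟨by norm_num⟩
  haveI := Fintype.ofFinite G
  obtain ⟨P⟩ : Nonempty (Sylow 5 G) := inferInstance
  have hG : ¬ IsMulCommutative G := by
    intro hc
    have h1 := card_sylow_eq_index_normalizer' P
    haveI := Subgroup.normal_of_isMulCommutative (P : Subgroup G)
    rw [normalizer_eq_top, index_top] at h1
    omega
  have hP := card_eq_five_of_simple hG h P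
  have hN : Nat.card G = 5 * (P : Subgroup G).index := by
    have := (P : Subgroup G).card_mul_index
    rw [hP] at this; exact this.symm
  obtain ⟨x, hx⟩ := exists_defOne hN P.not_dvd_index
  obtain ⟨b⟩ := hx.nonempty_block
  have he1 := hx.one_lt_card_H (commutator_eq_top_of_simple hG)
  have he2 := hx.card_H_dvd
  have hn : (Nx x).index = 21 := by rw [← hx.card_sylow, h]
  have he : Nat.card hx.H = 2 ∨ Nat.card hx.H = 4 := by
    have := Nat.le_of_dvd (by norm_num) he2
    interval_cases Nat.card hx.H <;> simp_all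
  have hV : hx.V = ⊥ := by
    by_contra hV
    have h1 := b.dvd_one_add 1 (q := 7) fun χ hχ h1 => by
      have h2 : ¬ deg χ ≤ 2 * 5 := fun h2 => hV (b.V_eq_bot_of_deg_le hG hχ h1 h2)
      have h3 := b.deg_dvd hχ
      rw [hx.index_Cx, hn] at h3
      have h4 : deg χ ∣ 84 := h3.trans (by rcases he with h | h <;> rw [h] <;> norm_num)
      obtain ⟨k, hk⟩ := b.deg_modEq hχ
      have h5 := Nat.le_of_dvd (by norm_num) h4
      have h6 := b.sgn_eq χ hχ
      generalize deg χ = d at *
      interval_cases d <;> omega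
    have h2 : ¬ deg (b.ex 1) ≤ 2 * 5 := fun h2 => hV (b.V_eq_bot_of_deg_ex_le hG 1 h2)
    have h3 := b.deg_ex_dvd 1
    rw [hx.index_Cx, hn] at h3
    obtain ⟨k, hk⟩ := b.deg_ex_modEq 1
    have h6 := b.sgn0_eq
    generalize deg (b.ex 1) = d at *
    have h5 : d ≤ 84 := (Nat.le_of_dvd (by omega) h3).trans (by omega)
    rcases he with he | he <;> rw [he] at h3 hk <;> interval_cases d <;> omega
  have hc := hx.card_eq
  rw [hV, hn, card_bot] at hc
  rcases he with he | he <;> rw [he] at hc
  · exact card_ne_of_killP hG (B := 30) (N := 210) (p := 2) (by decide +kernel) hc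
  · exact card_ne_of_killP hG (B := 30) (N := 420) (p := 7) (by decide +kernel) hc

theorem card_sylow_five_ne_aux (n : ℕ) : ∀ (G : Type u) [Group G] [Finite G], Nat.card G = n →
    Nat.card (Sylow 5 G) ≠ 21 := by
  induction n using Nat.strong_induction_on with
  | _ n ih =>
  intro G _ _ hn h
  haveI : Fact (Nat.Prime 5) := ⟨by norm_num⟩
  have ha : ∀ M : Subgroup G, M.Normal →
      (∀ P : Sylow 5 G, M ≤ normalizer ((P : Subgroup G) : Set G)) → M = ⊥ := by
    intro M hM h1
    by_contra h2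
    refine ih _ ?_ (G ⧸ M) rfl (by rw [card_sylow_quotient_eq M h1, h])
    rw [← hn, ← M.index_mul_card]
    exact lt_mul_of_one_lt_right Nat.card_pos ((one_lt_card_iff_ne_bot M).2 h2)
  haveI : Nontrivial G := by
    by_contra h1
    rw [not_nontrivial_iff_subsingleton] at h1
    haveI : Subsingleton (Sylow 5 G) := ⟨fun P Q => Sylow.ext (Subsingleton.elim _ _)⟩
    have := Finite.card_le_one_iff_subsingleton.2 this
    omega
  haveI : IsSimpleGroup G := ⟨fun M hM => by
    by_cases hT : M = ⊤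
    · exact Or.inr hT
    left
    refine ha M hM (le_normalizer_of_normal_coprime h M fun h5 => ?_)
    have h1 : Nat.card (Sylow 5 M) = 1 := by
      have h2 := card_sylow_normal_dvd (p := 5) M
      have h3 := card_sylow_modEq_one 5 M
      have h4 := ih (Nat.card M) (by
        rw [← hn, ← M.card_mul_index]
        exact lt_mul_of_one_lt_right Nat.card_pos (one_lt_index_of_ne_top hT)) M rfl
      rw [h] at h2
      have h5 := Nat.le_of_dvd (by norm_num) h2
      unfold Nat.ModEq at h3
      interval_cases Nat.card (Sylow 5 M) <;> simp_all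
    haveI := (Nat.card_eq_one_iff_unique.mp h1).1
    obtain ⟨S⟩ : Nonempty (Sylow 5 M) := inferInstance
    haveI := S.characteristic_of_subsingleton
    have h2 := ha ((S : Subgroup M).map M.subtype) inferInstance fun P =>
      ((S.isPGroup'.map _).le_sylow_of_normal P).trans le_normalizer
    rw [map_eq_bot_iff_of_injective _ M.subtype_injective] at h2
    exact S.ne_bot_of_dvd_card h5 h2⟩
  exact card_sylow_ne_of_simple h

end H8
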