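import Cfsg.Agent.H8.BrNum

/-! # A verified sieve for orders of simple groups -/

set_option linter.unusedSectionVars false

namespace H8

/-- trial division -/
def primeB (B n : ℕ) : Bool :=
  decide (2 ≤ n) && decide (n < B * B) &&
    (List.range B).all fun d => decide (d < 2) || decide (n ≤ d) || n % d != 0

theorem prime_of_primeB {B n : ℕ} (h : primeB B n = true) : n.Prime := by
  simp only [primeB, Bool.and_eq_true, decide_eq_true_eq, List.all_eq_true, List.mem_range,
    Bool.or_eq_true, bne_iff_ne, ne_eq] at h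
  obtain ⟨⟨h1, h2⟩, h3⟩ := h
  rw [Nat.prime_def_le_sqrt]
  refine ⟨h1, fun d hd hd' hdvd => ?_⟩
  rw [Nat.le_sqrt] at hd'
  have h4 : d < B := by by_contra h5; nlinarith
  rcases h3 d h4 with (h5 | h5) | h5
  · omega
  · nlinarith
  · exact h5 (Nat.mod_eq_zero_of_dvd hdvd)

/-- inner loop of the multiset search -/
def srchIn (next : ℕ → List ℤ → Bool) (fin ok : List ℤ → Bool) (o : ℤ) : ℕ → List ℤ → Bool
  | 0, acc => fin acc
  | k + 1, acc => (!ok (o :: acc) || srchIn next fin ok o k (o :: acc)) && next (k + 1) acc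

/-- search through all multisets of a given size -/
def srch (fin ok : List ℤ → Bool) : List ℤ → ℕ → List ℤ → Bool
  | [], k, acc => k != 0 || fin acc
  | o :: rest, k, acc => srchIn (srch fin ok rest) fin ok o k acc

theorem srch_sound {β : Type*} (f : β → ℤ) (fin ok : List ℤ → Bool) (opts : List ℤ) :
    ∀ (l acc : List β), (∀ b ∈ l, f b ∈ opts) →
      (∀ l' : List β, l'.Subperm (l ++ acc) → ok (l'.map f) = true) →
      srch fin ok opts l.length (acc.map f) = true →
      ∃ l' : List β, l'.Perm (l ++ acc) ∧ fin (l'.map f) = true := by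
  induction opts with
  | nil =>
    intro l acc h1 _ h3
    obtain rfl : l = [] := List.eq_nil_iff_forall_not_mem.2 fun b hb => by simpa using h1 b hb
    exact ⟨acc, List.Perm.refl _, by simpa [srch] using h3⟩
  | cons o rest ih =>
    intro l
    induction hk : l.length generalizing l with
    | zero =>
      intro acc _ _ h3
      obtain rfl : l = [] := List.length_eq_zero_iff.1 hk
      exact ⟨acc, List.Perm.refl _, by simpa [srch, srchIn] using h3⟩
    | succ k ihk =>
      intro acc h1 h2 h3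
      simp only [srch, srchIn, Bool.and_eq_true, Bool.or_eq_true, Bool.not_eq_true'] at h3
      by_cases hex : ∃ b ∈ l, f b = o
      · obtain ⟨b, hb, hbo⟩ := hex
        obtain ⟨l₁, l₂, rfl⟩ := List.append_of_mem hb
        have hperm : ((l₁ ++ l₂) ++ (b :: acc)).Perm ((l₁ ++ b :: l₂) ++ acc) :=
          List.perm_middle.trans (List.Perm.append_right acc List.perm_middle.symm)
        have hok : ok (o :: acc.map f) = true := by
          have := h2 (b :: acc) (((List.sublist_append_right _ _).subperm).trans hperm.subperm)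
          rwa [List.map_cons, hbo] at this
        obtain ⟨l', h4, h5⟩ := ihk (l₁ ++ l₂) (by simp at hk ⊢; omega) (b :: acc)
          (fun c hc => h1 c (by simp at hc ⊢; tauto))
          (fun l' hl' => h2 l' (hl'.trans hperm.subperm))
          (by rw [List.map_cons, hbo]; exact h3.1.resolve_left (by simp [hok]))
        exact ⟨l', h4.trans hperm, h5⟩
      · push Not at hex
        exact ih l acc (fun b hb => (List.mem_cons.1 (h1 b hb)).resolve_left (hex b hb)) h2
          (hk ▸ h3.2)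

/-- search through the possible values at an involution -/
def aLoop (K c Lc : ℤ) (fin : ℤ → ℤ → ℤ → Bool) : List ℤ → ℤ → ℤ → ℤ → Bool
  | [], s, sq, S => fin s sq S
  | d :: ds, s, sq, S => (List.range (2 * d.natAbs)).all fun i =>
      let a : ℤ := i - d.natAbs
      i == 0 || (K * a) % d != 0 || decide (c < sq + a * a) ||
        aLoop K c Lc fin ds (s + a) (sq + a * a) (S + a * a * (Lc / d))

theorem aLoop_sound (K c Lc : ℤ) (fin : ℤ → ℤ → ℤ → Bool) (L : List (ℤ × ℤ)) :
    ∀ s sq S : ℤ, (∀ q ∈ L, |q.2| < |q.1| ∧ q.1 ∣ K * q.2) →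
      sq + (L.map fun q => q.2 * q.2).sum ≤ c → aLoop K c Lc fin (L.map Prod.fst) s sq S = true →
      fin (s + (L.map Prod.snd).sum) (sq + (L.map fun q => q.2 * q.2).sum)
        (S + (L.map fun q : ℤ × ℤ => q.2 * q.2 * (Lc / q.1)).sum) = true := by
  induction L with
  | nil => intro s sq S _ _ h; simpa [aLoop] using h
  | cons q L ih =>
    intro s sq S h1 h2 h3
    obtain ⟨h4, h5⟩ := h1 q List.mem_cons_self
    simp only [List.map_cons, List.sum_cons, aLoop, List.all_eq_true, List.mem_range] at h2 h3 ⊢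
    have h6 : 0 ≤ (L.map fun q => q.2 * q.2).sum :=
      List.sum_nonneg fun y hy => by
        obtain ⟨q, -, rfl⟩ := List.mem_map.1 hy
        exact mul_self_nonneg _
    rw [Int.abs_eq_natAbs q.1, abs_lt] at h4
    have h7 := h3 (q.2 + q.1.natAbs).toNat (by omega)
    rw [show (((q.2 + q.1.natAbs).toNat : ℕ) : ℤ) - q.1.natAbs = q.2 by omega] at h7
    simp only [Bool.or_eq_true, beq_iff_eq, bne_iff_ne, decide_eq_true_eq] at h7
    rcases h7 with ((h7 | h7) | h7) | h7
    · omega
    · exact absurd (Int.emod_eq_zero_of_dvd h5) h7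
    · omega
    · have := ih _ _ _ (fun q hq => h1 q (List.mem_cons_of_mem _ hq)) (by omega) h7
      simpa only [add_assoc] using this

/-- the involution test -/
def invKill (N p t Lc : ℕ) (ds : List ℤ) (d0 : ℤ) : Bool :=
  (List.range (N / p + 1)).all fun j => j % 2 == 0 || (N / p) % j != 0 ||
    aLoop (p * j : ℕ) (N / p / j : ℕ) Lc (fun s sq S =>
      decide (d0.natAbs ≤ s.natAbs) || ((p * j : ℕ) * s) % d0 != 0 ||
        decide (((N / p / j : ℕ) : ℤ) < sq + t * (s * s)) ||
        (S + s * s * (Lc / d0) != 0 &&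
          (p * j : ℕ) * (S + s * s * (Lc / d0)) != p * (N / p / j : ℕ) * Lc)) ds 1 1 Lc

theorem invKill_sound {N p t Lc : ℕ} (hN : 0 < N) (hp : 0 < p) {L L' : List (ℤ × ℤ)} {d0 : ℤ}
    (hL : L'.Perm L) (h : invKill N p t Lc (L'.map Prod.fst) d0 = true) :
    ¬ InvData N p t Lc L d0 := by
  rintro ⟨K, c, b, h1, h2, ⟨j, rfl⟩, h4, h5, h6, h7, h8, h9⟩
  have hm : N / p = j * c := by rw [← h1, mul_assoc, Nat.mul_div_cancel_left _ hp]
  have hj : 0 < j := Nat.pos_of_ne_zero (by rintro rfl; simp at h1; omega)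
  have hc : 0 < c := Nat.pos_of_ne_zero (by rintro rfl; simp at h1; omega)
  simp only [invKill, List.all_eq_true, List.mem_range, hm] at h
  have h10 := h j (by nlinarith)
  rw [Nat.mul_div_cancel_left _ hj, Nat.mul_mod_right] at h10
  have h11 : j % 2 = 1 := by
    rcases Nat.mod_two_eq_zero_or_one j with h12 | h12
    · rw [Nat.mul_mod, h12] at h2; simp at h2
    · exact h12
  rw [h11] at h10
  rw [← (hL.map _).sum_eq] at h7 h8 h9
  have h12 : 0 ≤ (t : ℤ) * (b * b) := mul_nonneg (Nat.cast_nonneg _) (mul_self_nonneg _)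
  simp only [bne_self_eq_false, Bool.or_false, Nat.reduceBEq, Bool.false_or] at h10
  have h13 := aLoop_sound _ c _ _ L' 1 1 Lc (fun q hq => h4 q (hL.subset hq)) (by omega) h10
  rw [show 1 + (L'.map Prod.snd).sum = -b by omega] at h13
  simp only [neg_mul_neg] at h13
  simp only [Bool.or_eq_true, decide_eq_true_eq, bne_iff_ne, Bool.and_eq_true,
    Int.natAbs_neg, mul_neg] at h13
  rcases h13 with ((h13 | h13) | h13) | h13
  · rw [Int.abs_eq_natAbs, Int.abs_eq_natAbs] at h5; omega
  · exact h13 (Int.emod_eq_zero_of_dvd (dvd_neg.2 h6))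
  · omega
  · exact h9.elim h13.1 h13.2

/-- the possible signed degrees -/
def degOpts (B p Lc lo : ℕ) : List ℤ :=
  (List.range B).flatMap fun d => if lo ≤ d ∧ Lc % d = 0 then
    (if d % p = 1 then [(d : ℤ)] else []) ++ (if (d + 1) % p = 0 then [-(d : ℤ)] else []) else []

theorem mem_degOpts {B p Lc lo : ℕ} (hp : 1 < p) {d : ℤ} (h1 : (p : ℤ) ∣ d - 1)
    (h2 : d.natAbs ∣ Lc) (h3 : lo ≤ d.natAbs) (h4 : d.natAbs < B) : d ∈ degOpts B p Lc lo := by
  simp only [degOpts, List.mem_flatMap, List.mem_range]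
  refine ⟨d.natAbs, h4, ?_⟩
  rw [if_pos ⟨h3, Nat.mod_eq_zero_of_dvd h2⟩, List.mem_append]
  rcases Int.natAbs_eq d with h5 | h5
  · left
    rw [if_pos, ← h5]
    · simp
    · rw [h5] at h1
      rw [(Nat.modEq_iff_dvd.2 (by simpa using h1) : 1 ≡ d.natAbs [MOD p]).symm,
        Nat.mod_eq_of_lt hp]
  · right
    rw [if_pos, ← h5]
    · simp
    · apply Nat.mod_eq_zero_of_dvd
      rw [← Int.natCast_dvd_natCast, ← dvd_neg]
      rwa [show -((d.natAbs + 1 : ℕ) : ℤ) = d - 1 by omega]

/-- the test for fixed parameters `n`, `e`, `w` -/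
def killE (B N p n e w : ℕ) : Bool :=
  srch (fun ds =>
      let d0 : ℤ := -(1 + ds.sum)
      decide (d0.natAbs < if w = 1 then 2 else 2 * p + 1) || (n * e) % d0.natAbs != 0 ||
        (d0 + e) % p != 0 ||
        decide ((N : ℤ) < 1 + (ds.map fun d => d * d).sum + ((p - 1) / e : ℕ) * (d0 * d0)) ||
        (w == 1 && N / p % 2 == 0 && invKill N p ((p - 1) / e) (n * e) ds d0))
    (fun ds => decide (1 + (ds.map fun d => d * d).sum ≤ (N : ℤ)))
    (degOpts B p (n * e) (if w = 1 then 2 else 2 * p + 1)) (e - 1) []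

/-- failure of the embedding into the alternating group -/
def factKill (N n : ℕ) : Bool := decide (n ≤ 40) && n.factorial % (2 * N) != 0

theorem factKill_sound {N n : ℕ} (h : 2 * N ∣ n.factorial) : factKill N n = false := by
  simp [factKill, Nat.mod_eq_zero_of_dvd h]

/-- the test for a prime dividing the order to the first power -/
def killP (B N p : ℕ) : Bool :=
  primeB B p && decide (N < B * B) && N % p == 0 && N / p % p != 0 &&
    (List.range (N / p / p + 1)).all fun j => j == 0 || (N / p) % (p * j + 1) != 0 ||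
      factKill N (p * j + 1) || (List.range p).all fun e => decide (e < 2) || (p - 1) % e != 0 ||
        (N / p / (p * j + 1)) % e != 0 || killE B N p (p * j + 1) e (N / p / (p * j + 1) / e)

universe u

variable {G : Type u} [Group G] [Finite G] [IsSimpleGroup G]

theorem card_ne_of_killP (hG : ¬ IsMulCommutative G) {B N p : ℕ} (h : killP B N p = true) :
    Nat.card G ≠ N := by
  intro hN
  simp only [killP, Bool.and_eq_true, decide_eq_true_eq, beq_iff_eq, bne_iff_ne, List.all_eq_true,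
    List.mem_range, Bool.or_eq_true] at h
  obtain ⟨⟨⟨⟨h1, h2⟩, h3⟩, h4⟩, h5⟩ := h
  have hp := prime_of_primeB h1
  have : Fact p.Prime := ⟨hp⟩
  have hNpos : 0 < N := hN ▸ Nat.card_pos
  obtain ⟨n, e, w, L, d0, a1, a2, a3, a4, a5, a6, a7, a8, a9, a10, a11, a12, a13, a14⟩ :=
    brauer_numeric hG (p := p) (m := N / p)
      (by rw [hN, Nat.mul_div_cancel' (Nat.dvd_of_mod_eq_zero h3)])
      (fun h6 => h4 (Nat.mod_eq_zero_of_dvd h6))
  rw [hN] at a4 a13 a14
  have hm : 0 < N / p := Nat.pos_of_ne_zero fun h6 => h4 (by rw [h6, Nat.zero_mod])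
  have hn : p * (n / p) + 1 = n := by rw [← a2, Nat.div_add_mod]
  have hn0 : 0 < n := by omega
  have hnm : n ∣ N / p := ⟨e * w, by rw [← a1, mul_assoc]⟩
  have b1 := h5 (n / p) (Nat.lt_succ_of_le (Nat.div_le_div_right (Nat.le_of_dvd hm hnm)))
  rw [hn, factKill_sound a4, ← a1, mul_assoc, Nat.mul_div_cancel_left _ hn0] at b1
  rcases b1 with ((b1 | b1) | b1) | b1
  · rw [b1] at hn; omega
  · exact b1 (Nat.mul_mod_right _ _)
  · exact absurd b1 (by simp)
  have b2 := b1 e (lt_of_le_of_lt (Nat.le_of_dvd (by have := hp.two_le; omega) a5)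
    (Nat.sub_lt hp.pos one_pos))
  rw [Nat.mul_div_cancel_left _ (by omega)] at b2
  rcases b2 with ((b2 | b2) | b2) | b2
  · omega
  · exact b2 (Nat.mod_eq_zero_of_dvd a5)
  · exact b2 (Nat.mul_mod_right _ _)
  have hnn : ∀ l : List (ℤ × ℤ), ∀ y ∈ l.map (fun q => q.1 * q.1), 0 ≤ y := fun l y hy => by
    obtain ⟨q, -, rfl⟩ := List.mem_map.1 hy
    exact mul_self_nonneg _
  have ht : (0 : ℤ) ≤ ((p - 1) / e : ℕ) * (d0 * d0) :=
    mul_nonneg (Nat.cast_nonneg _) (mul_self_nonneg _)
  have hsub : ∀ l' : List (ℤ × ℤ), l'.Subperm L →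
      1 + (l'.map fun q => q.1 * q.1).sum ≤ (N : ℤ) := by
    rintro l' ⟨l'', h6, h7⟩
    have h8 := (h7.map fun q => q.1 * q.1).sum_le_sum (hnn L)
    rw [← (h6.map _).sum_eq]
    omega
  rw [killE, ← a7] at b2
  obtain ⟨L', h6, h7⟩ := srch_sound Prod.fst _ _ _ L [] (fun q hq => by
      obtain ⟨c1, c2, c3⟩ := a8 q hq
      refine mem_degOpts (B := B) hp.one_lt c1 c2 c3 ?_
      have c4 := hsub [q] (List.singleton_subperm_iff.2 hq)
      simp only [List.map_cons, List.map_nil, List.sum_cons, List.sum_nil, add_zero] at c4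
      rw [← Int.natAbs_mul_self'] at c4
      by_contra c5
      have := Nat.mul_self_le_mul_self (not_lt.1 c5)
      omega)
    (fun l' hl' => by
      rw [List.append_nil] at hl'
      simpa only [decide_eq_true_eq, List.map_map, Function.comp_def] using hsub l' hl') b2
  rw [List.append_nil] at h6
  have h8 : -(1 + (L'.map Prod.fst).sum) = d0 := by rw [(h6.map _).sum_eq]; omega
  simp only [h8, Bool.or_eq_true, decide_eq_true_eq, bne_iff_ne, Bool.and_eq_true, beq_iff_eq,
    List.map_map] at h7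
  rcases h7 with (((h7 | h7) | h7) | h7) | h7
  · omega
  · exact h7 (Nat.mod_eq_zero_of_dvd a10)
  · exact h7 (Int.emod_eq_zero_of_dvd a9)
  · rw [(h6.map _).sum_eq] at h7
    exact absurd a13 (not_le.2 h7)
  · exact invKill_sound hNpos hp.pos h6 h7.2 (a14 h7.1.1 (Nat.dvd_of_mod_eq_zero h7.1.2))

/-- the test for a higher prime power -/
def killQ (B N p a : ℕ) : Bool :=
  primeB B p && decide (2 ≤ a) && N % p ^ a == 0 && N / p ^ a % p != 0 &&
    (List.range (N / p ^ a / p + 1)).all fun j => j == 0 || (N / p ^ a) % (p * j + 1) != 0 ||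
      factKill N (p * j + 1) ||
      (a == 2 && Nat.gcd (N / p ^ a / (p * j + 1)) (p * p - 1) == 1) ||
      ((p * j + 1) % p ^ 2 != 1 &&
        (List.range (N / p ^ a / p + 1)).all fun i => i == 0 || (N / p ^ a) % (p * i + 1) != 0 ||
          (List.range (N / p ^ a / (p * i + 1) + 1)).all fun k =>
            (N / p ^ a / (p * i + 1)) % k != 0 || factKill N k)

theorem card_ne_of_killQ (hG : ¬ IsMulCommutative G) {B N p a : ℕ} (h : killQ B N p a = true) :
    Nat.card G ≠ N := by
  intro hN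
  simp only [killQ, Bool.and_eq_true, decide_eq_true_eq, beq_iff_eq, bne_iff_ne, List.all_eq_true,
    List.mem_range, Bool.or_eq_true] at h
  obtain ⟨⟨⟨⟨h1, h2⟩, h3⟩, h4⟩, h5⟩ := h
  have hp := prime_of_primeB h1
  have : Fact p.Prime := ⟨hp⟩
  generalize hm : N / p ^ a = m at h4 h5
  have hN' : Nat.card G = p ^ a * m := by
    rw [hN, ← hm, Nat.mul_div_cancel' (Nat.dvd_of_mod_eq_zero h3)]
  have hpm : ¬ p ∣ m := fun h6 => h4 (Nat.mod_eq_zero_of_dvd h6)
  have hm0 : 0 < m := Nat.pos_of_ne_zero fun h6 => h4 (by rw [h6, Nat.zero_mod])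
  have hpG : p ∣ Nat.card G := hN' ▸ (dvd_pow_self p (by omega)).mul_right _
  obtain ⟨P⟩ : Nonempty (Sylow p G) := inferInstance
  have hP := card_sylow_eq_pow hN' hpm P
  have a1 : Nat.card (Sylow p G) ∣ m := by
    have h6 := (P : Subgroup G).card_mul_index
    rw [hP, hN'] at h6
    rw [← Nat.eq_of_mul_eq_mul_left (pow_pos hp.pos a) h6]
    exact P.card_dvd_index
  have a2 : Nat.card (Sylow p G) % p = 1 := by
    rw [card_sylow_modEq_one p G, Nat.mod_eq_of_lt hp.one_lt]
  have a3 := card_sylow_ne_one hG hpG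
  have a4 := two_mul_card_dvd_factorial_card_sylow hG hpG
  have hn : p * (Nat.card (Sylow p G) / p) + 1 = Nat.card (Sylow p G) := by
    rw [← a2, Nat.div_add_mod]
  have b1 := h5 _ (Nat.lt_succ_of_le (Nat.div_le_div_right (Nat.le_of_dvd hm0 a1)))
  rw [hN] at a4
  rw [hn, factKill_sound a4] at b1
  rcases b1 with (((b1 | b1) | b1) | ⟨rfl, b1⟩) | ⟨b1, b2⟩
  · rw [b1] at hn; omega
  · exact b1 (Nat.mod_eq_zero_of_dvd a1)
  · exact absurd b1 (by simp)
  · obtain ⟨r, j, c1, -, c2, c3, c4, c5⟩ := exists_prime_of_abelian_sylow hG P hP two_pos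
      (IsPGroup.isMulCommutative_of_card_eq_prime_sq hP)
    apply c1.one_lt.ne'
    rw [← Nat.dvd_one, ← b1]
    refine Nat.dvd_gcd ?_ ?_
    · rw [hN', mul_comm _ (p ^ 2), mul_assoc, Nat.mul_dvd_mul_iff_left (pow_pos hp.pos 2)] at c5
      exact (Nat.dvd_div_iff_mul_dvd a1).2 c5
    · refine c4.trans ?_
      rw [← pow_two]
      interval_cases j
      · simpa using Nat.sub_one_dvd_pow_sub_one p 2
      · rfl
  · obtain ⟨n, k, c1, c2, c3, c4⟩ := sylow_inter_numeric hG hN' hpm h2 (fun h6 => b1 (by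
      rw [h6, Nat.mod_eq_of_lt (Nat.one_lt_pow two_ne_zero hp.one_lt)]))
    have hn' : p * (n / p) + 1 = n := by rw [← c1, Nat.div_add_mod]
    have c5 : n ∣ m := (dvd_mul_right _ _).trans c3
    have b3 := b2 _ (Nat.lt_succ_of_le (Nat.div_le_div_right (Nat.le_of_dvd hm0 c5)))
    rw [hn'] at b3
    rcases b3 with (b3 | b3) | b3
    · rw [b3] at hn'; omega
    · exact b3 (Nat.mod_eq_zero_of_dvd c5)
    have c6 : k ∣ m / n := (Nat.dvd_div_iff_mul_dvd c5).2 c3
    have b4 := b3 k (Nat.lt_succ_of_le (Nat.le_of_dvd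
      (Nat.div_pos (Nat.le_of_dvd hm0 c5) (by omega)) c6))
    rw [hN] at c4
    rw [factKill_sound c4] at b4
    exact b4.elim (fun b4 => b4 (Nat.mod_eq_zero_of_dvd c6)) (by simp)

/-- Burnside's `p^a q^b` test -/
def killB (B N p q : ℕ) : Bool := primeB B p && primeB B q && (p ^ 20 * q ^ 20) % N == 0

theorem card_ne_of_killB (hG : ¬ IsMulCommutative G) {B N p q : ℕ} (h : killB B N p q = true) :
    Nat.card G ≠ N := by
  rintro rfl
  simp only [killB, Bool.and_eq_true, beq_iff_eq] at h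
  exact card_ne_prime_pow_mul_prime_pow hG (prime_of_primeB h.1.1) (prime_of_primeB h.1.2) _ _
    (Nat.dvd_of_mod_eq_zero h.2)

/-- check a certificate -/
def killC (B N : ℕ) (ex : List ℕ) : ℕ × ℕ × ℕ → Bool
  | (0, p, _) => killP B N p
  | (1, p, a) => killQ B N p a
  | (2, p, q) => killB B N p q
  | _ => ex.contains N

theorem mem_of_killC (hG : ¬ IsMulCommutative G) {B : ℕ} {ex : List ℕ} {c : ℕ × ℕ × ℕ}
    (h : killC B (Nat.card G) ex c = true) : Nat.card G ∈ ex := by
  match c, h with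
  | (0, _, _), h => exact absurd rfl (card_ne_of_killP hG h)
  | (1, _, _), h => exact absurd rfl (card_ne_of_killQ hG h)
  | (2, _, _), h => exact absurd rfl (card_ne_of_killB hG h)
  | (_ + 3, _, _), h => simpa [killC] using h

/-- check a list of certificates for consecutive orders -/
def killAll (B : ℕ) (ex : List ℕ) : ℕ → List (ℕ × ℕ × ℕ) → Bool
  | _, [] => true
  | N, c :: cs => killC B N ex c && killAll B ex (N + 1) cs

theorem mem_of_killAll (hG : ¬ IsMulCommutative G) {B : ℕ} {ex : List ℕ}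
    (cs : List (ℕ × ℕ × ℕ)) : ∀ N, killAll B ex N cs = true → N ≤ Nat.card G →
      Nat.card G < N + cs.length → Nat.card G ∈ ex := by
  induction cs with
  | nil => intro N _ h1 h2; simp at h2; omega
  | cons c cs ih =>
    intro N h h1 h2
    simp only [killAll, Bool.and_eq_true] at h
    rcases h1.lt_or_eq with h3 | h3
    · exact ih (N + 1) h.2 h3 (by simp at h2; omega)
    · exact mem_of_killC hG (h3 ▸ h.1)

theorem not_comm_of_card_eq {N a b : ℕ} (hN : Nat.card G = N) (h : N = a * b) (ha : a ≠ 1)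
    (hb : b ≠ 1) : ¬ IsMulCommutative G :=
  not_comm_of_card_not_prime (by rw [hN, h]; exact Nat.not_prime_mul ha hb)

end H8
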