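import Cfsg.Agent.H8.Sieve

/-! # Certificates for the orders between 3641 and 6232 -/

namespace H8

/-- certificates -/
def sieveA0 : List (ℕ × ℕ × ℕ) := [
  (2,331,11), (0,607,0), (2,3643,3643), (2,911,2), (2,5,3), (2,1823,2), (2,521,7), (0,19,0),
  (2,89,41), (0,73,0), (2,1217,3), (0,83,0), (2,281,13), (0,29,0), (0,43,0), (2,457,2), (0,53,0),
  (0,59,0), (2,3659,3659), (0,61,0), (2,523,7), (2,1831,2), (0,37,0), (2,229,2), (2,733,5),
  (0,47,0), (2,193,19), (0,131,0), (2,1223,3), (0,367,0), (2,3671,3671), (0,17,0), (2,3673,3673),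
  (0,167,0), (1,7,2), (2,919,2), (2,3677,3677), (0,613,0), (2,283,13), (0,23,0), (2,409,3),
  (0,263,0), (2,127,29), (0,307,0), (0,67,0), (0,97,0), (2,1229,3), (2,461,2), (0,31,0), (0,41,0),
  (2,3691,3691), (0,71,0), (2,1231,3), (2,1847,2), (2,739,5), (0,11,0), (2,3697,3697), (2,43,2),
  (2,137,3), (0,37,0), (2,3701,3701), (0,617,0), (2,23,7), (2,463,2), (0,19,0), (0,109,0),
  (2,337,11), (0,103,0), (2,3709,3709), (0,53,0), (2,1237,3), (2,29,2), (2,79,47), (0,619,0),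
  (2,743,5), (2,929,2), (0,59,0), (1,13,2), (2,3719,3719), (0,31,0), (2,61,61), (2,1861,2),
  (0,73,0), (0,19,0), (2,149,5), (0,23,0), (2,3727,3727), (2,233,2), (0,113,0), (0,373,0),
  (0,41,0), (0,311,0), (2,3733,3733), (2,1867,2), (0,83,0), (2,467,2), (2,101,37), (0,89,0),
  (2,3739,3739), (0,17,0), (0,43,0), (2,1871,2), (2,197,19), (0,13,0), (0,107,0), (2,1873,2),
  (2,1249,3), (2,937,2), (2,163,23), (1,5,4), (2,31,11), (0,67,0), (2,139,3), (2,1877,2),
  (2,751,5), (0,313,0), (2,17,13), (2,1879,2), (0,179,0), (0,47,0), (2,3761,3761), (0,19,0),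
  (2,71,53), (2,941,2), (0,251,0), (0,269,0), (2,3767,3767), (0,157,0), (2,3769,3769), (0,29,0),
  (2,419,3), (0,41,0), (2,11,7), (0,37,0), (2,151,5), (2,59,2), (2,1259,3), (2,1889,2),
  (2,3779,3779), (0,7,0), (2,199,19), (0,61,0), (0,97,0), (0,43,0), (2,757,5), (0,631,0),
  (2,541,7), (2,947,2), (2,421,3), (0,379,0), (2,223,17), (0,79,0), (2,3793,3793), (0,271,0),
  (0,23,0), (0,73,0), (2,3797,3797), (0,211,0), (2,131,29), (0,19,0), (0,181,0), (2,1901,2),
  (2,3803,3803), (0,317,0), (2,761,5), (0,173,0), (2,47,3), (0,17,0), (2,293,13), (0,127,0),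
  (2,103,37), (2,953,2), (0,41,0), (2,1907,2), (0,109,0), (0,53,0), (2,347,11), (0,83,0),
  (0,67,0), (0,191,0), (2,3821,3821), (0,13,0), (2,3823,3823), (2,239,2), (0,17,0), (2,1913,2),
  (2,89,43), (0,29,0), (2,547,7), (0,383,0), (2,1277,3), (2,479,2), (2,3833,3833), (0,71,0),
  (0,59,0), (0,137,0), (2,1279,3), (0,101,0), (2,349,11), (0,5,0), (2,167,23), (0,113,0),
  (0,61,0), (2,31,2), (2,769,5), (0,641,0), (2,3847,3847), (0,37,0), (2,1283,3), (0,11,0),
  (2,3851,3851), (0,107,0), (2,3853,3853), (0,47,0), (0,257,0), (2,241,2)]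

theorem sieveA0_ok : killAll 80 [4080, 5400, 5616, 6048, 6072] 3641 sieveA0 = true := by
  decide +kernel

/-- certificates -/
def sieveA1 : List (ℕ × ℕ × ℕ) := [
  (0,29,0), (0,643,0), (2,227,17), (0,193,0), (0,13,0), (2,1931,2), (2,3863,3863), (0,23,0),
  (2,773,5), (2,1933,2), (2,1289,3), (2,967,2), (2,73,53), (0,43,0), (2,79,7), (2,11,2),
  (2,1291,3), (0,149,0), (2,31,5), (0,19,0), (2,3877,3877), (0,277,0), (2,431,3), (0,97,0),
  (2,3881,3881), (0,647,0), (2,353,11), (2,971,2), (0,37,0), (0,67,0), (2,23,13), (2,3,2),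
  (2,3889,3889), (0,389,0), (2,1297,3), (0,139,0), (2,229,17), (0,59,0), (0,41,0), (2,487,2),
  (2,433,3), (2,1949,2), (2,557,7), (0,13,0), (2,83,47), (2,1951,2), (2,1301,3), (2,61,2),
  (0,71,0), (0,31,0), (2,3907,3907), (2,977,2), (2,1303,3), (0,23,0), (2,3911,3911), (0,163,0),
  (0,43,0), (0,103,0), (0,29,0), (0,89,0), (2,3917,3917), (0,653,0), (2,3919,3919), (1,7,2),
  (2,1307,3), (0,53,0), (2,3923,3923), (0,109,0), (2,157,5), (0,151,0), (0,17,0), (2,491,2),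
  (2,3929,3929), (0,131,0), (2,3931,3931), (2,983,2), (0,23,0), (0,281,0), (2,787,5), (0,41,0),
  (2,127,31), (0,179,0), (0,101,0), (0,197,0), (2,563,7), (0,73,0), (2,3943,3943), (0,29,0),
  (0,263,0), (2,1973,2), (2,3947,3947), (0,47,0), (2,359,11), (0,79,0), (2,439,3), (0,19,0),
  (2,67,59), (0,659,0), (0,113,0), (0,43,0), (2,1319,3), (2,1979,2), (2,107,37), (0,11,0),
  (2,233,17), (0,283,0), (2,1321,3), (2,991,2), (0,61,0), (0,661,0), (2,3967,3967), (2,31,2),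
  (2,7,3), (0,397,0), (2,19,11), (0,331,0), (2,137,29), (2,1987,2), (0,53,0), (0,71,0), (2,97,41),
  (0,17,0), (2,173,23), (0,199,0), (2,1327,3), (0,181,0), (2,569,7), (0,83,0), (2,797,5),
  (2,1993,2), (2,443,3), (2,997,2), (2,3989,3989), (0,19,0), (2,307,13), (2,499,2), (2,11,3),
  (2,1997,2), (0,47,0), (0,37,0), (2,571,7), (2,1999,2), (0,43,0), (2,5,2), (2,4001,4001),
  (0,29,0), (2,4003,4003), (0,13,0), (0,89,0), (2,2003,2), (2,4007,4007), (0,167,0), (2,211,19),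
  (0,401,0), (0,191,0), (0,59,0), (2,4013,4013), (0,223,0), (0,73,0), (2,251,2), (0,103,0),
  (0,41,0), (2,4019,4019), (0,67,0), (2,4021,4021), (2,2011,2), (2,149,3), (2,503,2), (0,23,0),
  (0,61,0), (2,4027,4027), (0,53,0), (0,79,0), (0,31,0), (2,139,29), (0,7,0), (2,109,37),
  (2,2017,2), (0,269,0), (2,1009,2), (2,367,11), (0,673,0), (2,577,7), (0,101,0), (2,449,3),
  (0,47,0), (2,311,13), (0,337,0), (2,809,5), (1,17,2), (0,71,0), (0,23,0), (2,4049,4049),
  (0,2,0), (2,4051,4051), (2,1013,2), (0,193,0), (2,2027,2), (2,811,5), (1,13,2), (2,4057,4057),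
  (2,2029,2), (0,41,0), (0,29,0), (2,131,31), (0,677,0), (2,239,17), (2,127,2), (0,271,0),
  (0,107,0), (2,83,7), (0,113,0), (2,313,13), (0,37,0), (0,59,0), (2,509,2)]

theorem sieveA1_ok : killAll 80 [4080, 5400, 5616, 6048, 6072] 3857 sieveA1 = true := by
  decide +kernel

/-- certificates -/
def sieveA2 : List (ℕ × ℕ × ℕ) := [
  (2,4073,4073), (0,97,0), (2,163,5), (2,1019,2), (2,151,3), (2,2039,2), (2,4079,4079), (3,0,0),
  (0,53,0), (0,157,0), (2,1361,3), (2,1021,2), (0,43,0), (0,227,0), (2,67,61), (0,73,0), (0,47,0),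
  (0,409,0), (2,4091,4091), (0,31,0), (2,4093,4093), (0,89,0), (0,13,0), (2,2,2), (2,241,17),
  (0,683,0), (2,4099,4099), (0,41,0), (2,1367,3), (0,293,0), (2,373,11), (0,19,0), (2,821,5),
  (2,2053,2), (2,37,3), (0,79,0), (2,587,7), (0,137,0), (2,4111,4111), (2,257,2), (2,457,3),
  (0,17,0), (2,823,5), (1,7,3), (2,179,23), (0,71,0), (2,1373,3), (0,103,0), (2,317,13),
  (0,229,0), (0,31,0), (2,1031,2), (0,11,0), (2,2063,2), (2,4127,4127), (0,43,0), (2,4129,4129),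
  (0,59,0), (2,17,3), (2,1033,2), (2,4133,4133), (0,53,0), (2,827,5), (0,47,0), (0,197,0),
  (2,2069,2), (2,4139,4139), (0,23,0), (2,101,41), (0,109,0), (2,1381,3), (0,37,0), (2,829,5),
  (0,691,0), (0,29,0), (0,61,0), (2,461,3), (0,83,0), (2,593,7), (0,173,0), (2,4153,4153),
  (0,67,0), (0,277,0), (2,1039,2), (2,4157,4157), (0,11,0), (2,4159,4159), (0,13,0), (0,73,0),
  (2,2081,2), (2,181,23), (0,347,0), (0,17,0), (2,2083,2), (2,463,3), (2,521,2), (2,379,11),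
  (0,139,0), (2,97,43), (0,149,0), (0,107,0), (2,2087,2), (2,167,5), (0,29,0), (2,4177,4177),
  (2,2089,2), (0,199,0), (0,19,0), (2,113,37), (0,41,0), (2,89,47), (2,523,2), (0,31,0), (0,23,0),
  (2,79,53), (0,349,0), (2,71,59), (0,419,0), (0,127,0), (2,131,2), (2,599,7), (0,233,0),
  (2,839,5), (2,1049,2), (2,1399,3), (2,2099,2), (0,19,0), (0,7,0), (2,4201,4201), (0,191,0),
  (2,467,3), (2,1051,2), (2,29,5), (0,701,0), (2,601,7), (2,263,2), (0,61,0), (0,421,0),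
  (2,4211,4211), (0,13,0), (2,383,11), (0,43,0), (0,281,0), (0,31,0), (2,4217,4217), (0,37,0),
  (2,4219,4219), (0,211,0), (0,67,0), (2,2111,2), (2,103,41), (0,11,0), (2,13,5), (2,2113,2),
  (2,1409,3), (0,151,0), (2,4229,4229), (0,47,0), (2,4231,4231), (2,23,2), (0,83,0), (0,73,0),
  (1,11,2), (0,353,0), (2,223,19), (0,163,0), (2,157,3), (0,53,0), (2,4241,4241), (0,101,0),
  (2,4243,4243), (2,1061,2), (0,283,0), (0,193,0), (2,137,31), (0,59,0), (2,607,7), (0,17,0),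
  (0,109,0), (2,1063,2), (2,4253,4253), (0,709,0), (0,37,0), (0,19,0), (0,43,0), (2,2129,2),
  (2,4259,4259), (0,71,0), (2,4261,4261), (2,2131,2), (0,29,0), (0,41,0), (2,853,5), (0,79,0),
  (2,251,17), (0,97,0), (2,1423,3), (0,61,0), (2,4271,4271), (0,89,0), (2,4273,4273), (2,2137,2),
  (0,19,0), (2,1069,2), (0,47,0), (0,31,0), (2,389,11), (0,107,0), (2,1427,3), (2,2141,2),
  (2,4283,4283), (0,17,0), (2,857,5), (2,2143,2), (2,1429,3), (2,67,2)]

theorem sieveA2_ok : killAll 80 [4080, 5400, 5616, 6048, 6072] 4073 sieveA2 = true := by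
  decide +kernel

/-- certificates -/
def sieveA3 : List (ℕ × ℕ × ℕ) := [
  (2,4289,4289), (0,13,0), (2,613,7), (0,37,0), (2,53,3), (0,113,0), (2,859,5), (0,179,0),
  (2,4297,4297), (0,307,0), (2,1433,3), (0,43,0), (0,23,0), (0,239,0), (2,331,13), (2,269,2),
  (0,41,0), (2,2153,2), (2,73,59), (0,359,0), (2,139,31), (0,431,0), (2,479,3), (0,11,0),
  (2,227,19), (0,719,0), (2,863,5), (0,83,0), (2,1439,3), (0,127,0), (2,617,7), (0,5,0),
  (2,149,29), (2,2161,2), (0,131,0), (0,47,0), (2,173,5), (0,103,0), (2,4327,4327), (2,541,2),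
  (0,37,0), (0,433,0), (2,71,61), (1,19,2), (2,619,7), (0,197,0), (1,17,2), (2,271,2),
  (2,4337,4337), (0,241,0), (2,4339,4339), (0,31,0), (2,1447,3), (0,167,0), (2,101,43), (0,181,0),
  (0,79,0), (0,53,0), (0,23,0), (2,1087,2), (2,4349,4349), (0,29,0), (2,229,19), (2,17,2),
  (2,1451,3), (0,311,0), (0,67,0), (1,11,2), (2,4357,4357), (2,2179,2), (2,1453,3), (0,109,0),
  (2,89,7), (0,727,0), (2,4363,4363), (2,1091,2), (0,97,0), (0,59,0), (2,397,11), (0,13,0),
  (2,257,17), (0,23,0), (0,47,0), (2,1093,2), (2,4373,4373), (2,3,2), (2,7,5), (2,547,2),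
  (2,1459,3), (0,199,0), (2,151,29), (0,73,0), (2,337,13), (0,313,0), (2,487,3), (2,137,2),
  (2,877,5), (0,43,0), (2,107,41), (2,1097,2), (0,19,0), (0,439,0), (2,4391,4391), (0,61,0),
  (2,191,23), (2,13,2), (0,293,0), (0,157,0), (2,4397,4397), (0,733,0), (2,83,53), (0,11,0),
  (2,163,3), (0,71,0), (0,37,0), (0,367,0), (2,881,5), (2,2203,2), (0,113,0), (0,29,0),
  (2,4409,4409), (1,7,2), (2,401,11), (2,1103,2), (2,1471,3), (2,2207,2), (2,883,5), (0,23,0),
  (2,631,7), (2,47,2), (2,491,3), (0,17,0), (2,4421,4421), (0,67,0), (2,4423,4423), (0,79,0),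
  (0,59,0), (2,2213,2), (2,233,19), (0,41,0), (2,103,43), (0,443,0), (0,211,0), (2,277,2),
  (0,31,0), (0,739,0), (2,887,5), (2,1109,2), (0,29,0), (0,317,0), (2,193,23), (0,37,0),
  (2,4441,4441), (2,2221,2), (2,1481,3), (0,101,0), (0,127,0), (0,19,0), (2,4447,4447), (2,139,2),
  (2,1483,3), (0,89,0), (2,4451,4451), (0,53,0), (2,73,61), (0,131,0), (0,11,0), (2,557,2),
  (2,4457,4457), (0,743,0), (2,13,7), (0,223,0), (2,1487,3), (0,97,0), (2,4463,4463), (0,31,0),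
  (0,47,0), (0,29,0), (2,1489,3), (2,1117,2), (2,109,41), (0,149,0), (2,263,17), (0,43,0),
  (0,71,0), (2,2237,2), (2,179,5), (0,373,0), (2,37,11), (2,2239,2), (2,1493,3), (0,7,0),
  (2,4481,4481), (0,83,0), (2,4483,4483), (0,59,0), (0,23,0), (2,2243,2), (2,641,7), (0,17,0),
  (2,67,67), (0,449,0), (2,499,3), (2,1123,2), (2,4493,4493), (0,107,0), (0,31,0), (2,281,2),
  (2,1499,3), (0,173,0), (2,409,11), (1,5,3), (2,643,7), (2,2251,2), (0,79,0), (2,563,2)]

theorem sieveA3_ok : killAll 80 [4080, 5400, 5616, 6048, 6072] 4289 sieveA3 = true := by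
  decide +kernel

/-- certificates -/
def sieveA4 : List (ℕ × ℕ × ℕ) := [
  (0,53,0), (0,751,0), (2,4507,4507), (0,23,0), (2,167,3), (0,41,0), (2,347,13), (0,47,0),
  (2,4513,4513), (0,61,0), (0,43,0), (2,1129,2), (2,4517,4517), (0,251,0), (2,4519,4519),
  (0,113,0), (0,137,0), (0,19,0), (2,4523,4523), (0,29,0), (2,181,5), (0,73,0), (2,503,3),
  (2,283,2), (2,647,7), (0,151,0), (2,197,23), (0,103,0), (2,1511,3), (2,2267,2), (2,907,5),
  (0,7,0), (2,349,13), (2,2269,2), (0,89,0), (0,227,0), (2,239,19), (0,757,0), (0,59,0), (2,71,2),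
  (0,101,0), (2,2273,2), (2,4547,4547), (0,379,0), (2,4549,4549), (0,13,0), (0,41,0), (2,569,2),
  (2,157,29), (0,23,0), (2,911,5), (0,67,0), (0,31,0), (0,53,0), (2,97,47), (0,19,0),
  (2,4561,4561), (2,2281,2), (2,13,3), (0,163,0), (0,83,0), (0,761,0), (2,4567,4567), (2,571,2),
  (2,1523,3), (0,457,0), (2,653,7), (0,127,0), (2,269,17), (2,2287,2), (0,61,0), (0,13,0),
  (2,199,23), (0,109,0), (2,241,19), (0,229,0), (2,509,3), (0,79,0), (2,4583,4583), (0,191,0),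
  (0,131,0), (2,2293,2), (0,139,0), (0,37,0), (2,353,13), (0,17,0), (2,4591,4591), (0,41,0),
  (2,1531,3), (2,2297,2), (2,919,5), (0,383,0), (2,4597,4597), (0,19,0), (0,73,0), (0,23,0),
  (2,107,43), (0,59,0), (2,4603,4603), (2,1151,2), (0,307,0), (0,47,0), (2,271,17), (2,3,2),
  (2,419,11), (0,461,0), (0,53,0), (2,1153,2), (2,659,7), (0,769,0), (0,71,0), (2,577,2),
  (2,19,3), (2,2309,2), (2,149,31), (0,7,0), (2,4621,4621), (2,2311,2), (0,67,0), (2,17,2),
  (2,37,5), (0,257,0), (2,661,7), (0,89,0), (2,1543,3), (0,463,0), (2,421,11), (0,193,0),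
  (2,113,41), (0,331,0), (0,103,0), (0,61,0), (2,4637,4637), (0,773,0), (2,4639,4639), (0,29,0),
  (0,17,0), (0,211,0), (2,4643,4643), (0,43,0), (2,929,5), (0,101,0), (2,1549,3), (0,83,0),
  (2,4649,4649), (0,31,0), (2,4651,4651), (2,1163,2), (0,47,0), (0,179,0), (0,19,0), (0,97,0),
  (2,4657,4657), (0,137,0), (2,1553,3), (0,233,0), (2,79,59), (0,37,0), (2,4663,4663), (0,53,0),
  (0,311,0), (2,2333,2), (2,359,13), (0,389,0), (0,29,0), (0,467,0), (2,173,3), (2,73,2),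
  (2,4673,4673), (0,41,0), (0,17,0), (0,167,0), (2,1559,3), (2,2339,2), (2,4679,4679), (0,13,0),
  (2,151,31), (2,2341,2), (0,223,0), (2,1171,2), (2,937,5), (0,71,0), (2,109,43), (2,293,2),
  (2,521,3), (0,67,0), (2,4691,4691), (0,23,0), (2,19,13), (2,2347,2), (0,313,0), (2,587,2),
  (0,61,0), (0,29,0), (2,127,37), (0,47,0), (2,1567,3), (2,2351,2), (2,4703,4703), (1,7,2),
  (2,941,5), (0,181,0), (2,523,3), (0,107,0), (2,277,17), (0,157,0), (2,673,7), (0,31,0),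
  (2,1571,3), (2,2357,2), (0,41,0), (0,131,0), (2,89,53), (0,337,0), (0,13,0), (0,59,0)]

theorem sieveA4_ok : killAll 80 [4080, 5400, 5616, 6048, 6072] 4505 sieveA4 = true := by
  decide +kernel

/-- certificates -/
def sieveA5 : List (ℕ × ℕ × ℕ) := [
  (2,4721,4721), (0,787,0), (2,4723,4723), (2,1181,2), (0,7,0), (0,139,0), (2,163,29), (0,197,0),
  (2,4729,4729), (0,43,0), (0,83,0), (1,13,2), (2,4733,4733), (0,263,0), (2,947,5), (2,37,2),
  (2,1579,3), (0,103,0), (2,677,7), (0,79,0), (2,431,11), (2,2371,2), (0,31,0), (2,593,2),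
  (0,73,0), (0,113,0), (2,101,47), (2,1187,2), (2,1583,3), (0,19,0), (2,4751,4751), (0,11,0),
  (2,97,7), (2,2377,2), (0,317,0), (0,41,0), (2,71,67), (0,61,0), (2,4759,4759), (0,17,0),
  (2,23,3), (2,2381,2), (2,433,11), (0,397,0), (2,953,5), (2,2383,2), (0,227,0), (2,149,2),
  (2,251,19), (0,53,0), (2,367,13), (2,1193,2), (0,43,0), (0,31,0), (2,191,5), (0,199,0),
  (2,281,17), (2,2389,2), (2,59,3), (0,239,0), (2,683,7), (0,797,0), (2,4783,4783), (0,23,0),
  (0,29,0), (2,2393,2), (2,4787,4787), (0,19,0), (2,4789,4789), (0,479,0), (2,1597,3), (2,599,2),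
  (2,4793,4793), (0,47,0), (0,137,0), (0,109,0), (0,41,0), (2,2399,2), (2,4799,4799), (0,3,0),
  (2,4801,4801), (2,7,2), (2,1601,3), (2,1201,2), (2,31,5), (0,89,0), (0,23,0), (2,601,2),
  (0,229,0), (0,37,0), (2,283,17), (0,401,0), (2,4813,4813), (0,83,0), (0,107,0), (0,43,0),
  (2,4817,4817), (0,73,0), (2,79,61), (0,241,0), (2,1607,3), (2,2411,2), (0,53,0), (0,67,0),
  (2,193,5), (0,127,0), (2,1609,3), (0,71,0), (2,439,11), (0,23,0), (2,4831,4831), (2,151,2),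
  (2,179,3), (2,2417,2), (2,967,5), (0,31,0), (2,691,7), (0,59,0), (2,1613,3), (1,11,2),
  (2,103,47), (0,269,0), (2,167,29), (0,173,0), (0,19,0), (2,2423,2), (2,131,37), (0,101,0),
  (2,373,13), (0,97,0), (0,11,0), (2,1213,2), (2,211,23), (0,809,0), (2,971,5), (2,607,2),
  (2,1619,3), (0,347,0), (2,113,43), (1,3,5), (2,4861,4861), (0,17,0), (2,1621,3), (2,19,2),
  (0,139,0), (0,811,0), (2,157,31), (2,1217,2), (2,541,3), (0,487,0), (2,4871,4871), (0,29,0),
  (2,443,11), (2,2437,2), (0,13,0), (0,53,0), (2,4877,4877), (0,271,0), (0,41,0), (0,61,0),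
  (2,1627,3), (2,2441,2), (2,257,19), (0,37,0), (2,977,5), (0,349,0), (2,181,3), (0,47,0),
  (2,4889,4889), (0,163,0), (2,73,67), (2,1223,2), (0,233,0), (2,2447,2), (0,89,0), (0,17,0),
  (2,83,59), (0,79,0), (0,71,0), (1,5,2), (2,29,13), (0,43,0), (2,4903,4903), (2,613,2),
  (0,109,0), (0,223,0), (2,701,7), (0,409,0), (2,4909,4909), (0,491,0), (2,1637,3), (2,307,2),
  (2,17,17), (0,13,0), (2,983,5), (2,1229,2), (0,149,0), (2,2459,2), (2,4919,4919), (0,41,0),
  (0,37,0), (0,107,0), (2,547,3), (2,1231,2), (2,197,5), (0,821,0), (2,379,13), (0,11,0),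
  (0,53,0), (0,29,0), (2,4931,4931), (0,137,0), (2,4933,4933), (2,2467,2), (0,47,0), (2,617,2)]

theorem sieveA5_ok : killAll 80 [4080, 5400, 5616, 6048, 6072] 4721 sieveA5 = true := by
  decide +kernel

/-- certificates -/
def sieveA6 : List (ℕ × ℕ × ℕ) := [
  (2,4937,4937), (0,823,0), (2,449,11), (0,19,0), (2,61,3), (0,353,0), (2,4943,4943), (0,103,0),
  (0,43,0), (2,2473,2), (0,97,0), (2,1237,2), (2,101,7), (0,11,0), (2,4951,4951), (2,619,2),
  (0,127,0), (2,2477,2), (2,991,5), (0,59,0), (2,4957,4957), (0,67,0), (0,29,0), (0,31,0),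
  (2,41,11), (0,827,0), (2,709,7), (0,73,0), (0,331,0), (0,191,0), (2,4967,4967), (0,23,0),
  (2,4969,4969), (0,71,0), (2,1657,3), (0,113,0), (2,4973,4973), (0,829,0), (2,199,5), (2,311,2),
  (0,79,0), (0,131,0), (2,383,13), (0,83,0), (2,293,17), (0,53,0), (0,151,0), (0,89,0), (2,997,5),
  (0,277,0), (2,4987,4987), (0,43,0), (2,1663,3), (0,499,0), (0,31,0), (0,13,0), (2,4993,4993),
  (0,227,0), (0,37,0), (2,1249,2), (2,263,19), (0,17,0), (2,4999,4999), (2,5,2), (2,1667,3),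
  (0,61,0), (2,5003,5003), (0,139,0), (0,13,0), (2,2503,2), (2,1669,3), (2,313,2), (2,5009,5009),
  (0,167,0), (2,5011,5011), (0,179,0), (2,557,3), (0,109,0), (0,59,0), (0,19,0), (2,173,29),
  (0,193,0), (0,239,0), (0,251,0), (2,5021,5021), (0,31,0), (2,5023,5023), (2,157,2), (0,67,0),
  (0,359,0), (2,457,11), (0,419,0), (2,107,47), (0,503,0), (0,43,0), (0,37,0), (2,719,7),
  (0,839,0), (0,53,0), (2,1259,2), (0,73,0), (0,229,0), (2,5039,5039), (0,5,0), (2,71,71),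
  (2,2521,2), (2,41,3), (0,97,0), (2,1009,5), (1,29,2), (2,103,7), (2,631,2), (0,17,0), (0,101,0),
  (2,5051,5051), (0,421,0), (2,163,31), (1,19,2), (0,337,0), (2,79,2), (2,389,13), (0,281,0),
  (2,5059,5059), (0,23,0), (0,241,0), (2,2531,2), (2,83,61), (0,211,0), (2,1013,5), (0,149,0),
  (2,563,3), (0,181,0), (2,137,37), (1,13,2), (2,461,11), (2,317,2), (0,89,0), (0,59,0), (0,29,0),
  (0,47,0), (2,5077,5077), (2,2539,2), (2,1693,3), (0,127,0), (2,5081,5081), (1,11,2), (0,23,0),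
  (0,41,0), (0,113,0), (2,2543,2), (2,5087,5087), (0,53,0), (2,727,7), (0,509,0), (2,1697,3),
  (0,67,0), (2,463,11), (0,283,0), (2,1019,5), (0,13,0), (2,1699,3), (2,2549,2), (2,5099,5099),
  (0,17,0), (2,5101,5101), (2,2551,2), (2,7,3), (0,29,0), (2,1021,5), (0,37,0), (2,5107,5107),
  (2,1277,2), (0,131,0), (0,73,0), (2,269,19), (0,71,0), (2,5113,5113), (2,2557,2), (0,31,0),
  (2,1279,2), (0,43,0), (0,853,0), (2,5119,5119), (2,5,2), (2,569,3), (0,197,0), (2,109,47),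
  (0,61,0), (2,41,5), (0,233,0), (2,1709,3), (2,641,2), (2,223,23), (0,19,0), (2,733,7),
  (2,1283,2), (0,59,0), (0,151,0), (0,79,0), (0,107,0), (2,467,11), (0,367,0), (2,571,3),
  (0,257,0), (2,97,53), (0,857,0), (2,139,37), (2,643,2), (1,7,3), (0,83,0), (2,5147,5147),
  (0,13,0), (2,271,19), (0,103,0), (0,101,0), (0,23,0)]

theorem sieveA6_ok : killAll 80 [4080, 5400, 5616, 6048, 6072] 4937 sieveA6 = true := by
  decide +kernel

/-- certificates -/
def sieveA7 : List (ℕ × ℕ × ℕ) := [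
  (2,5153,5153), (0,859,0), (2,1031,5), (2,1289,2), (2,191,3), (2,2579,2), (0,67,0), (0,43,0),
  (2,397,13), (0,89,0), (2,1721,3), (2,1291,2), (2,1033,5), (0,41,0), (2,5167,5167), (0,19,0),
  (2,1723,3), (0,47,0), (2,5171,5171), (0,431,0), (2,739,7), (0,199,0), (0,23,0), (2,647,2),
  (2,167,31), (0,863,0), (2,5179,5179), (0,37,0), (0,157,0), (2,2591,2), (2,73,71), (2,3,2),
  (0,61,0), (2,2593,2), (0,19,0), (2,1297,2), (2,5189,5189), (0,173,0), (2,179,29), (0,59,0),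
  (2,577,3), (0,53,0), (2,1039,5), (0,433,0), (2,5197,5197), (0,113,0), (2,1733,3), (0,13,0),
  (2,743,7), (1,17,2), (2,43,11), (2,1301,2), (0,347,0), (0,137,0), (2,127,41), (0,31,0),
  (2,5209,5209), (0,521,0), (2,193,3), (2,1303,2), (2,401,13), (0,79,0), (0,149,0), (2,163,2),
  (0,47,0), (2,2609,2), (2,307,17), (0,29,0), (2,227,23), (0,373,0), (2,1741,3), (2,653,2),
  (0,19,0), (0,67,0), (2,5227,5227), (2,1307,2), (0,83,0), (0,523,0), (2,5231,5231), (0,109,0),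
  (2,5233,5233), (2,2617,2), (0,349,0), (0,17,0), (2,5237,5237), (0,97,0), (2,31,13), (0,131,0),
  (2,1747,3), (2,2621,2), (2,107,7), (0,23,0), (2,1049,5), (0,61,0), (0,53,0), (2,41,2),
  (2,181,29), (0,7,0), (2,89,59), (0,101,0), (0,103,0), (0,71,0), (2,1051,5), (0,73,0), (2,751,7),
  (0,239,0), (2,1753,3), (0,263,0), (2,5261,5261), (0,877,0), (2,277,19), (0,47,0), (0,13,0),
  (2,2633,2), (2,229,23), (0,439,0), (2,479,11), (0,31,0), (0,251,0), (2,659,2), (2,5273,5273),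
  (0,293,0), (2,211,5), (2,1319,2), (2,1759,3), (0,29,0), (2,5279,5279), (0,11,0), (2,5281,5281),
  (0,139,0), (2,587,3), (2,1321,2), (0,151,0), (0,881,0), (2,311,17), (2,661,2), (0,43,0),
  (1,23,2), (0,37,0), (1,7,2), (2,79,67), (2,2647,2), (0,353,0), (2,331,2), (2,5297,5297),
  (0,883,0), (2,757,7), (0,53,0), (0,31,0), (0,241,0), (2,5303,5303), (0,17,0), (2,1061,5),
  (0,379,0), (0,61,0), (2,1327,2), (2,5309,5309), (0,59,0), (2,113,47), (2,83,2), (0,23,0),
  (2,2657,2), (2,1063,5), (0,443,0), (2,409,13), (2,2659,2), (2,197,3), (0,19,0), (2,313,17),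
  (0,887,0), (2,5323,5323), (2,11,2), (0,71,0), (2,2663,2), (2,761,7), (0,37,0), (2,73,73),
  (0,41,0), (2,1777,3), (0,43,0), (2,5333,5333), (0,127,0), (0,97,0), (0,29,0), (2,593,3),
  (0,157,0), (2,281,19), (0,89,0), (2,109,7), (2,2671,2), (0,137,0), (2,167,2), (2,1069,5),
  (0,11,0), (2,5347,5347), (0,191,0), (2,1783,3), (0,107,0), (2,5351,5351), (0,223,0), (2,101,53),
  (2,2677,2), (0,17,0), (0,103,0), (2,487,11), (0,47,0), (2,233,23), (0,67,0), (2,1787,3),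
  (0,383,0), (2,173,31), (0,149,0), (0,37,0), (2,2683,2), (2,1789,3), (0,61,0)]

theorem sieveA7_ok : killAll 80 [4080, 5400, 5616, 6048, 6072] 5153 sieveA7 = true := by
  decide +kernel

/-- certificates -/
def sieveA8 : List (ℕ × ℕ × ℕ) := [
  (0,59,0), (0,179,0), (2,131,41), (0,79,0), (2,199,3), (2,2687,2), (2,43,5), (0,7,0), (2,283,19),
  (2,2689,2), (0,163,0), (0,269,0), (2,5381,5381), (0,23,0), (2,769,7), (2,673,2), (0,359,0),
  (2,2693,2), (2,5387,5387), (0,449,0), (2,317,17), (0,11,0), (2,599,3), (2,337,2), (2,5393,5393),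
  (0,31,0), (0,83,0), (0,71,0), (0,257,0), (2,2699,2), (2,5399,5399), (3,0,0), (2,491,11),
  (0,73,0), (2,1801,3), (0,193,0), (0,47,0), (0,53,0), (2,5407,5407), (2,13,2), (2,601,3),
  (0,541,0), (2,773,7), (0,41,0), (2,5413,5413), (2,2707,2), (1,19,2), (2,677,2), (2,5417,5417),
  (0,43,0), (2,5419,5419), (0,271,0), (0,139,0), (2,2711,2), (0,29,0), (0,113,0), (0,31,0),
  (2,2713,2), (2,67,3), (0,59,0), (2,89,61), (0,181,0), (2,5431,5431), (0,97,0), (2,1811,3),
  (0,19,0), (2,1087,5), (0,151,0), (2,5437,5437), (2,2719,2), (0,37,0), (0,17,0), (2,5441,5441),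
  (0,907,0), (2,5443,5443), (2,1361,2), (1,11,2), (0,389,0), (2,419,13), (0,227,0), (2,5449,5449),
  (0,109,0), (0,79,0), (0,47,0), (0,41,0), (0,101,0), (2,1091,5), (0,31,0), (0,107,0), (2,2729,2),
  (2,103,53), (0,13,0), (2,127,43), (2,2731,2), (2,607,3), (2,683,2), (2,1093,5), (0,911,0),
  (0,71,0), (2,1367,2), (2,1823,3), (0,547,0), (2,5471,5471), (0,19,0), (2,421,13), (0,23,0),
  (0,73,0), (2,37,2), (2,5477,5477), (0,83,0), (2,5479,5479), (0,137,0), (0,29,0), (2,2741,2),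
  (2,5483,5483), (0,457,0), (2,1097,5), (0,211,0), (0,59,0), (2,7,2), (2,499,11), (0,61,0),
  (2,19,17), (2,1373,2), (2,1831,3), (0,67,0), (0,157,0), (0,229,0), (2,239,23), (2,2749,2),
  (0,47,0), (0,11,0), (2,5501,5501), (0,131,0), (2,5503,5503), (2,43,2), (0,367,0), (2,2753,2),
  (2,5507,5507), (0,17,0), (2,787,7), (0,29,0), (0,167,0), (0,53,0), (2,149,37), (0,919,0),
  (2,1103,5), (0,197,0), (2,613,3), (0,89,0), (2,5519,5519), (0,23,0), (2,5521,5521), (0,251,0),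
  (0,263,0), (2,1381,2), (0,17,0), (0,307,0), (2,5527,5527), (2,691,2), (0,97,0), (0,79,0),
  (2,5531,5531), (0,461,0), (2,503,11), (2,2767,2), (0,41,0), (2,173,2), (2,113,7), (0,71,0),
  (2,191,29), (0,277,0), (2,1847,3), (0,163,0), (2,241,23), (0,11,0), (2,1109,5), (0,59,0),
  (2,43,3), (0,73,0), (2,179,31), (0,37,0), (0,61,0), (2,347,2), (2,617,3), (2,2777,2), (0,101,0),
  (0,463,0), (2,5557,5557), (0,397,0), (0,109,0), (0,139,0), (2,83,67), (0,103,0), (2,5563,5563),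
  (0,107,0), (0,53,0), (0,23,0), (2,293,19), (0,29,0), (2,5569,5569), (0,557,0), (2,619,3),
  (0,199,0), (2,5573,5573), (0,929,0), (2,223,5), (0,41,0), (1,13,2), (2,2789,2), (2,797,7),
  (0,31,0), (2,5581,5581), (2,2791,2), (2,1861,3), (2,349,2)]

theorem sieveA8_ok : killAll 80 [4080, 5400, 5616, 6048, 6072] 5369 sieveA8 = true := by
  decide +kernel

/-- certificates -/
def sieveA9 : List (ℕ × ℕ × ℕ) := [
  (2,1117,5), (0,19,0), (2,151,37), (0,127,0), (2,23,3), (0,43,0), (2,5591,5591), (0,233,0),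
  (0,47,0), (2,2797,2), (0,373,0), (2,1399,2), (2,193,29), (0,311,0), (2,509,11), (0,7,0),
  (2,1867,3), (2,2801,2), (2,431,13), (0,467,0), (0,59,0), (2,2803,2), (0,89,0), (2,701,2),
  (2,79,71), (0,17,0), (2,181,31), (0,61,0), (2,1871,3), (0,401,0), (2,1123,5), (3,0,0),
  (2,137,41), (2,53,2), (2,1873,3), (0,281,0), (0,73,0), (0,937,0), (2,5623,5623), (0,37,0),
  (2,5,3), (0,97,0), (2,331,17), (0,67,0), (2,433,13), (0,563,0), (2,1877,3), (2,11,2),
  (2,131,43), (0,313,0), (0,23,0), (2,1409,2), (2,1879,3), (2,2819,2), (2,5639,5639), (0,47,0),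
  (2,5641,5641), (0,31,0), (0,19,0), (0,83,0), (2,1129,5), (0,941,0), (2,5647,5647), (2,353,2),
  (0,269,0), (0,113,0), (2,5651,5651), (0,157,0), (2,5653,5653), (0,257,0), (0,29,0), (0,101,0),
  (2,5657,5657), (0,41,0), (2,5659,5659), (0,283,0), (0,37,0), (0,149,0), (2,809,7), (0,59,0),
  (0,103,0), (2,2833,2), (2,1889,3), (0,109,0), (2,5669,5669), (0,7,0), (2,107,53), (2,709,2),
  (0,61,0), (2,2837,2), (2,227,5), (0,43,0), (2,811,7), (0,167,0), (2,631,3), (0,71,0), (0,23,0),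
  (0,947,0), (2,5683,5683), (0,29,0), (0,379,0), (2,2843,2), (2,47,11), (0,79,0), (2,5689,5689),
  (0,569,0), (0,271,0), (2,1423,2), (2,5693,5693), (0,73,0), (0,67,0), (2,89,2), (2,211,3),
  (0,37,0), (2,139,41), (0,19,0), (2,5701,5701), (2,2851,2), (2,1901,3), (0,31,0), (0,163,0),
  (0,317,0), (2,439,13), (2,1427,2), (0,173,0), (0,571,0), (2,5711,5711), (0,17,0), (2,197,29),
  (2,2857,2), (0,127,0), (2,1429,2), (2,5717,5717), (0,953,0), (0,43,0), (0,13,0), (2,1907,3),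
  (2,2861,2), (2,97,59), (0,53,0), (2,229,5), (0,409,0), (0,83,0), (2,179,2), (2,337,17),
  (0,191,0), (2,521,11), (2,1433,2), (0,13,0), (0,61,0), (0,37,0), (0,239,0), (2,5737,5737),
  (0,151,0), (2,1913,3), (0,41,0), (2,5741,5741), (0,29,0), (2,5743,5743), (2,359,2), (0,383,0),
  (0,17,0), (2,821,7), (0,479,0), (2,5749,5749), (0,23,0), (2,71,3), (2,719,2), (2,523,11),
  (0,137,0), (2,1151,5), (2,1439,2), (0,101,0), (2,2879,2), (2,443,13), (0,5,0), (2,823,7),
  (0,67,0), (0,113,0), (0,131,0), (2,1153,5), (1,31,2), (2,79,73), (0,103,0), (2,641,3),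
  (0,577,0), (2,199,29), (0,37,0), (2,251,23), (2,2887,2), (0,11,0), (2,19,2), (2,109,53),
  (0,107,0), (2,5779,5779), (1,17,2), (0,47,0), (0,59,0), (2,5783,5783), (0,241,0), (0,89,0),
  (0,263,0), (2,643,3), (2,1447,2), (2,827,7), (0,193,0), (2,5791,5791), (2,181,2), (2,1931,3),
  (2,2897,2), (0,61,0), (0,23,0), (0,31,0), (0,223,0), (2,1933,3), (0,29,0)]

theorem sieveA9_ok : killAll 80 [4080, 5400, 5616, 6048, 6072] 5585 sieveA9 = true := by
  decide +kernel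

/-- certificates -/
def sieveA10 : List (ℕ × ℕ × ℕ) := [
  (2,5801,5801), (0,967,0), (2,829,7), (2,1451,2), (0,43,0), (2,2903,2), (2,5807,5807), (1,11,2),
  (2,157,37), (0,83,0), (0,149,0), (2,1453,2), (2,5813,5813), (0,2,0), (2,1163,5), (2,727,2),
  (0,277,0), (2,2909,2), (2,23,11), (0,97,0), (2,5821,5821), (0,71,0), (2,647,3), (0,13,0),
  (2,233,5), (0,971,0), (2,5827,5827), (0,47,0), (0,67,0), (0,53,0), (2,17,7), (2,3,2),
  (2,307,19), (2,2917,2), (0,389,0), (2,1459,2), (2,449,13), (0,139,0), (2,5839,5839), (0,73,0),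
  (0,59,0), (0,127,0), (2,5843,5843), (0,487,0), (0,167,0), (0,79,0), (2,1949,3), (0,43,0),
  (2,5849,5849), (0,13,0), (2,5851,5851), (0,19,0), (2,1951,3), (2,2927,2), (2,1171,5), (0,61,0),
  (2,5857,5857), (0,101,0), (0,31,0), (0,293,0), (2,5861,5861), (0,977,0), (0,41,0), (2,733,2),
  (0,23,0), (0,419,0), (2,5867,5867), (0,163,0), (2,5869,5869), (0,587,0), (0,103,0), (2,367,2),
  (2,839,7), (0,89,0), (2,47,5), (0,113,0), (2,653,3), (2,2939,2), (2,5879,5879), (0,5,0),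
  (2,5881,5881), (0,173,0), (0,53,0), (2,1471,2), (0,107,0), (0,109,0), (2,29,7), (2,23,2),
  (0,151,0), (0,31,0), (2,137,43), (0,491,0), (2,83,71), (0,421,0), (0,131,0), (0,67,0),
  (2,5897,5897), (0,983,0), (2,347,17), (0,59,0), (0,281,0), (0,227,0), (2,5903,5903), (0,41,0),
  (2,1181,5), (2,2953,2), (0,179,0), (0,211,0), (2,311,19), (0,197,0), (2,257,23), (2,739,2),
  (2,73,3), (2,2957,2), (1,13,2), (0,29,0), (2,97,61), (0,269,0), (2,1973,3), (0,37,0),
  (2,191,31), (0,47,0), (2,5923,5923), (2,1481,2), (0,79,0), (2,2963,2), (2,5927,5927), (0,19,0),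
  (2,11,7), (0,593,0), (2,659,3), (2,1483,2), (2,349,17), (0,43,0), (2,1187,5), (0,53,0),
  (2,1979,3), (2,2969,2), (2,5939,5939), (0,11,0), (2,457,13), (2,2971,2), (0,283,0), (2,743,2),
  (0,41,0), (0,991,0), (2,313,19), (2,1487,2), (2,661,3), (0,17,0), (2,541,11), (0,31,0),
  (2,5953,5953), (0,229,0), (0,397,0), (2,1489,2), (0,37,0), (0,331,0), (2,101,59), (0,149,0),
  (2,1987,3), (0,271,0), (2,89,67), (0,71,0), (2,1193,5), (0,157,0), (0,17,0), (2,373,2),
  (2,127,47), (0,199,0), (2,853,7), (2,1493,2), (0,181,0), (0,103,0), (2,239,5), (0,83,0),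
  (2,139,43), (0,61,0), (2,1993,3), (0,23,0), (2,5981,5981), (0,997,0), (2,193,31), (0,17,0),
  (0,19,0), (0,73,0), (2,5987,5987), (0,499,0), (2,113,53), (0,599,0), (2,1997,3), (0,107,0),
  (2,461,13), (0,37,0), (0,109,0), (2,1499,2), (2,1999,3), (2,2999,2), (2,857,7), (1,5,3),
  (2,353,17), (2,3001,2), (0,29,0), (0,79,0), (2,1201,5), (0,13,0), (2,6007,6007), (2,751,2),
  (2,2003,3), (0,601,0), (2,6011,6011), (0,167,0), (2,859,7), (0,97,0), (0,401,0), (2,47,2)]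

theorem sieveA10_ok : killAll 80 [4080, 5400, 5616, 6048, 6072] 5801 sieveA10 = true := by
  decide +kernel

/-- certificates -/
def sieveA11 : List (ℕ × ℕ × ℕ) := [
  (2,547,11), (0,59,0), (2,463,13), (0,43,0), (2,223,3), (2,3011,2), (2,317,19), (0,251,0),
  (2,241,5), (0,131,0), (0,41,0), (0,137,0), (2,6029,6029), (0,67,0), (2,163,37), (0,29,0),
  (2,2011,3), (0,431,0), (0,71,0), (0,503,0), (2,6037,6037), (2,3019,2), (0,61,0), (0,151,0),
  (2,863,7), (0,53,0), (2,6043,6043), (2,1511,2), (0,31,0), (2,3023,2), (2,6047,6047), (3,0,0),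
  (2,263,23), (1,11,2), (2,2017,3), (0,89,0), (2,6053,6053), (0,1009,0), (0,173,0), (2,757,2),
  (2,673,3), (0,233,0), (2,83,73), (0,101,0), (0,29,0), (0,433,0), (0,47,0), (2,379,2),
  (2,1213,5), (0,337,0), (2,6067,6067), (0,41,0), (1,17,2), (0,607,0), (2,467,13), (3,0,0),
  (2,6073,6073), (2,3037,2), (2,5,3), (0,31,0), (2,103,59), (0,1013,0), (2,6079,6079), (0,19,0),
  (2,2027,3), (2,3041,2), (0,79,0), (1,13,2), (2,1217,5), (0,179,0), (2,2029,3), (2,761,2),
  (2,6089,6089), (0,29,0), (2,6091,6091), (2,1523,2), (2,677,3), (0,277,0), (0,53,0), (0,127,0),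
  (0,67,0), (2,3049,2), (0,107,0), (0,61,0), (2,6101,6101), (0,113,0), (2,359,17), (0,109,0),
  (0,37,0), (0,71,0), (2,197,31), (0,509,0), (2,149,41), (0,47,0), (0,97,0), (2,191,2),
  (2,6113,6113), (0,1019,0), (2,1223,5), (0,139,0), (2,2039,3), (0,23,0), (2,211,29), (0,17,0),
  (2,6121,6121), (2,3061,2), (0,157,0), (2,1531,2), (2,7,5), (0,1021,0), (2,557,11), (2,383,2),
  (2,227,3), (0,613,0), (2,6131,6131), (0,73,0), (2,6133,6133), (2,3067,2), (0,409,0), (0,59,0),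
  (2,19,17), (0,31,0), (2,877,7), (0,307,0), (0,89,0), (0,83,0), (2,6143,6143), (2,3,2),
  (2,1229,5), (0,439,0), (2,683,3), (0,53,0), (0,43,0), (0,41,0), (2,6151,6151), (2,769,2),
  (0,293,0), (0,181,0), (2,1231,5), (0,19,0), (2,131,47), (2,3079,2), (2,2053,3), (0,11,0),
  (2,101,61), (0,79,0), (2,6163,6163), (0,67,0), (0,137,0), (2,3083,2), (2,881,7), (0,257,0),
  (2,199,31), (0,617,0), (0,17,0), (2,1543,2), (2,6173,6173), (1,7,3), (0,19,0), (2,193,2),
  (0,71,0), (2,3089,2), (2,167,37), (0,103,0), (2,883,7), (0,281,0), (2,229,3), (2,773,2),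
  (2,1237,5), (0,1031,0), (2,269,23), (0,17,0), (2,2063,3), (0,619,0), (2,151,41), (0,43,0),
  (2,563,11), (0,163,0), (0,59,0), (2,1549,2), (2,6197,6197), (0,1033,0), (2,6199,6199), (0,31,0),
  (0,53,0), (0,443,0), (2,6203,6203), (0,47,0), (0,73,0), (0,107,0), (2,2069,3), (2,97,2),
  (2,887,7), (0,23,0), (2,6211,6211), (2,1553,2), (0,109,0), (0,239,0), (0,113,0), (0,37,0),
  (2,6217,6217), (2,3109,2), (2,691,3), (0,311,0), (2,6221,6221), (0,61,0), (2,127,7), (2,389,2),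
  (0,83,0), (0,283,0), (2,479,13), (0,173,0), (2,6229,6229), (0,89,0), (0,67,0), (0,41,0)]

theorem sieveA11_ok : killAll 80 [4080, 5400, 5616, 6048, 6072] 6017 sieveA11 = true := by
  decide +kernel

theorem mem_of_card_between {G : Type*} [Group G] [Finite G] [IsSimpleGroup G]
    (hG : ¬ IsMulCommutative G) (h1 : 3640 < Nat.card G) (h2 : Nat.card G ≤ 6232) :
    Nat.card G ∈ [4080, 5400, 5616, 6048, 6072] := by
  by_cases h : Nat.card G < 3857
  · exact mem_of_killAll hG sieveA0 3641 sieveA0_ok (by omega)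
      (by rw [show sieveA0.length = 216 by decide +kernel]; exact h)
  by_cases h : Nat.card G < 4073
  · exact mem_of_killAll hG sieveA1 3857 sieveA1_ok (by omega)
      (by rw [show sieveA1.length = 216 by decide +kernel]; exact h)
  by_cases h : Nat.card G < 4289
  · exact mem_of_killAll hG sieveA2 4073 sieveA2_ok (by omega)
      (by rw [show sieveA2.length = 216 by decide +kernel]; exact h)
  by_cases h : Nat.card G < 4505
  · exact mem_of_killAll hG sieveA3 4289 sieveA3_ok (by omega)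
      (by rw [show sieveA3.length = 216 by decide +kernel]; exact h)
  by_cases h : Nat.card G < 4721
  · exact mem_of_killAll hG sieveA4 4505 sieveA4_ok (by omega)
      (by rw [show sieveA4.length = 216 by decide +kernel]; exact h)
  by_cases h : Nat.card G < 4937
  · exact mem_of_killAll hG sieveA5 4721 sieveA5_ok (by omega)
      (by rw [show sieveA5.length = 216 by decide +kernel]; exact h)
  by_cases h : Nat.card G < 5153
  · exact mem_of_killAll hG sieveA6 4937 sieveA6_ok (by omega)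
      (by rw [show sieveA6.length = 216 by decide +kernel]; exact h)
  by_cases h : Nat.card G < 5369
  · exact mem_of_killAll hG sieveA7 5153 sieveA7_ok (by omega)
      (by rw [show sieveA7.length = 216 by decide +kernel]; exact h)
  by_cases h : Nat.card G < 5585
  · exact mem_of_killAll hG sieveA8 5369 sieveA8_ok (by omega)
      (by rw [show sieveA8.length = 216 by decide +kernel]; exact h)
  by_cases h : Nat.card G < 5801
  · exact mem_of_killAll hG sieveA9 5585 sieveA9_ok (by omega)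
      (by rw [show sieveA9.length = 216 by decide +kernel]; exact h)
  by_cases h : Nat.card G < 6017
  · exact mem_of_killAll hG sieveA10 5801 sieveA10_ok (by omega)
      (by rw [show sieveA10.length = 216 by decide +kernel]; exact h)
  by_cases h : Nat.card G < 6233
  · exact mem_of_killAll hG sieveA11 6017 sieveA11_ok (by omega)
      (by rw [show sieveA11.length = 216 by decide +kernel]; exact h)
  omega

end H8
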