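import Cfsg.Agent.SF.O
import Cfsg.Agent.H5.Gold
import Cfsg.Agent.H5.SS6
import Cfsg.Agent.M4.GS

/-! Strongly closed sets of 2-elements: generalities. -/

set_option autoImplicit false
set_option linter.unusedSectionVars false

namespace H8.Sq

open Cfsg Subgroup FT H4 H5 GW
open BS (Inv Od Cm St)
open SF (LL PD mem_LL LL_le)
open scoped commutatorElement

variable {G : Type*} [Group G] [Finite G] {E : Set G}

/-- a `2`-element -/
def P2 (x : G) : Prop := ∃ k : ℕ, x ^ 2 ^ k = 1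

theorem P2.of_mem {P : Subgroup G} (hP : IsPGroup 2 P) {x : G} (hx : x ∈ P) : P2 x :=
  exists_pow_pow_of_mem hP hx

theorem P2.zp {x : G} (h : P2 x) : IsPGroup 2 (zpowers x) :=
  let ⟨_, e⟩ := h; isPGroup_zpowers_of_pow e

theorem p2_of_sq {x : G} (h : x * x = 1) : P2 x := ⟨1, by rw [pow_one, sq, h]⟩

theorem P2.conj {x : G} (h : P2 x) (g : G) : P2 (g * x * g⁻¹) :=
  let ⟨k, e⟩ := h; ⟨k, by rw [conj_pow, e]; simp⟩

theorem P2.map {X : Type*} [Group X] (f : G →* X) {x : G} (h : P2 x) : P2 (f x) :=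
  let ⟨k, e⟩ := h; ⟨k, by rw [← map_pow, e, map_one]⟩

theorem P2.eq_one {x : G} (h : P2 x) (ho : Odd (orderOf x)) : x = 1 :=
  let ⟨_, e⟩ := h; eq_one_of_pow_pow_of_coprime e (odd_iff_cop.1 ho)

theorem P2.exists_inv {x : G} (h : P2 x) (h1 : x ≠ 1) : ∃ n : ℕ, Inv (x ^ n) :=
  SF.exists_inv_pow h.zp (mem_zpowers x) h1

theorem two_pair {x y : G} (hx : P2 x) (hy : P2 y) (h : x * y = y * x) :
    IsPGroup 2 ↥(zpowers x ⊔ zpowers y) :=
  hx.zp.to_sup_of_normal_left' hy.zp (zpowers_le.2 (mzp (c1.2 h.symm)))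

theorem conj_into {P K : Subgroup G} (hP : IsSylowOf 2 P K) {x : G} (hx : x ∈ K) (h : P2 x) :
    ∃ g ∈ K, g * x * g⁻¹ ∈ P := let ⟨_, e⟩ := h; MT.conj_in hP hx e

theorem conj_le {P K Q : Subgroup G} (hP : IsSylowOf 2 P K) (hQ : IsPGroup 2 Q) (h : Q ≤ K) :
    ∃ g ∈ K, ∀ x ∈ Q, g * x * g⁻¹ ∈ P :=
  let ⟨g, hg, e⟩ := hP.exists_conj_le hQ h; ⟨g, hg, fun _ hx => e (conj_mem_conjS hx)⟩

theorem syl_conj {T : Subgroup G} (h : IsSylowOf 2 T ⊤) (g : G) : IsSylowOf 2 (conjS g T) ⊤ :=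
  h.map_conj (by rw [normalizer_eq_top]; trivial)

theorem two_conj {P : Subgroup G} (h : IsPGroup 2 P) (g : G) : IsPGroup 2 (conjS g P) := h.map _

/-- a normal set of `2`-elements meeting every `2`-subgroup in a subgroup -/
structure SCl (E : Set G) : Prop where
  one : 1 ∈ E
  conj : ∀ x ∈ E, ∀ g : G, g * x * g⁻¹ ∈ E
  two : ∀ x ∈ E, P2 x
  mul : ∀ P : Subgroup G, IsPGroup 2 P → ∀ x ∈ P, ∀ y ∈ P, x ∈ E → y ∈ E → x * y ∈ E

/-- the `2`-elements of `K` lie in `E` -/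
def Pur (E : Set G) (K : Subgroup G) : Prop := ∀ x ∈ K, P2 x → x ∈ E

namespace SCl

variable (h : SCl E)
include h

theorem conj' {x : G} (hx : x ∈ E) (g : G) : g⁻¹ * x * g ∈ E := by simpa using h.conj x hx g⁻¹

theorem conj_iff {x : G} (g : G) : g * x * g⁻¹ ∈ E ↔ x ∈ E :=
  ⟨fun e => by simpa [mul_assoc] using h.conj' e g, fun e => h.conj x e g⟩

theorem pow {x : G} (hx : x ∈ E) (n : ℕ) : x ^ n ∈ E := by
  induction n with
  | zero => simpa using h.one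
  | succ n ih =>
    rw [pow_succ]
    exact h.mul _ (h.two x hx).zp _ (pow_mem (mem_zpowers x) n) _ (mem_zpowers x) ih hx

theorem zp {x y : G} (hx : x ∈ E) (hy : y ∈ zpowers x) : y ∈ E := by
  obtain ⟨n, rfl⟩ := (mem_powers_iff_mem_zpowers.2 hy : y ∈ Submonoid.powers x)
  exact h.pow hx n

theorem inv {x : G} (hx : x ∈ E) : x⁻¹ ∈ E := h.zp hx (inv_mem (mem_zpowers x))

theorem mulc {x y : G} (hx : x ∈ E) (hy : y ∈ E) (e : x * y = y * x) : x * y ∈ E :=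
  h.mul _ (two_pair (h.two x hx) (h.two y hy) e) _ (mem_sup_left (mem_zpowers x)) _
    (mem_sup_right (mem_zpowers y)) hx hy

/-- the part of a `2`-subgroup inside `E` -/
def sub {P : Subgroup G} (hP : IsPGroup 2 P) : Subgroup G where
  carrier := {x | x ∈ P ∧ x ∈ E}
  one_mem' := ⟨one_mem _, h.one⟩
  mul_mem' := fun a b => ⟨mul_mem a.1 b.1, h.mul P hP _ a.1 _ b.1 a.2 b.2⟩
  inv_mem' := fun a => ⟨inv_mem a.1, h.inv a.2⟩

theorem mem_sub {P : Subgroup G} {hP : IsPGroup 2 P} {x : G} : x ∈ h.sub hP ↔ x ∈ P ∧ x ∈ E :=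
  Iff.rfl

theorem sub_le {P : Subgroup G} (hP : IsPGroup 2 P) : h.sub hP ≤ P := fun _ e => e.1

theorem sub_two {P : Subgroup G} (hP : IsPGroup 2 P) : IsPGroup 2 (h.sub hP) :=
  hP.to_le (h.sub_le hP)

theorem nor_sub {P : Subgroup G} (hP : IsPGroup 2 P) : Nor P ≤ Nor (h.sub hP) := fun g hg =>
  mnor fun k hk => ⟨cmem hg hk.1, h.conj k hk.2 g⟩

theorem nor_LL (H : Subgroup G) : Nor H ≤ Nor (LL E H) := fun g hg => mnor fun k hk => by
  have : LL E H ≤ (LL E H).comap (MulAut.conj g).toMonoidHom :=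
    SF.LL_le_iff.2 fun a h1 h2 => mem_LL (h.conj a h1 g) (cmem hg h2)
  exact this hk

theorem le_nor_LL (H : Subgroup G) : H ≤ Nor (LL E H) := le_normalizer.trans (h.nor_LL H)

theorem conj_LL {H : Subgroup G} {g k : G} (hk : k ∈ LL E H) :
    g * k * g⁻¹ ∈ LL E (conjS g H) := by
  have : LL E H ≤ (LL E (conjS g H)).comap (MulAut.conj g).toMonoidHom :=
    SF.LL_le_iff.2 fun a h1 h2 => mem_LL (h.conj a h1 g) (conj_mem_conjS h2)
  exact this hk

theorem syl_LL {H P : Subgroup G} (hp : Pur E (LL E H)) (hP : IsSylowOf 2 P H) :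
    IsSylowOf 2 (h.sub hP.isPGroup) (LL E H) := by
  have := hP.inf_of_le_normalizer (LL_le H) (hP.le.trans (h.le_nor_LL H))
  convert this using 1
  ext x
  exact ⟨fun e => ⟨e.1, mem_LL e.2 (hP.le e.1)⟩,
    fun e => ⟨e.1, hp x e.2 (P2.of_mem hP.isPGroup e.1)⟩⟩

theorem exists_central {T : Subgroup G} (hT : IsPGroup 2 T) {x : G} (hx : x ∈ T) (xE : x ∈ E)
    (x1 : x ≠ 1) : ∃ z ∈ T, z ∈ E ∧ Inv z ∧ T ≤ Cen1 z := by
  obtain ⟨z, hz, z1, z2, zc⟩ := H7.exists_fixed_order_p (h.sub_two hT) hT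
    (le_normalizer.trans (h.nor_sub hT)) (fun e => x1 (by
      have : x ∈ h.sub hT := ⟨hx, xE⟩
      rwa [e, mem_bot] at this))
  exact ⟨z, hz.1, hz.2, ⟨z1, by rw [← sq, z2]⟩, fun g hg => c1.2 (zc g (mem_sup_right hg))⟩

section Uniq

variable {T H : Subgroup G} (hT : IsSylowOf 2 T ⊤) (hN : Nor T ≤ H)
  (hC : ∀ s ∈ T, s ∈ E → Inv s → Cen1 s ≤ H)
include hT hN hC

theorem cen_le {d : G} (hd : d ∈ E) (hi : Inv d) (hH : d ∈ H) : Cen1 d ≤ H := by
  obtain ⟨k, hk, e⟩ := conj_into (hT.of_le (le_normalizer.trans hN) le_top) hH (p2_of_sq hi.2)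
  intro g hg
  have := hC _ e (h.conj d hd k) (hi.conj k) (x := k * g * k⁻¹)
    (by rw [← conj_c1]; exact conj_mem_conjS hg)
  exact mem_of_eq (mul_mem (mul_mem (inv_mem hk) this) hk) (by group)

theorem uniq {d g : G} (hd : d ∈ E) (hi : Inv d) (hH : d ∈ H) (e : g⁻¹ * d * g ∈ H) : g ∈ H := by
  have hs := hT.of_le (le_normalizer.trans hN) le_top
  obtain ⟨k, hk, dk⟩ := conj_into hs hH (p2_of_sq hi.2)
  obtain ⟨z, zT, zE, zi, zc⟩ := h.exists_central hT.isPGroup dk (h.conj d hd k) (hi.conj k).1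
  have i2 : Inv (g⁻¹ * d * g) := by simpa using hi.conj g⁻¹
  have h1 : (k * g)⁻¹ * z * (k * g) ∈ H := h.cen_le hT hN hC (h.conj' hd g) i2 e (by
    have := c1s.1 (zc dk)
    rw [← conj_c1, mem_conjS] at this
    have e2 := conj_mem_conjS (g := g⁻¹) this
    rw [conj_c1] at e2
    simpa [mul_assoc] using e2)
  have i3 : Inv ((k * g)⁻¹ * z * (k * g)) := by simpa using zi.conj (k * g)⁻¹
  have h2 : conjS (k * g)⁻¹ T ≤ H := le_trans (by
    have := conjS_mono (k * g)⁻¹ zc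
    rwa [conj_c1, inv_inv] at this) (h.cen_le hT hN hC (h.conj' zE _) i3 h1)
  obtain ⟨m, hm, e2⟩ := ((syl_conj hT (k * g)⁻¹).of_le h2 le_top).exists_conj hs
  have h3 : m * (k * g)⁻¹ ∈ H := hN (mem_normalizer_iff_conjS.2 (by rw [← conjS_conjS]; exact e2))
  exact mem_of_eq (mul_mem (inv_mem hk) (mul_mem (inv_mem h3) hm)) (by group)

theorem pd : PD {d | d ∈ E ∧ Inv d} (G ⧸ H) where
  inv := fun _ e => e.2
  conj := fun a e g => ⟨h.conj a e.1 g, e.2.conj g⟩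
  mul := fun a ha b hb hne hc => ⟨h.mulc ha.1 hb.1 hc, ha.2.mul hb.2 hne hc⟩
  one := fun a ha => by
    have key : ∀ g : G, a • (g : G ⧸ H) = g ↔ g⁻¹ * a * g ∈ H := fun g => by
      rw [MulAction.Quotient.smul_coe, eq_comm, QuotientGroup.eq, smul_eq_mul, mul_assoc]
    obtain ⟨k, -, e⟩ := conj_into hT (mem_top a) (p2_of_sq ha.2.2)
    have e1 : k * a * k⁻¹ ∈ H := hN (le_normalizer e)
    refine ⟨(k⁻¹ : G), (key _).2 (by simpa using e1), fun y hy => ?_⟩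
    obtain ⟨g, rfl⟩ := QuotientGroup.mk_surjective y
    have := h.uniq hT hN hC (g := k * g) (h.conj a ha.1 k) (ha.2.conj k) e1
      (mem_of_eq ((key g).1 hy) (by group))
    exact (QuotientGroup.eq.2 (by simpa using this)).symm

end Uniq

section Quot

variable {X : Type*} [Group X] [Finite X] {f : G →* X} (hf : Function.Surjective f)
include hf

theorem lift {Q : Subgroup X} (hQ : IsPGroup 2 Q) : ∃ P : Subgroup G, IsPGroup 2 P ∧
    ∀ y ∈ Q, y ∈ f '' E → ∃ x ∈ P, x ∈ E ∧ f x = y := by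
  obtain ⟨P, hP⟩ := exists_isSylowOf 2 (Q.comap f)
  have e : P.map f = Q := by
    have := hP.map f
    rw [map_comap_eq_self_of_surjective hf] at this
    exact (this.eq_of_le hQ this.le le_rfl).symm
  refine ⟨P, hP.isPGroup, fun y hy ⟨x, hx, e1⟩ => ?_⟩
  obtain ⟨k, hk, e2⟩ := conj_into hP (x := x) (by rw [mem_comap, e1]; exact hy) (h.two x hx)
  obtain ⟨p, hp, e3⟩ : f k ∈ P.map f := e ▸ hk
  refine ⟨p⁻¹ * (k * x * k⁻¹) * p, mul_mem (mul_mem (inv_mem hp) e2) hp,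
    h.conj' (h.conj x hx k) p, ?_⟩
  simp only [map_mul, map_inv, e3, e1]
  group

theorem map : SCl (f '' E) where
  one := ⟨1, h.one, map_one f⟩
  conj := by
    rintro _ ⟨x, hx, rfl⟩ g
    obtain ⟨k, rfl⟩ := hf g
    exact ⟨_, h.conj x hx k, by simp⟩
  two := by
    rintro _ ⟨x, hx, rfl⟩
    exact (h.two x hx).map f
  mul := fun Q hQ a ha b hb aE bE => by
    obtain ⟨P, hP, e⟩ := h.lift hf hQ
    obtain ⟨x, hx, xE, rfl⟩ := e a ha aE
    obtain ⟨y, hy, yE, rfl⟩ := e b hb bE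
    exact ⟨_, h.mul P hP x hx y hy xE yE, map_mul _ _ _⟩

/-- purity lifts through a pure kernel -/
theorem pur_of_map (hk : Pur E f.ker) {x : G} (hx : P2 x) (e : f x ∈ f '' E) : x ∈ E := by
  obtain ⟨P, hP, xP⟩ := exists_isSylowOf_ge hx.zp (K := (zpowers (f x)).comap f)
    (zpowers_le.2 (mem_zpowers (f x)))
  obtain ⟨y, hy, e1⟩ := e
  obtain ⟨k, hk1, e2⟩ := conj_into hP (x := y) (by rw [mem_comap, e1]; exact mem_zpowers _)
    (h.two y hy)
  have hx1 : x ∈ P := xP (mem_zpowers x)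
  have e3 : f (k * y * k⁻¹) = f x := by
    obtain ⟨n, hn⟩ := mem_zpowers_iff.1 (mem_comap.1 hk1)
    simp only [map_mul, map_inv, e1, ← hn]
    group
  have m : (k * y * k⁻¹)⁻¹ * x ∈ P := mul_mem (inv_mem e2) hx1
  have := h.mul P hP.isPGroup _ e2 _ m (h.conj y hy k)
    (hk _ (by rw [MonoidHom.mem_ker, map_mul, map_inv, e3, inv_mul_cancel])
      (P2.of_mem hP.isPGroup m))
  rwa [mul_inv_cancel_left] at this

end Quot

theorem comap (H : Subgroup G) : SCl (H.subtype ⁻¹' E) where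
  one := h.one
  conj := fun x hx g => h.conj x hx g
  two := fun x hx => let ⟨k, e⟩ := h.two x hx; ⟨k, Subtype.ext e⟩
  mul := fun P hP x hx y hy xE yE =>
    h.mul (P.map H.subtype) (hP.map _) _ (mem_map_of_mem _ hx) _ (mem_map_of_mem _ hy) xE yE

end SCl

/-- the focal subgroup theorem -/
theorem le_of_foc (hG : commutator G = ⊤) {T M : Subgroup G} (hT : IsSylowOf 2 T ⊤)
    (h : ∀ x ∈ T, ∀ u : G, u * x⁻¹ * u⁻¹ ∈ T → x * (u * x⁻¹ * u⁻¹) ∈ M) : T ≤ M := by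
  obtain ⟨S, rfl⟩ := hT.exists_sylow_top
  have := Subgroup.commutator_inf_eq_focalSubgroup S
  rw [hG, top_inf_eq] at this
  rw [this, focalSubgroup_def, closure_le]
  rintro _ ⟨h1, x, hx, u, rfl⟩
  have e : ⁅x, u⁆ = x * (u * x⁻¹ * u⁻¹) := by rw [commutatorElement_def]; group
  rw [e] at h1 ⊢
  exact h x hx u (by simpa using mul_mem (inv_mem hx) h1)

/-- elements inverted by `d * e` lie in the subgroup generated by the fixed points of `d`, `e` -/
theorem inverted_mem {X H : Subgroup G} (hX : Odd (Nat.card X)) {d e : G} (hd : Inv d)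
    (he : Inv e) (hne : d ≠ e) (hc : d * e = e * d) (dn : d ∈ Nor X) (en : e ∈ Nor X)
    (h1 : X ⊓ Cen1 d ≤ H) (h2 : X ⊓ Cen1 e ≤ H) {x : G} (hx : x ∈ X)
    (hi : d * e * x * (d * e) = x⁻¹) : x ∈ H := by
  let Y := (X ⊓ Cen1 d) ⊔ (X ⊓ Cen1 e)
  have YX : Y ≤ X := sup_le inf_le_left inf_le_left
  have hY : Odd (Nat.card Y) := odd_of_le YX hX
  have dY : d ∈ Nor Y := msup (minf dn (mc1 (c1.2 rfl))) (minf dn (mc1 (c1.2 hc)))
  have eY : e ∈ Nor Y := msup (minf en (mc1 (c1.2 hc.symm))) (minf en (mc1 (c1.2 rfl)))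
  have b1 := SF.brauer_wielandt hX hd he hne hc dn en
  have b2 := SF.brauer_wielandt hY hd he hne hc dY eY
  have e1 : Y ⊓ Cen1 d = X ⊓ Cen1 d :=
    le_antisymm (inf_le_inf_right _ YX) (le_inf le_sup_left inf_le_right)
  have e2 : Y ⊓ Cen1 e = X ⊓ Cen1 e :=
    le_antisymm (inf_le_inf_right _ YX) (le_inf le_sup_right inf_le_right)
  rw [e1, e2] at b2
  have i := (hd.mul he hne hc).2
  have a1 := SF.card_inverted hX i (mul_mem dn en)
  have a2 := SF.card_inverted hY i (mul_mem dY eY)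
  have p1 : 0 < Nat.card ↥(X ⊓ Cen1 (d * e)) := Nat.card_pos
  have p2 : 0 < Nat.card ↥(Y ⊓ Cen1 (d * e)) := Nat.card_pos
  have p3 : 0 < Nat.card ↥(X ⊓ Cen1 d ⊓ Cen1 e) ^ 2 := pow_pos Nat.card_pos 2
  have e3 : {k | k ∈ X ∧ d * e * k * (d * e) = k⁻¹}.ncard =
      {k | k ∈ Y ∧ d * e * k * (d * e) = k⁻¹}.ncard := by
    rw [a1, mul_right_comm] at b1
    rw [a2, mul_right_comm] at b2
    exact Nat.eq_of_mul_eq_mul_right p3
      ((Nat.eq_of_mul_eq_mul_right p1 b1).trans (Nat.eq_of_mul_eq_mul_right p2 b2).symm)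
  have := Set.eq_of_subset_of_ncard_le (s := {k | k ∈ Y ∧ d * e * k * (d * e) = k⁻¹})
    (t := {k | k ∈ X ∧ d * e * k * (d * e) = k⁻¹}) (fun k hk => ⟨YX hk.1, hk.2⟩) e3.le
  have hxY : x ∈ {k | k ∈ Y ∧ d * e * k * (d * e) = k⁻¹} := this ▸ ⟨hx, hi⟩
  exact sup_le h1 h2 hxY.1

/-- a cyclic Sylow `2`-subgroup gives a normal `2`-complement -/
theorem npc_cyc {P K : Subgroup G} (hP : IsSylowOf 2 P K) {r : G} (e : P = zpowers r) :
    H7.NPC 2 K := by
  by_cases h2 : 2 ∣ Nat.card K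
  · obtain ⟨S, hS⟩ := hP.exists_sylow
    refine H7.hasNormalPComplement_iff.1 (L.hasNormalPComplement_of_cyclic h2 S ?_)
    have : IsCyclic P := e ▸ inferInstance
    exact isCyclic_of_surjective (hS ▸ (equivMapOfInjective _ _ K.subtype_injective)).symm
      (MulEquiv.surjective _)
  · exact H7.npc_of_coprime ((Nat.coprime_two_right).2 (Nat.odd_iff.2 (Nat.two_dvd_ne_zero.1 h2)))

/-- the `Z*`-theorem -/
theorem zst' {M : Subgroup G} {t : G} (htM : t ∈ M) (ht : Inv t)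
    (h : ∀ g ∈ M, t * (g * t * g⁻¹) = g * t * g⁻¹ * t → g * t * g⁻¹ = t) : Cm M t ≤ Oo M := by
  have := SF.zst htM ht h
  rwa [Od, piCoreOf_compl_singleton] at this

end H8.Sq
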