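import Cfsg.Agent.H8.Sq1

/-! Strongly closed sets lifting to rank one: local analysis. -/

set_option autoImplicit false
set_option linter.unusedSectionVars false

namespace H8.Sq

open Cfsg Subgroup FT H4 H5 GW
open BS (Inv Od Cm St)
open SF (LL PD mem_LL LL_le)
open scoped commutatorElement

variable {G : Type*} [Group G] [Finite G] {E : Set G} {c : G → Subgroup G} {T : Subgroup G}
  {a : G}

/-- the central quotient of a minimal counterexample -/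
structure Min (E : Set G) (c : G → Subgroup G) : Prop extends SCl E where
  ih : ∀ H : Subgroup G, H ≠ ⊤ → Pur E (LL E H)
  p1 : ∀ N : Subgroup G, ⊤ ≤ Nor N → N ≠ ⊤ → ∀ x ∈ E, x ∈ N → x = 1
  o1 : Oo (⊤ : Subgroup G) = ⊥
  z1 : ∀ g : G, g ≠ 1 → Cen1 g ≠ ⊤
  cconj : ∀ d x g : G, x ∈ c d → g * x * g⁻¹ ∈ c (g * d * g⁻¹)
  cle : ∀ d, c d ≤ Cen1 d
  cidx : ∀ d ∈ E, ∀ x ∈ Cen1 d, ∀ y ∈ Cen1 d, x ∉ c d → y ∉ c d → x * y ∈ c d
  cpow : ∀ (x : G) (n : ℕ), x ∈ c (x ^ n)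
  canti : ∀ d ∈ E, ∀ e ∈ E, Inv d → Inv e → e ∈ c d → e = d
  cmul : ∀ d e x : G, x ∈ c d → x ∈ c e → x ∈ c (d * e)
  cyc : ∀ d ∈ E, Inv d → ∀ P : Subgroup G, IsPGroup 2 P → P ≤ c d → (∀ x ∈ P, x ∈ E) →
    ∃ r, P = zpowers r

/-- a `2`-central involution in `E` -/
structure Loc (E : Set G) (T : Subgroup G) (a : G) : Prop where
  syl : IsSylowOf 2 T ⊤
  mem : a ∈ T
  aE : a ∈ E
  inv : Inv a
  cen : T ≤ Cen1 a

theorem Loc.conj (l : Loc E T a) (h : SCl E) (g : G) : Loc E (conjS g T) (g * a * g⁻¹) :=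
  ⟨syl_conj l.syl g, conj_mem_conjS l.mem, h.conj a l.aE g, l.inv.conj g,
    conj_c1 g a ▸ conjS_mono g l.cen⟩

theorem Loc.two (l : Loc E T a) : IsPGroup 2 T := l.syl.isPGroup

theorem Loc.sylC (l : Loc E T a) : IsSylowOf 2 T (Cen1 a) := l.syl.of_le l.cen le_top

/-- the intersection of the `c d` -/
def C1 (E : Set G) (c : G → Subgroup G) (T : Subgroup G) : Subgroup G :=
  ⨅ d : {d // d ∈ T ∧ d ∈ E ∧ Inv d}, c d

theorem mem_C1 {y : G} : y ∈ C1 E c T ↔ ∀ d ∈ T, d ∈ E → Inv d → y ∈ c d :=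
  ⟨fun h d h1 h2 h3 => mem_iInf.1 h ⟨d, h1, h2, h3⟩, fun h => mem_iInf.2 fun d =>
    h d d.2.1 d.2.2.1 d.2.2.2⟩

/-- `O(C(a)) C₁` -/
abbrev N1 (E : Set G) (c : G → Subgroup G) (T : Subgroup G) (a : G) : Subgroup G :=
  Uo a ⊔ C1 E c T

theorem pow_mul_mem {N : Subgroup G} {o n : G} (ho : o ∈ N) (hn : n ∈ Nor N) (k : ℕ) :
    (o * n) ^ k * (n ^ k)⁻¹ ∈ N := by
  induction k with
  | zero => simp
  | succ k ih =>
    exact mem_of_eq (mul_mem ih (cmem (pow_mem hn k) ho)) (by rw [pow_succ, pow_succ]; group)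

theorem c1_conj {g x d : G} (h : x ∈ Cen1 d) : g * x * g⁻¹ ∈ Cen1 (g * d * g⁻¹) := by
  rw [← conj_c1]; exact conj_mem_conjS h

theorem c1_conj' {g x d : G} (h : x ∈ Cen1 d) : g⁻¹ * x * g ∈ Cen1 (g⁻¹ * d * g) := by
  simpa using c1_conj (g := g⁻¹) h

theorem inv_conj' {d : G} (h : Inv d) (g : G) : Inv (g⁻¹ * d * g) := by simpa using h.conj g⁻¹

namespace Min

variable (m : Min E c)
include m

theorem cself (d : G) : d ∈ c d := by simpa using m.cpow d 1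

theorem cnor {d g x : G} (hg : g ∈ Cen1 d) (hx : x ∈ c d) : g * x * g⁻¹ ∈ c d := by
  have := m.cconj d x g hx
  rwa [c1'.1 hg] at this

theorem cnor' {d g x : G} (hg : g ∈ Cen1 d) (hx : g * x * g⁻¹ ∈ c d) : x ∈ c d := by
  simpa [mul_assoc] using m.cnor (inv_mem hg) hx

theorem cconj' {d g x : G} (hx : g * x * g⁻¹ ∈ c (g * d * g⁻¹)) : x ∈ c d := by
  simpa [mul_assoc] using m.cconj _ _ g⁻¹ hx

theorem nor_c (d : G) : Cen1 d ≤ Nor (c d) := fun _ hg => mnor fun _ hk => m.cnor hg hk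

theorem csq {d x : G} (hd : d ∈ E) (hx : x ∈ Cen1 d) : x * x ∈ c d := by
  by_cases h : x ∈ c d
  · exact mul_mem h h
  · exact m.cidx d hd x hx x hx h h

theorem codd {d x : G} (hd : d ∈ E) (hx : x ∈ Cen1 d) (ho : Odd (orderOf x)) : x ∈ c d :=
  GW.mem_of_sq_mem ho (m.csq hd hx)

theorem two_c {d e x : G} (hd : d ∈ E) (he : e ∈ E) (di : Inv d) (ei : Inv e) (hne : e ≠ d)
    (hx : x ∈ E) (h1 : x ∈ c d) (h2 : x ∈ c e) : x = 1 := by
  by_contra x1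
  obtain ⟨n, hn⟩ := (m.two x hx).exists_inv x1
  exact hne ((m.canti e he _ (m.pow hx n) ei hn (pow_mem h2 n)).symm.trans
    (m.canti d hd _ (m.pow hx n) di hn (pow_mem h1 n)))

theorem split {d e x : G} (hd : d ∈ E) (he : e ∈ E) (di : Inv d) (ei : Inv e) (hne : e ≠ d)
    (hc : e ∈ Cen1 d) (h1 : x ∈ Cen1 d) (h2 : x ∈ Cen1 e) :
    ∃ v, (v = 1 ∨ v = d ∨ v = e ∨ v = d * e) ∧ v * x ∈ c d ∧ v * x ∈ c e := by
  have n1 : e ∉ c d := fun h => hne (m.canti d hd e he di ei h)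
  have n2 : d ∉ c e := fun h => hne (m.canti e he d hd ei di h).symm
  have hc' := c1s.1 hc
  by_cases a1 : x ∈ c d <;> by_cases a2 : x ∈ c e
  · exact ⟨1, by simp, by simpa, by simpa⟩
  · exact ⟨d, by simp, mul_mem (m.cself d) a1, m.cidx e he d hc' x h2 n2 a2⟩
  · exact ⟨e, by simp, m.cidx d hd e hc x h1 n1 a1, mul_mem (m.cself e) a2⟩
  · refine ⟨d * e, by simp, ?_, ?_⟩
    · rw [mul_assoc]; exact mul_mem (m.cself d) (m.cidx d hd e hc x h1 n1 a1)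
    · rw [c1.1 hc', mul_assoc]; exact mul_mem (m.cself e) (m.cidx e he d hc' x h2 n2 a2)

theorem nor_ne {X : Subgroup G} (h0 : X ≠ ⊥) (ho : Odd (Nat.card X)) : Nor X ≠ ⊤ := fun e =>
  h0 (le_bot_iff.1 (m.o1 ▸ le_Oo le_top e.ge ho))

theorem not_isolated {u : G} (hu : Inv u) {P : Subgroup G} (hP : IsSylowOf 2 P (Cen1 u)) :
    ∃ b ∈ P, b ≠ u ∧ IsConj u b := by
  by_contra! h
  have := zst' (mem_top u) hu fun g _ e => by
    obtain ⟨k, hk, e1⟩ := conj_into hP (c1.2 e.symm) (p2_of_sq (hu.conj g).2)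
    by_contra hne
    refine h _ e1 (fun e2 => hne ?_) ((MT.isConj_mk g u).trans (MT.isConj_mk k _))
    calc g * u * g⁻¹ = k⁻¹ * (k * (g * u * g⁻¹) * k⁻¹) * k := by group
      _ = u := by rw [e2]; simpa using c1'.1 (inv_mem hk)
  rw [m.o1, le_bot_iff, BS.Cm_eq_bot_iff] at this
  exact m.z1 u hu.1 (top_le_iff.1 this)

variable (l : Loc E T a)
include l

theorem out {x : G} (hx : x ∈ T) (xE : x ∈ E) (h : x ∉ c a) : Inv x := by
  refine ⟨fun e => h (e ▸ one_mem _), ?_⟩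
  by_contra h2
  have e2 : x * x ∈ E := by simpa [sq] using m.pow xE 2
  obtain ⟨n, hn⟩ := (m.two _ e2).exists_inv h2
  have := m.canti a l.aE _ (m.pow e2 n) l.inv hn (pow_mem (m.csq l.aE (l.cen hx)) n)
  exact h (by have h3 := m.cpow x (2 * n); rwa [pow_mul, sq, this] at h3)

theorem not_c {x : G} (xE : x ∈ E) (hi : Inv x) (h : x ≠ a) : x ∉ c a :=
  fun e => h (m.canti a l.aE x xE l.inv hi e)

theorem exists_b : ∃ b ∈ T, b ∈ E ∧ Inv b ∧ b ≠ a ∧ IsConj a b := by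
  obtain ⟨b, hb, hne, e⟩ := m.not_isolated l.inv l.sylC
  obtain ⟨g, rfl⟩ := isConj_iff.1 e
  exact ⟨_, hb, m.conj a l.aE g, l.inv.conj g, hne, e⟩

theorem perfect : commutator G = ⊤ := by
  by_contra h
  obtain ⟨b, hb, bE, bi, hne, e⟩ := m.exists_b l
  obtain ⟨g, rfl⟩ := isConj_iff.1 e
  have := m.p1 _ le_normalizer_of_normal h _ (m.mul T l.two _ l.mem _ hb l.aE bE)
    (mem_of_eq (commutator_mem_commutator (mem_top a) (mem_top g))
      (by rw [commutatorElement_def, l.inv.inv]; group))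
  exact hne ((eq_inv_of_mul_eq_one_right this).trans l.inv.inv)

theorem gen : ∃ r, ∀ x, x ∈ zpowers r ↔ x ∈ T ∧ x ∈ E ∧ x ∈ c a := by
  obtain ⟨r, e⟩ := m.cyc a l.aE l.inv (m.sub l.two ⊓ c a) ((m.sub_two _).to_inf_left)
    inf_le_right fun x hx => hx.1.2
  exact ⟨r, fun x => by rw [← e, ← and_assoc]; rfl⟩

theorem mulT {x y : G} (hx : x ∈ T) (hy : y ∈ T) (xE : x ∈ E) (yE : y ∈ E) : x * y ∈ E :=
  m.mul T l.two x hx y hy xE yE

theorem inverts {x y : G} (hx : x ∈ T) (xE : x ∈ E) (h : x ∉ c a) (hy : y ∈ T) (yE : y ∈ E)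
    (h' : y ∈ c a) : x * y = y⁻¹ * x := by
  have e1 := (m.out l hx xE h).2
  have e2 := (m.out l (mul_mem hx hy) (m.mulT l hx hy xE yE)
    fun e => h (by simpa using mul_mem e (inv_mem h'))).2
  calc x * y = (x * y)⁻¹ := (inv_eq_of_mul_eq_one_right e2).symm
    _ = _ := by rw [mul_inv_rev, inv_eq_of_mul_eq_one_right e1]

theorem one_class_aux {b r : G} (hr : ∀ x, x ∈ zpowers r ↔ x ∈ T ∧ x ∈ E ∧ x ∈ c a)
    (hb : b ∈ T) (bE : b ∈ E) (bc : b ∉ c a) :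
    (∀ x ∈ T, x ∈ E → x ∉ c a → ∃ k : ℤ, x = b * r ^ k) ∧
      ∀ j k : ℤ, r ^ (-j) * (b * r ^ k) * (r ^ (-j))⁻¹ = b * r ^ (k + 2 * j) := by
  refine ⟨fun x hx xE xc => ?_, fun j k => ?_⟩
  · obtain ⟨k, hk⟩ := (hr _).2 ⟨mul_mem hb hx, m.mulT l hb hx bE xE,
      m.cidx a l.aE b (l.cen hb) x (l.cen hx) bc xc⟩
    exact ⟨k, by simp only [hk, ← mul_assoc, (m.out l hb bE bc).2, one_mul]⟩
  · obtain ⟨h1, h2, h3⟩ := (hr _).1 (zpow_mem (mem_zpowers r) j)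
    have := m.inverts l hb bE bc h1 h2 h3
    calc _ = ((r ^ j)⁻¹ * b) * (r ^ k * r ^ j) := by group
      _ = _ := by rw [← this]; group

theorem one_class {d : G} (hd : d ∈ T) (dE : d ∈ E) (di : Inv d) : IsConj a d := by
  obtain ⟨r, hr⟩ := m.gen l
  obtain ⟨b, hb, bE, bi, hne, ab⟩ := m.exists_b l
  have bc := m.not_c l bE bi hne
  obtain ⟨nf, cj⟩ := m.one_class_aux l hr hb bE bc
  obtain ⟨rT, rE, rc⟩ := (hr r).1 (mem_zpowers r)
  have ev : ∀ j : ℤ, IsConj a (b * r ^ (2 * j)) := fun j => by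
    have := cj j 0
    rw [zpow_zero, mul_one, zero_add] at this
    exact this ▸ ab.trans (MT.isConj_mk _ _)
  have od : ∀ j : ℤ, IsConj (b * r) (b * r ^ (2 * j + 1)) := fun j => by
    have := cj j 1
    rw [zpow_one, add_comm] at this
    exact this ▸ MT.isConj_mk _ _
  suffices hs : IsConj a (b * r) by
    by_cases h : d ∈ c a
    · rw [m.canti a l.aE d dE l.inv di h]
    obtain ⟨k, rfl⟩ := nf d hd dE h
    obtain ⟨j, rfl | rfl⟩ := Int.even_or_odd' k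
    exacts [ev j, hs.trans (od j)]
  by_contra hn
  have b'T : b * r ∈ T := mul_mem hb rT
  have b'E : b * r ∈ E := m.mulT l hb rT bE rE
  have b'c : b * r ∉ c a := fun e => bc (by simpa using mul_mem e (inv_mem rc))
  have b'i := m.out l b'T b'E b'c
  have b'a : b * r ≠ a := fun e => hn (e ▸ IsConj.refl _)
  let Q := zpowers (r * r)
  have mQ : ∀ j : ℤ, r ^ (2 * j) ∈ Q := fun j => ⟨j, by simp only [← sq]; group⟩
  let R' := Q ⊔ zpowers b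
  have nR : T ≤ Nor R' := fun t ht => mnor fun k hk => by
    refine (sup_le (zpowers_le.2 ?_) (zpowers_le.2 ?_) :
      R' ≤ R'.comap (MulAut.conj t).toMonoidHom) hk
    · obtain ⟨j, hj⟩ := (hr (t * r * t⁻¹)).2 ⟨SF.cmem ht rT, m.conj r rE t, m.cnor (l.cen ht) rc⟩
      refine mem_sup_left (mem_of_eq (mQ j) ?_)
      simp only at hj
      simp only [MulEquiv.toMonoidHom_eq_coe, MonoidHom.coe_coe, map_mul, MulAut.conj_apply, ← hj]
      group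
    · obtain ⟨k, e⟩ := nf _ (SF.cmem ht hb) (m.conj b bE t) fun e => bc (m.cnor' (l.cen ht) e)
      obtain ⟨j, rfl | rfl⟩ := Int.even_or_odd' k
      · exact (mem_of_eq (mul_mem (mem_sup_right (mem_zpowers b)) (mem_sup_left (mQ j))) e.symm :
          t * b * t⁻¹ ∈ R')
      · exact absurd ((ab.trans (e ▸ MT.isConj_mk t b)).trans (od j).symm) hn
  have RT : R' ≤ m.sub l.two := sup_le (zpowers_le.2 ⟨mul_mem rT rT, m.mulT l rT rT rE rE⟩)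
    (zpowers_le.2 ⟨hb, bE⟩)
  let Y := T ⊓ (c a ⊓ c (b * r))
  have MT' : R' ⊔ Y ≤ T := sup_le (RT.trans (m.sub_le _)) inf_le_left
  have hcl : ∀ s ∈ R' ⊔ Y, ¬ MT.Cj ⊤ (b * r) s := fun s hs e => by
    obtain ⟨ρ, hρ, y, hy, rfl⟩ := (mem_sup_left_iff (inf_le_left.trans nR)).1 hs
    have e' := e.isConj
    obtain ⟨g, -, e1⟩ := e
    have sE : ρ * y ∈ E := e1 ▸ m.conj _ b'E g
    have si : Inv (ρ * y) := e1 ▸ b'i.conj g
    have y1 : y = 1 := m.two_c l.aE b'E l.inv b'i b'a (by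
      simpa using m.mulT l (inv_mem (RT hρ).1) (MT' hs) (m.inv (RT hρ).2) sE) hy.2.1 hy.2.2
    rw [y1, mul_one] at e' si
    have nb : b ∈ Nor Q := mnor fun k hk => by
      obtain ⟨h1, h2, h3⟩ := (hr k).1 ((zpowers_le.2 (mul_mem (mem_zpowers r) (mem_zpowers r)) :
        Q ≤ _) hk)
      rw [m.inverts l hb bE bc h1 h2 h3]; simpa using hk
    rcases (SF.mem_sup_zp nb (bi.2 ▸ one_mem _)).1 hρ with h1 | ⟨j, h1⟩
    · have := m.canti a l.aE ρ (RT hρ).2 l.inv si ((zpowers_le.2 (mul_mem rc rc) : Q ≤ _) h1)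
      exact hn (this ▸ e'.symm)
    · refine hn ((ev (-j)).trans (IsConj.trans ?_ e'.symm))
      have e2 : ρ = r ^ (2 * j) * b := by
        rw [zpow_mul, zpow_two]; simp only at h1; rw [h1, mul_assoc, bi.2, mul_one]
      obtain ⟨h1, h2, h3⟩ := (hr _).1 (zpow_mem (mem_zpowers r) (2 * -j))
      rw [e2, m.inverts l hb bE bc h1 h2 h3, mul_neg, zpow_neg, inv_inv]
  have eT : T = (R' ⊔ Y) ⊔ zpowers (b * r) := by
    refine le_antisymm (fun t ht => ?_) (sup_le MT' (zpowers_le.2 b'T))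
    have mb : b ∈ (R' ⊔ Y) ⊔ zpowers (b * r) :=
      mem_sup_left (mem_sup_left (mem_sup_right (mem_zpowers b)))
    have mr : r ∈ (R' ⊔ Y) ⊔ zpowers (b * r) := by
      simpa using mul_mem (inv_mem mb) (mem_sup_right (mem_zpowers (b * r)))
    have mR : ∀ x ∈ T, x ∈ E → x ∈ (R' ⊔ Y) ⊔ zpowers (b * r) := fun x hx xE => by
      by_cases h : x ∈ c a
      · exact zpowers_le.2 mr ((hr x).2 ⟨hx, xE, h⟩)
      · obtain ⟨k, rfl⟩ := nf x hx xE h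
        exact mul_mem mb (zpow_mem mr k)
    obtain ⟨k, e⟩ := nf _ (SF.cmem ht b'T) (m.conj _ b'E t) fun e => b'c (m.cnor' (l.cen ht) e)
    obtain ⟨j, rfl | rfl⟩ := Int.even_or_odd' k
    · exact absurd ((ev j).trans (e ▸ MT.isConj_mk t _ : IsConj (b * r) _).symm) hn
    have sT : r ^ j * t ∈ T := mul_mem (zpow_mem rT j) ht
    have sc : r ^ j * t ∈ Cen1 (b * r) := c1'.2 (by
      have := cj j 1
      rw [zpow_one, add_comm, ← e] at this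
      calc _ = r ^ j * (t * (b * r) * t⁻¹) * (r ^ j)⁻¹ := by group
        _ = _ := by rw [← this]; group)
    obtain ⟨v, hv, h1, h2⟩ := m.split l.aE b'E l.inv b'i b'a (l.cen b'T) (l.cen sT) sc
    have vT : v ∈ T ∧ v ∈ E := by
      rcases hv with rfl | rfl | rfl | rfl
      exacts [⟨one_mem _, m.one⟩, ⟨l.mem, l.aE⟩, ⟨b'T, b'E⟩,
        ⟨mul_mem l.mem b'T, m.mulT l l.mem b'T l.aE b'E⟩]
    exact mem_of_eq (mul_mem (inv_mem (zpow_mem mr j)) (mul_mem (inv_mem (mR v vT.1 vT.2))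
      (mem_sup_left (mem_sup_right (⟨mul_mem vT.1 sT, h1, h2⟩ : _ ∈ Y))))) (by group)
  have hc : Nat.card T = 2 * Nat.card ↥(R' ⊔ Y) := by
    conv_lhs => rw [eT]
    exact SF.card_sup_zp (msup (nR b'T) (mcnor (cen_iff_le.2
      (inf_le_right.trans (inf_le_right.trans (m.cle _)))))) (b'i.2 ▸ one_mem _)
      fun e => hcl _ e (MT.Cj.refl _ _)
  obtain ⟨φ, hφ⟩ := MT.tt' l.syl MT' hc
  have k1 : ∀ x ∈ E, x ≠ 1 → x ∉ MT.kr φ := fun x hx x1 e => x1 (m.p1 _ (MT.kr_nor φ)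
    (fun e => hφ _ (mem_top _) b'i.2 hcl (by rw [e]; trivial)) x hx e)
  exact k1 _ (m.mulT l l.mem hb l.aE bE) (l.inv.mul bi hne.symm (c1.1 (l.cen hb)).symm).1
    (MT.mul_mem_kr (mem_top _) (mem_top _) (k1 a l.aE l.inv.1) (k1 b bE bi.1))

theorem loc_of {d : G} (dE : d ∈ E) (di : Inv d) {P : Subgroup G} (hP : IsPGroup 2 P)
    (h : P ≤ Cen1 d) : ∃ g, g * a * g⁻¹ = d ∧ P ≤ conjS g T := by
  obtain ⟨k, -, hk⟩ := conj_into l.syl (mem_top d) (p2_of_sq di.2)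
  obtain ⟨g, e⟩ := isConj_iff.1 ((m.one_class l hk (m.conj d dE k) (di.conj k)).trans
    (MT.isConj_mk k d).symm)
  have l2 := l.conj m.toSCl g
  rw [e] at l2
  obtain ⟨u, hu, e2⟩ := conj_le l2.sylC hP h
  refine ⟨u⁻¹ * g, ?_, fun x hx => ?_⟩
  · calc _ = u⁻¹ * (g * a * g⁻¹) * u⁻¹⁻¹ := by group
      _ = d := by rw [e, c1'.1 (inv_mem hu)]
  · rw [mem_conjS]
    exact mem_of_eq (mem_conjS.1 (e2 x hx)) (by group)

theorem sylK : IsSylowOf 2 (m.sub l.two) (LL E (Cen1 a)) :=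
  m.syl_LL (m.ih _ (m.z1 a l.inv.1)) l.sylC

theorem odd_K {x : G} (hx : x ∈ LL E (Cen1 a)) (ho : Odd (orderOf x)) : x ∈ Uo a := by
  obtain ⟨r, hr⟩ := m.gen l
  have hn : LL E (Cen1 a) ≤ Nor (LL E (Cen1 a) ⊓ c a) :=
    ninf le_normalizer ((LL_le _).trans (m.nor_c a))
  have h1 := (m.sylK l).inf_of_le_normalizer inf_le_left ((m.sylK l).le.trans hn)
  have h2 := (npc_cyc h1 (r := r) (by
    ext y
    rw [hr]
    exact ⟨fun e => ⟨e.1.1, e.1.2, e.2.2⟩, fun e => ⟨⟨e.1, e.2.1⟩, mem_LL e.2.1 (l.cen e.1),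
      e.2.2⟩⟩)).of_normal inf_le_left hn fun y hy =>
      ⟨1, by rw [pow_one, sq]; exact ⟨mul_mem hy hy, m.csq l.aE (LL_le _ hy)⟩⟩
  exact (SN.of_normal (LL_le _) (m.le_nor_LL _)).pPrimeCoreIn_le
    (h2.mem_of_coprime hx (odd_iff_cop.1 ho))

theorem K_le : LL E (Cen1 a) ≤ Uo a ⊔ m.sub l.two :=
  M4.le_of_odd (m.sylK l) le_sup_right fun _ hy ho => mem_sup_left (m.odd_K l hy ho)

theorem frat {g : G} (hg : g ∈ Cen1 a) :
    ∃ k ∈ LL E (Cen1 a), k⁻¹ * g ∈ Nor (m.sub l.two) := (m.sylK l).frattini (m.le_nor_LL _ hg)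

theorem dec {g : G} (hg : g ∈ Cen1 a) :
    ∃ o ∈ Uo a, ∃ n ∈ Cen1 a, n ∈ Nor (m.sub l.two) ∧ g = o * n := by
  obtain ⟨k, hk, e⟩ := m.frat l hg
  obtain ⟨o, ho, ρ, hρ, rfl⟩ := (mem_sup_left_iff
    ((m.sub_le _).trans (l.cen.trans (nUo a)))).1 (m.K_le l hk)
  exact ⟨o, ho, o⁻¹ * g, mul_mem (inv_mem (Uo_le a ho)) hg,
    mem_of_eq (mul_mem (le_normalizer hρ) e) (by group), by group⟩

theorem nor_C1 : Nor (m.sub l.two) ≤ Nor (C1 E c T) := fun g hg => mnor fun k hk =>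
  mem_C1.2 fun d hd dE di => by
    have h1 : g⁻¹ * d * g ∈ m.sub l.two := cmem' hg ⟨hd, dE⟩
    simpa [mul_assoc] using m.cconj _ k g (mem_C1.1 hk _ h1.1 h1.2 (inv_conj' di g))

theorem C1_le : C1 E c T ≤ c a := fun _ h => mem_C1.1 h a l.mem l.aE l.inv

theorem N1_le : N1 E c T a ≤ Cen1 a := sup_le (Uo_le a) ((m.C1_le l).trans (m.cle a))

theorem mem_N1 {x : G} : x ∈ N1 E c T a ↔ ∃ o ∈ Uo a, ∃ y ∈ C1 E c T, o * y = x :=
  mem_sup_left_iff (((m.C1_le l).trans (m.cle a)).trans (nUo a))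

theorem C1_cen : C1 E c T ≤ Cen (m.sub l.two) := fun y hy => cen.2 fun x hx => by
  obtain ⟨b, hb, bE, bi, hne, -⟩ := m.exists_b l
  have bc := m.not_c l bE bi hne
  have k : ∀ x ∈ T, x ∈ E → x ∉ c a → x ∈ Cen1 y := fun x hx xE h =>
    c1s.1 (m.cle _ (mem_C1.1 hy x hx xE (m.out l hx xE h)))
  refine (c1.1 ?_).symm
  by_cases h : x ∈ c a
  · simpa using mul_mem (inv_mem (k b hb bE bc)) (k _ (mul_mem hb hx.1) (m.mulT l hb hx.1 bE hx.2)
      fun e => bc (by simpa using mul_mem e (inv_mem h)))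
  · exact k x hx.1 hx.2 h

theorem odd_nor {y : G} (hy : y ∈ Cen1 a) (hn : y ∈ Nor (m.sub l.two)) (ho : Odd (orderOf y)) :
    y ∈ C1 E c T := mem_C1.2 fun d hd dE di => by
  obtain ⟨r, hr⟩ := m.gen l
  obtain ⟨rT, rE, rc⟩ := (hr r).1 (mem_zpowers r)
  obtain ⟨k, hk⟩ := m.two r rE
  have h1 : y * r * y⁻¹ ∈ m.sub l.two := cmem hn ⟨rT, rE⟩
  have h2 := H2.fix_of_mem_zpowers (φ := MulAut.conj y) (m := orderOf y)
    (by rw [← map_pow, pow_orderOf_eq_one, map_one]) ho k r hk ((hr _).2 ⟨h1.1, h1.2, m.cnor hy rc⟩)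
  refine m.codd dE ?_ ho
  by_cases h : d ∈ c a
  · rwa [m.canti a l.aE d dE l.inv di h]
  have h3 : y * d * y⁻¹ ∈ m.sub l.two := cmem hn ⟨hd, dE⟩
  have wE := m.mulT l hd h3.1 dE h3.2
  have h4 := (hr _).2 ⟨mul_mem hd h3.1, wE, m.cidx a l.aE d (l.cen hd) _ (l.cen h3.1) h
    fun e => h (m.cnor' hy e)⟩
  obtain ⟨j, hj⟩ := m.two _ wE
  have h5 := fix_of_odd (y := d) ho hj (c1.1 (c1s.1 ((zpowers_le.2 (c1s.1 (c1'.2 h2)) :
    zpowers r ≤ _) h4))) (by rw [← mul_assoc, di.2, one_mul])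
  exact c1'.2 ((eq_inv_of_mul_eq_one_right h5).trans di.inv)

theorem nor_N1 : Cen1 a ≤ Nor (N1 E c T a) := fun g hg => by
  obtain ⟨o, ho, n, h1, h2, rfl⟩ := m.dec l hg
  exact mul_mem (le_normalizer (mem_sup_left ho)) (msup (nUo a h1) (m.nor_C1 l h2))

theorem odd_N1 {g : G} (hg : g ∈ Cen1 a) (ho : Odd (orderOf g)) : g ∈ N1 E c T a := by
  obtain ⟨o, ho', n, h1, h2, rfl⟩ := m.dec l hg
  obtain ⟨k, hk⟩ := H7.exists_pow_coprime Nat.prime_two n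
  have := mul_mem (mem_sup_left (pow_mul_mem ho' (nUo a h1) (2 ^ k)) : _ ∈ N1 E c T a)
    (mem_sup_right (m.odd_nor l (pow_mem h1 _) (pow_mem h2 _) (odd_iff_cop.2 hk)))
  rw [inv_mul_cancel_right] at this
  exact mem_of_pow_mem_of_coprime this ((odd_iff_cop.1 ho).pow_right k)

theorem N1c {x d : G} (hx : x ∈ N1 E c T a) (dE : d ∈ E) (di : Inv d) (hd : d ∈ Cen1 a)
    (h : x ∈ Cen1 d) : x ∈ c d := by
  obtain ⟨k, hk, e⟩ := conj_into l.sylC hd (p2_of_sq di.2)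
  obtain ⟨o, ho, y, hy, e1⟩ := (m.mem_N1 l).1 (cmem (m.nor_N1 l hk) hx)
  have h1 := mem_C1.1 hy _ e (m.conj d dE k) (di.conj k)
  refine m.cconj' (g := k) (e1 ▸ mul_mem (m.codd (m.conj d dE k) ?_ (odd_ord (odd_Oo _) ho)) h1)
  exact mem_of_eq (mul_mem (c1_conj h) (inv_mem (m.cle _ h1))) (by rw [← e1]; group)

theorem N1T {x : G} (hx : x ∈ N1 E c T a) (xT : x ∈ T) : x ∈ C1 E c T :=
  mem_C1.2 fun d hd dE di => m.N1c l hx dE di (l.cen hd) (by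
    obtain ⟨o, ho, y, hy, rfl⟩ := (m.mem_N1 l).1 hx
    have h1 := c1'.1 (m.cle _ (mem_C1.1 hy d hd dE di))
    have e : o * y * d * (o * y)⁻¹ * d⁻¹ = o * (d * o⁻¹ * d⁻¹) := by
      conv_rhs => rw [← h1]
      rw [h1]
      calc _ = o * (y * d * y⁻¹) * o⁻¹ * d⁻¹ := by group
        _ = _ := by rw [h1]; group
    have := (P2.of_mem l.two (mul_mem (SF.cmem xT hd) (inv_mem hd))).eq_one
      (e ▸ odd_ord (odd_Oo _) (mul_mem ho (cmem (nUo a (l.cen hd)) (inv_mem ho))))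
    exact c1'.2 (mul_inv_eq_one.1 this))

theorem EN1 {x : G} (xE : x ∈ E) (hx : x ∈ N1 E c T a) : x = 1 := by
  obtain ⟨k, hk, e⟩ := conj_into l.sylC (m.N1_le l hx) (m.two x xE)
  obtain ⟨b, hb, bE, bi, hne, -⟩ := m.exists_b l
  have h1 := m.N1T l (cmem (m.nor_N1 l hk) hx) e
  simpa using m.two_c l.aE bE l.inv bi hne (m.conj x xE k) (m.C1_le l h1) (mem_C1.1 h1 b hb bE bi)

end Min

end H8.Sq
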