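import Cfsg.Agent.H8.Sq2

/-! Strongly closed sets lifting to rank one: the second strongly closed subgroup. -/

set_option autoImplicit false
set_option linter.unusedSectionVars false

namespace H8.Sq

open Cfsg Subgroup FT H4 H5 GW
open BS (Inv Od Cm St)
open SF (LL PD mem_LL LL_le)
open scoped commutatorElement

variable {G : Type*} [Group G] [Finite G] {E : Set G} {c : G → Subgroup G} {T : Subgroup G}
  {a : G}

theorem f4 {d e : G} (di : Inv d) (ei : Inv e) (hne : e ≠ d) (hc : e ∈ Cen1 d) : F4 d e :=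
  ⟨di.orderOf, ei.orderOf, (c1.1 hc).symm, hne⟩

/-- the elements `y` of `H` with `[w, y] ∈ N` -/
def cm (H N : Subgroup G) (hn : H ≤ Nor N) (w : G) : Subgroup G where
  carrier := {y | y ∈ H ∧ w * y * w⁻¹ * y⁻¹ ∈ N}
  one_mem' := ⟨one_mem _, by simp⟩
  mul_mem' := fun {x y} hx hy => ⟨mul_mem hx.1 hy.1,
    mem_of_eq (mul_mem hx.2 (cmem (hn hx.1) hy.2)) (by group)⟩
  inv_mem' := fun {x} hx => ⟨inv_mem hx.1,
    mem_of_eq (cmem' (hn hx.1) (inv_mem hx.2)) (by group)⟩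

/-- membership in `N` does not depend on the choice of the central involution -/
def Eqv (a : G) (N : Subgroup G) : Prop := ∀ g x : G, g * a * g⁻¹ ∈ Cen1 a → x ∈ Cen1 a →
  x ∈ Cen1 (g * a * g⁻¹) → g⁻¹ * x * g ∈ N → x ∈ N

theorem Loc.closed (l : Loc E T a) {N : Subgroup G} (h : Eqv a N) {x g : G} (hx : x ∈ T)
    (xN : x ∈ N) (e : g * x * g⁻¹ ∈ T) : g * x * g⁻¹ ∈ N := by
  obtain ⟨P, hP, hTP⟩ := exists_isSylowOf_ge (K := Cen1 (g * x * g⁻¹))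
    (l.two.to_inf_left (K := Cen1 (g * x * g⁻¹))) inf_le_right
  obtain ⟨k, -, hk⟩ := conj_le l.syl hP.isPGroup le_top
  have x'P : g * x * g⁻¹ ∈ P := hTP ⟨e, c1.2 rfl⟩
  have aP : a ∈ P := hTP ⟨l.mem, c1s.1 (l.cen e)⟩
  have pc : ∀ y ∈ P, y ∈ Cen1 (k⁻¹ * a * k) := fun y hy => by
    simpa [mul_assoc] using c1_conj' (g := k) (l.cen (hk y hy))
  obtain ⟨u, hu, e1⟩ := conj_into hP (c1_conj (g := g) (c1s.1 (l.cen hx))) (p2_of_sq (l.inv.conj g).2)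
  have e2 := c1'.1 hu
  have h1 := h (k * u * g) (k * (g * x * g⁻¹) * k⁻¹)
    (mem_of_eq (l.cen (hk _ e1)) (by group)) (l.cen (hk _ x'P))
    (by
      have := c1_conj (g := k) (c1s.1 (hP.le e1))
      rwa [show k * (u * (g * a * g⁻¹) * u⁻¹) * k⁻¹ = k * u * g * a * (k * u * g)⁻¹ by group] at this)
    (mem_of_eq xN (by
      calc x = g⁻¹ * (u⁻¹ * (u * (g * x * g⁻¹) * u⁻¹) * u) * g := by group
        _ = _ := by
          rw [e2]; conv_lhs => rw [← e2]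
          calc _ = g⁻¹ * (u⁻¹ * (u * (g * x * g⁻¹) * u⁻¹) * u) * g := by group
            _ = _ := by rw [e2]; group))
  exact h k⁻¹ _ (by simpa using c1s.1 (pc a aP)) (l.cen e) (by simpa using pc _ x'P)
    (by simpa using h1)

namespace Min

variable (m : Min E c) (l : Loc E T a)
include m l

theorem key {d : G} (hd : d ∈ T) (dE : d ∈ E) (di : Inv d) (hne : d ≠ a) :
    ∃ w, w * d * w⁻¹ = a ∧ (w ∈ Nor (m.sub l.two) ∨ w ∈ LL E (Cen1 (a * d))) ∧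
      ∀ y ∈ c a, y ∈ c d → w * y * w⁻¹ * y⁻¹ ∈ N1 E c T a := by
  obtain ⟨r, hr⟩ := m.gen l
  obtain ⟨rT, rE, rc⟩ := (hr r).1 (mem_zpowers r)
  have F := f4 l.inv di hne (l.cen hd)
  have dc := m.not_c l dE di hne
  have adE := m.mulT l l.mem hd l.aE dE
  have adi : Inv (a * d) := l.inv.mul di hne.symm F.c
  by_cases h2 : r * r = 1
  · have h0 : ∀ x ∈ T, x ∈ E → x ∈ c a → x = 1 ∨ x = a := fun x hx xE xc => by
      by_cases x1 : x = 1
      · exact Or.inl x1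
      obtain ⟨k, hk⟩ := (hr x).2 ⟨hx, xE, xc⟩
      refine Or.inr (m.canti a l.aE x xE l.inv ⟨x1, ?_⟩ xc)
      simp only at hk
      rw [← hk, ← (Commute.refl r).mul_zpow, h2, one_zpow]
    have h1 : ∀ x ∈ T, x ∈ E → x ∈ V4 a d := fun x hx xE => by
      by_cases xc : x ∈ c a
      · rcases h0 x hx xE xc with rfl | rfl
        exacts [one_mem _, t_V _ _]
      · rcases h0 _ (mul_mem hd hx) (m.mulT l hd hx dE xE)
          (m.cidx a l.aE d (l.cen hd) x (l.cen hx) dc xc) with e | e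
        · exact mem_of_eq (inv_mem (a_V a d)) (eq_inv_of_mul_eq_one_right e).symm
        · exact mem_of_eq (mul_mem (inv_mem (a_V a d)) (t_V a d)) (by rw [← e]; group)
    obtain ⟨g, e, hg⟩ := m.loc_of l dE di F.two_V (V_le F.tH (c1.2 rfl))
    have gn : g⁻¹ ∈ Nor (m.sub l.two) := mnor fun k hk =>
      ⟨by simpa using mem_conjS.1 (hg (h1 k hk.1 hk.2)), m.conj k hk.2 _⟩
    refine ⟨g⁻¹, by rw [← e]; group, Or.inl gn, fun y h3 h4 => ?_⟩
    have : y ∈ C1 E c T := mem_C1.2 fun x hx xE xi => by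
      rcases F.mem_V.1 (h1 x hx xE) with rfl | rfl | rfl | rfl
      exacts [absurd rfl xi.1, h3, h4, m.cmul _ _ _ h3 h4]
    exact mem_sup_right (mul_mem (cmem (m.nor_C1 l gn) this) (inv_mem this))
  · obtain ⟨g, e, hg⟩ := m.loc_of l adE adi F.two_V (V_le F.mul.tH F.mul'.tH)
    have rr : r * r ∈ E := m.mulT l rT rT rE rE
    obtain ⟨n, hn⟩ := (m.two _ rr).exists_inv h2
    have e1 : r ^ n * r ^ n = a := by
      rw [← (Commute.refl r).mul_pow]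
      exact m.canti a l.aE _ (m.pow rr n) l.inv hn (pow_mem (mul_mem rc rc) n)
    have sw : ∀ x ∈ V4 a d, x ∈ E → Inv x → x ≠ a * d →
        g * r ^ n * g⁻¹ * x * (g * r ^ n * g⁻¹)⁻¹ = a * d * x := fun x hx xE xi hx2 => by
      have := m.inverts l (mem_conjS.1 (hg hx)) (m.conj' xE g) (m.not_c l (m.conj' xE g)
        (inv_conj' xi g) fun e2 => hx2 (by rw [← e, ← e2]; group)) (inv_mem (pow_mem rT n))
        (m.inv (m.pow rE n)) (inv_mem (pow_mem rc n))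
      calc _ = g * (r ^ n * (g⁻¹ * x * g * (r ^ n)⁻¹)) * g⁻¹ := by group
        _ = g * (r ^ n * r ^ n) * g⁻¹ * x := by rw [this]; group
        _ = _ := by rw [e1, e]
    have s1 := sw d (a_V _ _) dE di F.mul'.ne.symm
    have s2 := sw a (t_V _ _) l.aE l.inv F.mul.ne.symm
    rw [mul_assoc a, di.2, mul_one] at s1
    rw [F.c, mul_assoc d, l.inv.2, mul_one] at s2
    have wE : g * r ^ n * g⁻¹ ∈ E := m.conj _ (m.pow rE n) g
    refine ⟨_, s1, Or.inr (mem_LL wE (e ▸ c1_conj (l.cen (pow_mem rT n)))), ?_⟩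
    generalize g * r ^ n * g⁻¹ = w at s1 s2 wE
    have wn : w ∈ Nor (c a ⊓ c d) := mnor fun k hk =>
      ⟨s1 ▸ m.cconj _ _ w hk.2, s2 ▸ m.cconj _ _ w hk.1⟩
    obtain ⟨P, hP, wP⟩ := exists_isSylowOf_ge (m.two w wE).zp
      (K := (c a ⊓ c d) ⊔ zpowers w) le_sup_right
    have wP' : w ∈ P := wP (mem_zpowers w)
    have hP' := hP.inf_of_le_normalizer le_sup_left
      (hP.le.trans (sup_le le_normalizer (zpowers_le.2 wn)))
    intro y h3 h4
    refine (M4.le_of_odd hP' (M := cm (Cen1 a) _ (m.nor_N1 l) w) (fun p hp => ⟨m.cle a hp.2.1, ?_⟩)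
      (fun p hp ho => ⟨m.cle a hp.1, ?_⟩) (⟨h3, h4⟩ : y ∈ c a ⊓ c d)).2
    · have h5 : w * p * w⁻¹ * p⁻¹ ∈ c a ⊓ c d := mul_mem (cmem wn hp.2) (inv_mem hp.2)
      rw [m.two_c l.aE dE l.inv di hne (x := w * p * w⁻¹ * p⁻¹) (by
        simpa only [mul_assoc] using m.mul P hP.isPGroup _ wP' _ (SF.cmem hp.1 (inv_mem wP')) wE
          (m.conj _ (m.inv wE) p)) h5.1 h5.2]
      exact one_mem _
    · exact mul_mem (m.odd_N1 l (m.cle a (cmem wn hp).1) (by rwa [oconj]))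
        (inv_mem (m.odd_N1 l (m.cle a hp.1) ho))

theorem core {N : Subgroup G} (h1 : N1 E c T a ≤ N) (hn : Cen1 a ≤ Nor N) {g y : G}
    (hd : g * a * g⁻¹ ∈ T) (hne : g * a * g⁻¹ ≠ a) (h3 : y ∈ c a) (h4 : y ∈ c (g * a * g⁻¹))
    (h : g⁻¹ * y * g ∈ N) : y ∈ N := by
  obtain ⟨w, e, -, hw⟩ := m.key l hd (m.conj a l.aE g) (l.inv.conj g) hne
  have := cmem (hn (c1'.2 (Eq.trans (by group) e) : w * g ∈ Cen1 a)) h
  exact mem_of_eq (mul_mem (inv_mem (h1 (hw y h3 h4))) this) (by group)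

omit m in
theorem eqv_of {N : Subgroup G} (hn : Cen1 a ≤ Nor N) (h : ∀ g x : G, g * a * g⁻¹ ∈ T →
    g * a * g⁻¹ ≠ a → x ∈ Cen1 a → x ∈ Cen1 (g * a * g⁻¹) → g⁻¹ * x * g ∈ N → x ∈ N) :
    Eqv a N := fun g x h1 h2 h3 h4 => by
  by_cases e : g * a * g⁻¹ = a
  · exact mem_of_eq (cmem (hn (c1'.2 e)) h4) (by group)
  obtain ⟨k, hk, e1⟩ := conj_into l.sylC h1 (p2_of_sq (l.inv.conj g).2)
  have e2 : k * (g * a * g⁻¹) * k⁻¹ = k * g * a * (k * g)⁻¹ := by group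
  have := h (k * g) (k * x * k⁻¹) (e2 ▸ e1) (fun e3 => e (by
      calc _ = k⁻¹ * (k * g * a * (k * g)⁻¹) * k := by group
        _ = a := by rw [e3]; simpa using c1'.1 (inv_mem hk)))
    (SF.cmem hk h2) (e2 ▸ c1_conj h3) (mem_of_eq h4 (by group))
  exact mem_of_eq (cmem' (hn hk) this) (by group)

theorem eqv_N1 : Eqv a (N1 E c T a) := eqv_of l (m.nor_N1 l) fun g x hd hne h1 h2 h => by
  have k : ∀ d ∈ E, Inv d → d ∈ Cen1 (g * a * g⁻¹) → x ∈ Cen1 d → x ∈ c d := fun d dE di h3 h4 => by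
    have := m.cconj _ _ g (m.N1c l h (m.conj' dE g) (inv_conj' di g)
      (by simpa [mul_assoc] using c1_conj' (g := g) h3) (c1_conj' h4))
    simpa [mul_assoc] using this
  exact m.core l le_rfl (m.nor_N1 l) hd hne (k a l.aE l.inv (c1s.1 (l.cen hd)) h1)
    (k _ (m.conj a l.aE g) (l.inv.conj g) (c1.2 rfl) h2) h

theorem eqv_big {N : Subgroup G} (h1 : N1 E c T a ≤ N) (hn : Cen1 a ≤ Nor N)
    (hE : ∀ v ∈ E, v ∈ Cen1 a → v ∈ N) : Eqv a N := eqv_of l hn fun g x hd hne h2 h3 h => by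
  have dE := m.conj a l.aE g
  obtain ⟨v, hv, h4, h5⟩ := m.split l.aE dE l.inv (l.inv.conj g) hne (l.cen hd) h2 h3
  have hv' : v ∈ E ∧ v ∈ Cen1 a ∧ v ∈ Cen1 (g * a * g⁻¹) := by
    have := c1s.1 (l.cen hd)
    rcases hv with rfl | rfl | rfl | rfl
    exacts [⟨m.one, one_mem _, one_mem _⟩, ⟨l.aE, c1.2 rfl, this⟩, ⟨dE, l.cen hd, c1.2 rfl⟩,
      ⟨m.mulT l l.mem hd l.aE dE, l.cen (mul_mem l.mem hd), mul_mem this (c1.2 rfl)⟩]
  have h6 := hE _ (m.conj' hv'.1 g) (by simpa [mul_assoc] using c1_conj' (g := g) hv'.2.2)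
  have := m.core l h1 hn hd hne h4 h5 (mem_of_eq (mul_mem h6 h) (by group))
  simpa using mul_mem (inv_mem (hE v hv'.1 hv'.2.1)) this

theorem all_of_bot (h0 : T ⊓ C1 E c T = ⊥) : T ≤ m.sub l.two := by
  by_contra hlt
  obtain ⟨M, h1, h2, h3, h4, -, -⟩ := H7.exists_maximal_of_lt l.two
    (lt_of_le_of_ne (m.sub_le l.two) fun e => hlt e.ge)
  have nN := m.nor_N1 l
  have hn : Cen1 a ≤ Nor (N1 E c T a ⊔ M) := by
    refine le_trans (M4.le_of_odd l.sylC (M := N1 E c T a ⊔ T) le_sup_right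
      fun y hy ho => mem_sup_left (m.odd_N1 l hy ho)) (sup_le (lnor le_sup_left) ?_)
    exact nsup (l.cen.trans nN) h3
  have e : ∀ x ∈ T, x ∈ N1 E c T a ⊔ M → x ∈ M := fun x hx h => by
    obtain ⟨n, hn, y, hy, rfl⟩ := (mem_sup_left_iff (h2.le.trans (l.cen.trans nN))).1 h
    have nT : n ∈ T := by simpa using mul_mem hx (inv_mem (h2.le hy))
    have : n ∈ T ⊓ C1 E c T := ⟨nT, m.N1T l hn nT⟩
    rw [h0, mem_bot] at this
    simpa [this] using hy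
  have q := m.eqv_big l le_sup_left hn fun v vE hv => by
    obtain ⟨k, hk, e1⟩ := conj_into l.sylC hv (m.two v vE)
    exact mem_of_eq (cmem' (hn hk) (mem_sup_right (h1 ⟨e1, m.conj v vE k⟩))) (by group)
  have cl : ∀ x ∈ M, ∀ g : G, g * x * g⁻¹ ∈ T → g * x * g⁻¹ ∈ M := fun x hx g h =>
    e _ h (l.closed q (h2.le hx) (mem_sup_right hx) h)
  have i2 : (M.subgroupOf T).index = 2 := by
    have := H7.card_mul_relIndex h2.le
    rw [h4] at this
    exact Nat.eq_of_mul_eq_mul_left Nat.card_pos this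
  refine h2.not_ge (le_of_foc (m.perfect l) l.syl fun x hx u hu => ?_)
  refine ((mul_mem_iff_of_index_two i2 (a := ⟨x, hx⟩) (b := ⟨_, hu⟩)).2 ⟨fun h => ?_, fun h => ?_⟩)
  · exact cl _ (inv_mem h) u hu
  · have h' : u * x⁻¹ * u⁻¹ ∈ M := h
    exact (mem_of_eq (cl _ (inv_mem h') u⁻¹ (mem_of_eq hx (by group))) (by group) : x ∈ M)

theorem exists_B (h0 : T ⊓ C1 E c T ≠ ⊥) : ∃ u v, F4 u v ∧ V4 u v ≤ Cen (m.sub l.two) ∧
    (∀ b ∈ V4 u v, b ∈ E → b = 1) ∧ ∀ b ∈ V4 u v, ∀ g : G,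
      b * (g * b * g⁻¹) = g * b * g⁻¹ * b → b * (g * b * g⁻¹) ∈ E → b * (g * b * g⁻¹) = 1 := by
  obtain ⟨u, hu, u1, u2, uc⟩ := H7.exists_fixed_order_p (l.two.to_inf_left) l.two
    (ninf le_normalizer ((le_normalizer.trans (m.nor_sub _)).trans (m.nor_C1 l))) h0
  have ui : Inv u := ⟨u1, by rw [← sq, u2]⟩
  have hT : T ≤ Cen1 u := fun g hg => c1.2 (uc g (mem_sup_right hg))
  obtain ⟨v, hv, hne, e⟩ := m.not_isolated ui (l.syl.of_le hT le_top)
  obtain ⟨g, rfl⟩ := isConj_iff.1 e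
  have q := m.eqv_N1 l
  have h1 : V4 u (g * u * g⁻¹) ≤ T ⊓ N1 E c T a := V_le ⟨hu.1, mem_sup_right hu.2⟩
    ⟨hv, l.closed q hu.1 (mem_sup_right hu.2) hv⟩
  have F := f4 ui (ui.conj g) hne (hT hv)
  refine ⟨u, _, F, fun x hx => m.C1_cen l (m.N1T l (h1 hx).2 (h1 hx).1),
    fun b hb bE => m.EN1 l bE (h1 hb).2, fun b hb k hc h => ?_⟩
  have b2 := P2.of_mem F.two_V hb
  obtain ⟨s, -, hs⟩ := conj_le l.syl (two_pair b2 (b2.conj k) hc) le_top
  have e1 := hs _ (mem_sup_left (mem_zpowers b))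
  have e2 := hs _ (mem_sup_right (mem_zpowers _))
  have e3 : s * (k * b * k⁻¹) * s⁻¹ = s * k * b * (s * k)⁻¹ := by group
  have := m.EN1 l (m.conj _ h s) (mem_of_eq (mul_mem (l.closed q (h1 hb).1 (h1 hb).2 e1)
    (l.closed q (h1 hb).1 (h1 hb).2 (e3 ▸ e2))) (by group))
  simpa using this

end Min

end H8.Sq
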