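import Cfsg.Agent.H8.Sq3
import Cfsg.Agent.GW.L4

/-! Strongly closed sets lifting to rank one: the signalizer functor. -/

set_option autoImplicit false
set_option linter.unusedSectionVars false

namespace H8.Sq

open Cfsg Subgroup FT H4 H5 GW
open BS (Inv Od Cm St)
open SF (LL PD mem_LL LL_le)
open H5.Gold (CS gf)
open H5.SS (commutator_le_left' commutator_le_right')
open scoped commutatorElement

variable {G : Type*} [Group G] [Finite G] {E : Set G} {c : G → Subgroup G} {T B : Subgroup G}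
  {a : G}

/-- a four-group whose involutions are isolated relative to `E` -/
structure BB (E : Set G) (B : Subgroup G) : Prop where
  el : IsElementaryAbelian 2 B
  card : Nat.card B = 4
  dis : ∀ b ∈ B, b ∈ E → b = 1
  iso : ∀ b ∈ B, ∀ g : G,
    b * (g * b * g⁻¹) = g * b * g⁻¹ * b → b * (g * b * g⁻¹) ∈ E → b * (g * b * g⁻¹) = 1

theorem BB.sq (h : BB E B) {b : G} (hb : b ∈ B) : b * b = 1 := by rw [← pow_two, h.el.2 b hb]

theorem BB.two (h : BB E B) : IsPGroup 2 B := isPGroup_of_elem h.el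

theorem BB.cop (h : BB E B) {K : Subgroup G} (hK : Odd (Nat.card K)) :
    (Nat.card B).Coprime (Nat.card K) := by
  rw [h.card]
  exact (odd_iff_cop.1 hK).symm.pow_left 2

theorem BB.solv (h : BB E B) (K : Subgroup G) : Group.IsSolvable B ∨ Group.IsSolvable K :=
  Or.inl (isSolvable_of_isPGroup h.two)

theorem el_V {d e : G} (F : F4 d e) : IsElementaryAbelian 2 (V4 d e) := by
  rw [F.V_eq]; exact elem_four _ _ _

theorem inv_of {d : G} (h : orderOf d = 2) : Inv d := ⟨ine h, ii h⟩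

/-- the first half of the functor -/
abbrev Gd (d e : G) : Subgroup G := ⁅Uo e, zpowers d⁆ ⊔ (Uo e ⊓ Uo d)

/-- the part of the closure seen from `d` -/
noncomputable def W0 (B : Subgroup G) (d : G) : Subgroup G :=
  ⨆ b : B, Gd d (d * b) ⊓ gf B (d * b)

theorem nor_W0 (B : Subgroup G) (d : G) : Cen1 d ⊓ Cen B ≤ Nor (W0 B d) :=
  le_normalizer_iSup fun b => by
    have h1 : Cen1 d ⊓ Cen B ≤ Nor (Uo (d * b)) := fun y hy => nUo _
      (c1s.1 (mul_mem (c1s.1 hy.1) (cen_iff_le.1 hy.2 b.2)))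
    exact ninf (nsup (ncom h1 (nzp inf_le_left)) (ninf h1 (inf_le_left.trans (nUo d))))
      (nsup (ncom h1 (cnor inf_le_right)) (ninf h1 (inf_le_right.trans (lOo _))))

theorem comm_le_W0 (hB : BB E B) {d : G} (h : B ≤ Cen1 d) : ⁅Uo d, B⁆ ≤ ⁅W0 B d, B⁆ := by
  rw [← commutator_commutator_eq (h.trans (nUo d)) (hB.cop (odd_Oo _)) (hB.solv _)]
  refine commutator_mono (le_trans ?_ (le_iSup (fun b : B => Gd d (d * b) ⊓ gf B (d * b)) 1)) le_rfl
  rw [OneMemClass.coe_one, mul_one]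
  exact le_inf ((commutator_le_left' (h.trans (nUo d))).trans (le_sup_of_le_right (by simp)))
    le_sup_left

namespace Min

variable (m : Min E c) (hB : BB E B)
include m

section
include hB

theorem comm_K {e : G} (e1 : e ≠ 1) (h : B ≤ Cen1 e) : ⁅LL E (Cen1 e), B⁆ ≤ Uo e := by
  refine commutator_le.2 fun k hk b hb => ?_
  by_cases b1 : b = 1
  · simp [b1]
  have bi : Inv b := ⟨b1, hB.sq hb⟩
  have bn : b ∈ Nor (LL E (Cen1 e)) := m.le_nor_LL _ (h hb)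
  have := zst' (M := LL E (Cen1 e) ⊔ zpowers b) (mem_sup_right (mem_zpowers b)) bi fun g hg hc => by
    obtain ⟨k, hk, y, hy, rfl⟩ := (mem_sup_left_iff (zpowers_le.2 bn)).1 hg
    have e2 : k * y * b * (k * y)⁻¹ = k * b * k⁻¹ := by
      rcases bi.mem_zpowers hy with rfl | rfl <;> group
    rw [e2] at hc ⊢
    have := hB.iso b hb k hc (m.ih _ (m.z1 e e1) _ (mem_of_eq (mul_mem (cmem bn hk) (inv_mem hk))
      (by rw [bi.inv]; group)) (p2_of_sq (by
        calc _ = b * (k * b * k⁻¹ * b) * (k * b * k⁻¹) := by group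
          _ = b * b * (k * (b * b) * k⁻¹) := by rw [← hc]; group
          _ = 1 := by simp [bi.2])))
    exact (eq_inv_of_mul_eq_one_right this).trans bi.inv
  refine (SN.of_normal (LL_le _) (m.le_nor_LL _)).pPrimeCoreIn_le
    (pPrimeCoreIn_inf_le (H := LL E (Cen1 e) ⊔ zpowers b) le_sup_left ⟨this
      (commutator_mem_commutator (mem_sup_left hk) (mem_zpowers b)), ?_⟩)
  exact mem_of_eq (mul_mem hk (cmem bn (inv_mem hk))) (by rw [commutatorElement_def]; group)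

theorem cs {d e : G} (F : F4 d e) (dE : d ∈ E) (eE : e ∈ E) (h : V4 d e ≤ Cen B) :
    CS (V4 d e) B where
  e1 := el_V F
  e2 := hB.el
  c1 := F.card_V
  c2 := hB.card
  disj := eq_bot_iff.2 fun x hx => hB.dis x hx.2 (by
    rcases F.mem_V.1 hx.1 with rfl | rfl | rfl | rfl
    exacts [m.one, dE, eE, m.mulc dE eE F.c])
  cen := h
  sep := fun x hx x1 L hL => by
    have h1 := le_centralizer_singleton_of_comm (H6.EA.sup (el_V F) hB.el h).1 hx
    rcases hL.le_or_commutator_le (SN.of_normal (LL_le _) (m.le_nor_LL (Cen1 x))) with h2 | h2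
    · exact Or.inr ((commutator_mono h2 le_rfl).trans (m.comm_K hB x1 (le_sup_right.trans h1)))
    · exact Or.inl ((commutator_mono le_rfl (V_le (mem_LL dE (h1 (mem_sup_left (t_V d e))))
        (mem_LL eE (h1 (mem_sup_left (a_V d e)))))).trans h2)

end

variable (l : Loc E T a)
include l

theorem loc' {d : G} (dE : d ∈ E) (di : Inv d) {P : Subgroup G} (hP : IsPGroup 2 P)
    (h : P ≤ Cen1 d) : ∃ T', Loc E T' d ∧ P ≤ T' := by
  obtain ⟨g, rfl, e⟩ := m.loc_of l dE di hP h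
  exact ⟨_, l.conj m.toSCl g, e⟩

theorem core_V {d e : G} (F : F4 d e) (dE : d ∈ E) (eE : e ∈ E) : Oo (Cen (V4 d e)) ≤ Uo d := by
  obtain ⟨T', l', hV⟩ := m.loc' l dE (inv_of F.ht) F.two_V (V_le (c1.2 rfl) F.aH)
  have h0 : Cen (V4 d e) ≤ Cen1 d := by rw [cen_V]; exact inf_le_left
  have h1 : Oo (Cen (V4 d e)) ≤ Cen1 d := (pPrimeCoreIn_le _ _).trans h0
  have h2 : C1 E c T' ≤ Cen (V4 d e) := (m.C1_cen l').trans (centralizer_anti
    (V_le ⟨l'.mem, dE⟩ ⟨hV (a_V d e), eE⟩))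
  refine le_trans (le_sup_left.trans (le_Oo (N := Oo (Cen (V4 d e)) ⊔ Uo d) (M := N1 E c T' d)
    (sup_le (fun y hy => m.odd_N1 l' (h1 hy) (odd_ord (odd_Oo _) hy)) le_sup_left)
    (sup_le (lnor le_sup_right) (nsup (h2.trans (lOo _)) ((h2.trans h0).trans (nUo d))))
    (BS.odd_sup (odd_Oo _) (odd_Oo _) (h1.trans (nUo d)))))
    (SN.of_normal (m.N1_le l') (m.nor_N1 l')).pPrimeCoreIn_le

theorem gf_eq {d e x : G} (F : F4 d e) (dE : d ∈ E) (eE : e ∈ E) (h : V4 d e ≤ Cen1 x) :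
    gf (V4 d e) x = Gd d x := by
  obtain ⟨T', l', -⟩ := m.loc' l dE (inv_of F.ht) F.two_V (V_le (c1.2 rfl) F.aH)
  have hd : V4 d e ≤ Cen1 d := V_le (c1.2 rfl) F.aH
  have n1 : V4 d e ≤ Nor (Uo x) := h.trans (nUo x)
  have zd : zpowers d ≤ V4 d e := le_sup_left
  change ⁅Uo x, V4 d e⁆ ⊔ (Uo x ⊓ Oo (Cen (V4 d e))) = _
  refine le_antisymm (sup_le ?_ (le_sup_of_le_right (inf_le_inf_left _ (m.core_V l F dE eE))))
    (sup_le (le_sup_of_le_left (commutator_mono le_rfl zd)) ?_)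
  · have e1 := commutator_sup_centralizer (zd.trans n1) (cop_zp F.ht (odd_Oo (Cen1 x)))
      (Or.inl (solv_zp d))
    rw [H4.centralizer_zpowers] at e1
    conv_lhs => rw [← e1, commutator_comm]
    have n2 : V4 d e ≤ Nor (Uo x ⊓ Cen1 d) := ninf n1 (nc1 hd)
    refine commutator_sup_le_of_normalizer (lnor le_sup_left) (nsup (ncom (lnor inf_le_left)
      (nzp inf_le_right)) (ninf (lnor inf_le_left) (inf_le_right.trans (nUo d))))
      (le_sup_of_le_left (commutator_le_right' (ncom n1 (nzp hd)))) (le_sup_of_le_right ?_)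
    intro y hy
    have h1 := (commutator_le_right' n2 hy).1
    refine ⟨h1, m.odd_K l' ?_ (odd_ord (odd_Oo _) h1)⟩
    exact commutator_le_left' (inf_le_right.trans (m.le_nor_LL (Cen1 d)))
      (commutator_mono (V_le (mem_LL dE (c1.2 rfl)) (mem_LL eE F.aH)) le_rfl hy)
  · rw [← commutator_sup_centralizer (ninf n1 (hd.trans (nUo d)))
      (F.cop_V (odd_of_le inf_le_left (odd_Oo _))) (Or.inl F.solv_V)]
    refine sup_le_sup (commutator_mono inf_le_left le_rfl) (le_inf (inf_le_left.trans inf_le_left)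
      ((inf_le_inf_right _ inf_le_right).trans (pPrimeCoreIn_inf_le ?_)))
    exact (cen_V d e).le.trans inf_le_left

include hB

theorem K_le2 {d : G} (dE : d ∈ E) (di : Inv d) (h : B ≤ Cen1 d) :
    LL E (Cen1 d) ≤ ⁅W0 B d, B⁆ ⊔ (Cen1 d ⊓ Cen B) := by
  obtain ⟨T', l', hV⟩ := m.loc' l dE di hB.two h
  refine (m.K_le l').trans (sup_le ?_ (le_sup_of_le_right (le_inf ((m.sub_le _).trans l'.cen)
    fun x hx => cen.2 fun b hb => ?_)))
  · rw [← commutator_sup_centralizer (h.trans (nUo d)) (hB.cop (odd_Oo _)) (hB.solv _)]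
    exact sup_le_sup (comm_le_W0 hB h) (inf_le_inf_right _ (Uo_le d))
  · refine commutatorElement_eq_one_iff_mul_comm.1 ((P2.of_mem l'.two ?_).eq_one (odd_ord (odd_Oo _)
      (m.comm_K hB di.1 h (commutator_mem_commutator (mem_LL hx.2 (l'.cen hx.1)) hb))))
    exact mul_mem (SF.cmem hx.1 (hV hb)) (inv_mem (hV hb))

theorem exists_W {d e : G} (F : F4 d e) (dE : d ∈ E) (eE : e ∈ E) (h : V4 d e ≤ Cen B) :
    ⁅W0 B d, B⁆ = ⁅W0 B e, B⁆ ∧ Odd (Nat.card ↥⁅W0 B d, B⁆) := by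
  have cs := m.cs hB F dE eE h
  have c16 : 2 ^ 3 ≤ Nat.card ↥(V4 d e ⊔ B) := by
    rw [card_sup_of_disjoint (GW.cnor (le_cen_symm h)) cs.disj, cs.c1, cs.c2]; norm_num
  obtain ⟨W, hW, hθ⟩ := H5.SS.ssft_two cs.elem c16 ⟨cs.sig, fun x hx x1 =>
    H5.Dich.solv_of_odd (cs.sig.2.1 x hx x1)⟩
  have Wo : Odd (Nat.card W) := Nat.odd_iff.2 (Nat.two_dvd_ne_zero.1 (fam_not_dvd hW))
  have key : ∀ d e : G, F4 d e → d ∈ E → e ∈ E → ∀ V, V4 d e = V → V ≤ Cen B →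
      V ⊔ B ≤ Nor W → (∀ x ∈ V ⊔ B, x ≠ 1 → W ⊓ Cen1 x ≤ gf V x ⊓ gf B x) →
      (∀ x ∈ V ⊔ B, x ≠ 1 → gf V x ⊓ gf B x ≤ W) → ⁅W0 B d, B⁆ = ⁅W, B⁆ := by
    rintro d e F dE eE _ rfl h hn h1 h2
    have dB : ∀ b ∈ B, d * b = b * d := fun b hb => cen.1 (h (t_V d e)) b hb
    have mem : ∀ b ∈ B, d * b ∈ V4 d e ⊔ B := fun b hb =>
      mul_mem (mem_sup_left (t_V d e)) (mem_sup_right hb)
    have ne : ∀ b ∈ B, d * b ≠ 1 := fun b hb e1 => ine F.ht (hB.dis d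
      (mem_of_eq (inv_mem hb) (eq_inv_of_mul_eq_one_left e1).symm) dE)
    have eq : ∀ b ∈ B, gf (V4 d e) (d * b) = Gd d (d * b) := fun b hb => m.gf_eq l F dE eE
      (le_sup_left.trans (le_centralizer_singleton_of_comm (H6.EA.sup (el_V F) hB.el h).1
        (mem b hb)))
    have k1 : ∀ b ∈ B, W ⊓ Cen1 (d * b) ≤ W0 B d := fun b hb =>
      (h1 _ (mem b hb) (ne b hb)).trans (by
        rw [eq b hb]; exact le_iSup (fun b : B => Gd d (d * b) ⊓ gf B (d * b)) ⟨b, hb⟩)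
    refine le_antisymm (commutator_mono (iSup_le fun b => ?_) le_rfl) ?_
    · rw [← eq b b.2]; exact h2 _ (mem b b.2) (ne b b.2)
    rw [← commutator_commutator_eq (le_sup_right.trans hn) (hB.cop Wo) (hB.solv _)]
    refine commutator_mono (commutator_le.2 fun w hw b hb => ?_) le_rfl
    by_cases b1 : b = 1
    · simp [b1]
    have e2 : d * (d * b) = b := by rw [← mul_assoc, ii F.ht, one_mul]
    refine inverted_mem Wo (inv_of F.ht) (e := d * b) ⟨ne b hb, by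
        rw [mul_assoc, ← mul_assoc b, ← dB b hb, mul_assoc, hB.sq hb, mul_one, ii F.ht]⟩
      (fun e => b1 (by simpa using e)) (by rw [e2, mul_assoc, ← dB b hb, e2])
      (hn (mem_sup_left (t_V d e))) (hn (mem b hb)) (by simpa using k1 1 (one_mem _)) (k1 b hb)
      (commutator_le_left' (le_sup_right.trans hn) (commutator_mem_commutator hw hb)) ?_
    have bi : b⁻¹ = b := inv_eq_of_mul_eq_one_right (hB.sq hb)
    rw [e2, commutatorElement_inv, commutatorElement_def, commutatorElement_def, bi]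
    simp only [mul_assoc, hB.sq hb, mul_one]
  have k1 := key d e F dE eE _ rfl h (fam_norm hW) (fun x hx x1 => fam_le hW hx x1) hθ
  have k2 := key e d F.symm eE dE _ (V_symm e d) h (fam_norm hW) (fun x hx x1 => fam_le hW hx x1) hθ
  exact ⟨k1.trans k2.symm, k1 ▸ odd_of_le
    (commutator_le_left' (le_sup_right.trans (fam_norm hW))) Wo⟩

theorem K_ne (h : B ≤ Cen (m.sub l.two)) :
    (⨆ d : {d // d ∈ T ∧ d ∈ E ∧ Inv d}, LL E (Cen1 d.1)) ≠ ⊤ := by
  have hc : ∀ d ∈ T, d ∈ E → B ≤ Cen1 d := fun d hd dE =>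
    cen_iff_le.1 (le_cen_symm h (⟨hd, dE⟩ : d ∈ m.sub l.two))
  have k : ∀ d ∈ T, d ∈ E → Inv d → d ≠ a →
      ⁅W0 B a, B⁆ = ⁅W0 B d, B⁆ ∧ Odd (Nat.card ↥⁅W0 B a, B⁆) := fun d hd dE di hne =>
    m.exists_W hB l (f4 l.inv di hne (l.cen hd)) l.aE dE
      (V_le (cen_iff_le.2 (hc a l.mem l.aE)) (cen_iff_le.2 (hc d hd dE)))
  obtain ⟨b, hb, bE, bi, hne, -⟩ := m.exists_b l
  have k1 : ∀ d ∈ T, d ∈ E → Inv d → LL E (Cen1 d) ≤ ⁅W0 B a, B⁆ ⊔ (Cen1 d ⊓ Cen B) ∧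
      Cen1 d ⊓ Cen B ≤ Nor ⁅W0 B a, B⁆ := fun d hd dE di => by
    have : ⁅W0 B a, B⁆ = ⁅W0 B d, B⁆ := by
      by_cases e : d = a
      · rw [e]
      · exact (k d hd dE di e).1
    rw [this]
    exact ⟨m.K_le2 hB l dE di (hc d hd dE), ncom (nor_W0 B d) (GW.cnor inf_le_right)⟩
  intro e
  by_cases h0 : ⁅W0 B a, B⁆ = ⊥
  · obtain ⟨u, hu, u1⟩ := exists_ne_one_of_ne_bot (B := B) fun e => by
      have := hB.card
      rw [e, card_bot] at this
      omega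
    refine m.z1 u u1 (top_le_iff.1 (e.ge.trans (iSup_le fun d => (k1 d d.2.1 d.2.2.1 d.2.2.2).1.trans
      ?_)))
    rw [h0, bot_sup_eq]
    exact inf_le_right.trans (le_centralizer_singleton_of_mem hu)
  · exact m.nor_ne h0 (k b hb bE bi hne).2 (top_le_iff.1 (e.ge.trans (iSup_le fun d =>
      (k1 d d.2.1 d.2.2.1 d.2.2.2).1.trans (sup_le le_normalizer (k1 d d.2.1 d.2.2.1 d.2.2.2).2))))

theorem not_B (h : B ≤ Cen (m.sub l.two)) : False := by
  have hK := m.K_ne hB l h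
  generalize eK : (⨆ d : {d // d ∈ T ∧ d ∈ E ∧ Inv d}, LL E (Cen1 d.1)) = K at hK
  have k1 : ∀ d ∈ T, d ∈ E → Inv d → LL E (Cen1 d) ≤ K := fun d hd dE di =>
    eK ▸ le_iSup (fun d : {d // d ∈ T ∧ d ∈ E ∧ Inv d} => LL E (Cen1 d.1)) ⟨d, hd, dE, di⟩
  have k2 : Nor (m.sub l.two) ≤ Nor K := fun g hg => mnor fun k hk => by
    refine (iSup_le fun d => ?_ : _ ≤ K.comap (MulAut.conj g).toMonoidHom) (eK ▸ hk)
    intro y hy
    have h1 : g * d * g⁻¹ ∈ m.sub l.two := cmem hg ⟨d.2.1, d.2.2.1⟩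
    have := m.conj_LL (g := g) hy
    rw [conj_c1] at this
    exact k1 _ h1.1 h1.2 (d.2.2.2.conj g) this
  have k3 : Cen1 a ≤ Nor K := fun g hg => by
    obtain ⟨k, hk, e⟩ := m.frat l hg
    simpa using mul_mem (le_normalizer (k1 a l.mem l.aE l.inv hk)) (k2 e)
  have hM : Nor K ≠ ⊤ := fun e =>
    l.inv.1 (m.p1 K e.ge hK a l.aE (k1 a l.mem l.aE l.inv (mem_LL l.aE (c1.2 rfl))))
  have pd := m.pd l.syl ((m.nor_sub l.two).trans k2) fun d hd dE di => by
    by_cases e : d = a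
    · rwa [e]
    obtain ⟨w, e1, hw, -⟩ := m.key l hd dE di e
    have wM : w ∈ Nor K := hw.elim (fun h => k2 h) fun h => le_normalizer (k1 _ (mul_mem l.mem hd)
      (m.mulT l l.mem hd l.aE dE) (l.inv.mul di (Ne.symm e) (c1.1 (l.cen hd)).symm) h)
    intro y hy
    exact mem_of_eq (mul_mem (mul_mem (inv_mem wM) (k3 (e1 ▸ c1_conj hy))) wM) (by group)
  obtain ⟨b, hb, bE, bi, hne, -⟩ := m.exists_b l
  have hS : St G ((1 : G) : G ⧸ Nor K) = Nor K := MulAction.stabilizer_quotient _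
  have pu := pd.pure (M := ⊤) (x := ((1 : G) : G ⧸ Nor K)) ⟨⟨a, ⟨l.aE, l.inv⟩, b, ⟨bE, bi⟩, mem_top _,
    mem_top _, hne.symm, (c1.1 (l.cen hb)).symm⟩, ⟨a, ⟨l.aE, l.inv⟩, mem_top _,
      BS.mem_St.1 (hS.ge (k3 (c1.2 rfl)))⟩, fun e => hM (top_le_iff.1 (hS ▸ e))⟩
  have eL : LL {d | d ∈ E ∧ Inv d} ⊤ = ⊤ := by
    by_contra e
    exact l.inv.1 (m.p1 _ (le_normalizer.trans (pd.nor_le_nor_LL ⊤)) e a l.aE
      (mem_LL ⟨l.aE, l.inv⟩ (mem_top _)))
  obtain ⟨u, hu, u1⟩ := exists_ne_one_of_ne_bot (B := B) fun e => by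
    have := hB.card
    rw [e, card_bot] at this
    omega
  exact u1 (hB.dis u hu (pu u (eL.ge (mem_top u)) ⟨u1, hB.sq hu⟩).1)

end Min

theorem Min.all (m : Min E c) {d : G} (dE : d ∈ E) (d1 : d ≠ 1) {x : G} (hx : P2 x) : x ∈ E := by
  obtain ⟨T, hT, h⟩ := exists_isSylowOf_ge (m.two d dE).zp (K := ⊤) le_top
  obtain ⟨a, h1, h2, h3, h4⟩ := m.exists_central hT.isPGroup (h (mem_zpowers d)) dE d1
  have l : Loc E T a := ⟨hT, h1, h2, h3, h4⟩
  by_cases h0 : T ⊓ C1 E c T = ⊥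
  · obtain ⟨g, -, e⟩ := conj_into hT (mem_top x) hx
    exact (m.conj_iff g).1 (m.all_of_bot l h0 e).2
  · obtain ⟨u, v, F, k1, k2, k3⟩ := m.exists_B l h0
    exact (m.not_B ⟨el_V F, F.card_V, k2, k3⟩ l k1).elim

end H8.Sq
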