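import Cfsg.Agent.H8.Sq4

/-! Strongly closed sets of rank one are pure in their closure. -/

set_option autoImplicit false
set_option linter.unusedSectionVars false

namespace H8.Sq

open Cfsg Subgroup FT H4 H5 GW
open BS (Inv Od Cm St)
open SF (LL PD mem_LL LL_le)
open scoped commutatorElement

universe u

section Gen

variable {G : Type*} [Group G] [Finite G] {E : Set G}

/-- commuting involutions of `E` are equal -/
def R1 (E : Set G) : Prop := ∀ x ∈ E, ∀ y ∈ E, Inv x → Inv y → x * y = y * x → x = y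

theorem quat_sq {n : ℕ} {y : QuaternionGroup n} (h : ∀ w, y * w = w * y)
    (hn : (2 : ZMod (2 * n)) ≠ 0) : y * y = 1 := by
  cases y with
  | a i =>
    have := h (QuaternionGroup.xa 0)
    rw [QuaternionGroup.a_mul_xa, QuaternionGroup.xa_mul_a, QuaternionGroup.xa.injEq] at this
    rw [QuaternionGroup.a_mul_a, QuaternionGroup.one_def]
    congr 1
    linear_combination -this
  | xa i =>
    have := h (QuaternionGroup.a 1)
    rw [QuaternionGroup.a_mul_xa, QuaternionGroup.xa_mul_a, QuaternionGroup.xa.injEq] at this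
    exact absurd (by linear_combination this) hn

theorem rk1_cyc {P : Subgroup G} (hP : IsPGroup 2 P)
    (h1 : ∀ x ∈ P, ∀ y ∈ P, Inv x → Inv y → x = y) {x : G} (hx : x ∈ P) (hc : P ≤ Cen1 x)
    (x2 : x * x ≠ 1) : ∃ r, P = zpowers r := by
  have k : ∀ a : P, orderOf a = 2 → Inv (a : G) := fun a ha =>
    inv_of (by rwa [Subgroup.orderOf_coe])
  rcases H7.isCyclic_or_quaternion hP (H7.rank_le_one_of_unique_involution fun a b ha hb =>
    Subtype.ext (h1 a a.2 b b.2 (k a ha) (k b hb))) with h | ⟨n, ⟨φ⟩⟩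
  · obtain ⟨r, e⟩ := (Subgroup.isCyclic_iff_exists_zpowers_eq_top P).1 h
    exact ⟨r, e.symm⟩
  · refine absurd ?_ x2
    have := quat_sq (y := φ ⟨x, hx⟩) (fun w => by
      obtain ⟨p, rfl⟩ := φ.surjective w
      rw [← map_mul, ← map_mul]
      exact congrArg φ (Subtype.ext (c1.1 (hc p.2)).symm)) (fun e => by
      have := (ZMod.natCast_eq_zero_iff 2 (2 * 2 ^ (n + 1))).1 (by exact_mod_cast e)
      have h2 := Nat.le_of_dvd two_pos this
      have : 2 ≤ 2 ^ (n + 1) := Nat.le_self_pow (Nat.succ_ne_zero n) 2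
      omega)
    rw [← map_mul, map_eq_one_iff _ φ.injective] at this
    exact congrArg Subtype.val this

theorem cyc_le {P : Subgroup G} {r : G} (h : P ≤ zpowers r) : ∃ s, P = zpowers s := by
  have : IsCyclic P := isCyclic_of_le h
  obtain ⟨s, e⟩ := (Subgroup.isCyclic_iff_exists_zpowers_eq_top P).1 this
  exact ⟨s, e.symm⟩

theorem LL_map {X : Type*} [Group X] (f : G →* X) (H : Subgroup X) :
    LL (f '' E) H ≤ (LL E (H.comap f)).map f :=
  SF.LL_le_iff.2 fun _ ⟨x, hx, e⟩ h => ⟨x, mem_LL hx (by rw [mem_comap, e]; exact h), e⟩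

theorem SCl.r1_map (h : SCl E) {X : Type*} [Group X] [Finite X] {f : G →* X}
    (hf : Function.Surjective f) {T : Subgroup G} (hT : IsSylowOf 2 T ⊤)
    (k : ∀ x ∈ T, ∀ y ∈ T, x ∈ E → y ∈ E → Inv (f x) → Inv (f y) → f x * f y = f y * f x →
      f x = f y) : R1 (f '' E) := fun a aE b bE ai bi e => by
  obtain ⟨P, hP, e1⟩ := h.lift hf (two_pair (p2_of_sq ai.2) (p2_of_sq bi.2) e)
  obtain ⟨x, hx, xE, rfl⟩ := e1 a (mem_sup_left (mem_zpowers a)) aE
  obtain ⟨y, hy, yE, rfl⟩ := e1 b (mem_sup_right (mem_zpowers b)) bE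
  obtain ⟨g, -, e2⟩ := conj_le hT hP le_top
  have m : ∀ x, f (g * x * g⁻¹) = f g * f x * (f g)⁻¹ := fun x => by simp
  have := k _ (e2 x hx) _ (e2 y hy) (h.conj x xE g) (h.conj y yE g) (m x ▸ ai.conj _)
    (m y ▸ bi.conj _) (by
      rw [m, m]
      calc _ = f g * (f x * f y) * (f g)⁻¹ := by group
        _ = _ := by rw [e]; group)
  simpa [m] using this

end Gen

variable {G : Type u} [Group G] [Finite G] {E : Set G}

/-- the statement for one group -/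
def QS (G : Type u) [Group G] : Prop := ∀ E : Set G, SCl E → R1 E → Pur E (LL E ⊤)

/-- the induction hypothesis -/
def IH (G : Type u) [Group G] : Prop :=
  ∀ (X : Type u) [Group X] [Finite X], Nat.card X < Nat.card G → QS X

theorem IH.sub (ih : IH G) (h : SCl E) (r : R1 E) {H : Subgroup G} (hH : H ≠ ⊤) :
    Pur E (LL E H) := fun x hx x2 => by
  have k : ∀ a : H, Inv a → Inv (a : G) := fun a ha =>
    ⟨fun e => ha.1 (Subtype.ext e), congrArg Subtype.val ha.2⟩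
  have h1 := ih H (by simpa using H5.card_lt_of_lt (lt_top_iff_ne_top.2 hH)) _ (h.comap H)
    fun a aE b bE ai bi e => Subtype.ext (r _ aE _ bE (k a ai) (k b bi) (congrArg Subtype.val e))
  have h2 : LL E H ≤ (LL (H.subtype ⁻¹' E) ⊤).map H.subtype :=
    SF.LL_le_iff.2 fun a aE ha => ⟨⟨a, ha⟩, mem_LL aE (mem_top _), rfl⟩
  obtain ⟨y, hy, rfl⟩ := h2 hx
  obtain ⟨n, e⟩ := x2
  exact h1 y hy ⟨n, Subtype.ext e⟩

theorem IH.quot (ih : IH G) (h : SCl E) (t : LL E ⊤ = ⊤) {N : Subgroup G} [N.Normal]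
    (h0 : N ≠ ⊥) (hp : Pur E N) (r : R1 (QuotientGroup.mk' N '' E)) {x : G} (hx : P2 x) :
    x ∈ E := by
  have hf := QuotientGroup.mk'_surjective N
  refine h.pur_of_map hf (by rwa [QuotientGroup.ker_mk']) hx
    (ih _ (SF.card_quot_lt h0) _ (h.map hf) r _ ?_ (hx.map _))
  have : LL E ⊤ ≤ (LL (QuotientGroup.mk' N '' E) ⊤).comap (QuotientGroup.mk' N) :=
    SF.LL_le_iff.2 fun a aE _ => mem_LL ⟨a, aE, rfl⟩ (mem_top _)
  exact this (t.ge (mem_top x))

theorem IH.q1 (ih : IH G) (h : SCl E) (t : LL E ⊤ = ⊤) {T N : Subgroup G} (hT : IsSylowOf 2 T ⊤)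
    (hn : ⊤ ≤ Nor N) (h0 : N ≠ ⊥) (hp : Pur E N) {y : G}
    (k : ∀ s ∈ T, s ∈ E → ∃ w ∈ zpowers y, w⁻¹ * s ∈ N) {x : G} (hx : P2 x) : x ∈ E := by
  have : N.Normal := H7.normal_of_top_le_normalizer hn
  refine ih.quot h t h0 hp (h.r1_map (QuotientGroup.mk'_surjective N) hT
    fun a ha b hb aE bE ai bi _ => ?_) hx
  have m : ∀ s ∈ T, s ∈ E → QuotientGroup.mk' N s ∈ zpowers (QuotientGroup.mk' N y) :=
    fun s hs sE => by
      obtain ⟨w, hw, e⟩ := k s hs sE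
      rw [← MonoidHom.map_zpowers]
      exact ⟨w, hw, QuotientGroup.eq.2 e⟩
  exact GW.inv_uniq (m a ha aE) (m b hb bE) ai.orderOf bi.orderOf

/-- a minimal counterexample -/
structure Cx (E : Set G) (T : Subgroup G) (z a y : G) : Prop extends SCl E where
  ih : IH G
  r1 : R1 E
  top : LL E ⊤ = ⊤
  syl : IsSylowOf 2 T ⊤
  o1 : Oo (⊤ : Subgroup G) = ⊥
  zE : z ∈ E
  zi : Inv z
  zc : ∀ g, g * z = z * g
  aT : a ∈ T
  aE : a ∈ E
  az : a ∉ zpowers z
  ac : ∀ g ∈ T, ⁅a, g⁆ ∈ zpowers z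
  a2 : a ^ 2 ∈ zpowers z
  yT : y ∈ T
  yE : y ∈ E
  ya : y ∉ Cen1 a
  no : ∃ x, P2 x ∧ x ∉ E

namespace Cx

variable {T : Subgroup G} {z a y : G} (m : Cx E T z a y)
include m

theorem two' : IsPGroup 2 T := m.syl.isPGroup

theorem zcen (g : G) : zpowers z ≤ Cen1 g := zpowers_le.2 (c1.2 (m.zc g).symm)

theorem uq {x : G} (xE : x ∈ E) (h : x * x = 1) : x = 1 ∨ x = z := by
  by_cases e : x = 1
  · exact Or.inl e
  · exact Or.inr (m.r1 x xE z m.zE ⟨e, h⟩ m.zi (m.zc x))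

theorem mz {x : G} (h : x = 1 ∨ x = z) : x ∈ zpowers z := by
  rcases h with rfl | rfl
  exacts [one_mem _, mem_zpowers _]

theorem sq_z {x : G} (xE : x ∈ E) (h : x ∉ zpowers z) (h2 : x * x ∈ zpowers z) : x * x = z :=
  (m.zi.mem_zpowers h2).resolve_left fun e => h (m.mz (m.uq xE e))

theorem aa : a * a = z := m.sq_z m.aE m.az (by simpa [sq] using m.a2)

theorem same {d e : G} (dE : d ∈ E) (eE : e ∈ E) (hc : e ∈ Cen1 d) (h : e * e = d * d) :
    e = d ∨ e = d * z := by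
  have e1 : d⁻¹ * e = e * d⁻¹ := (c1.1 (c1s.1 (inv_mem (c1s.1 hc)))).symm
  have := m.uq (m.mulc (m.inv dE) eE e1) (by
    calc d⁻¹ * e * (d⁻¹ * e) = d⁻¹ * (e * d⁻¹) * e := by group
      _ = (d * d)⁻¹ * (e * e) := by rw [← e1]; group
      _ = 1 := by rw [h, inv_mul_cancel])
  exact this.imp (fun h => (inv_mul_eq_one.1 h).symm) fun h => by rw [← h]; group

theorem cyc {P : Subgroup G} (hP : IsPGroup 2 P) (h : ∀ x ∈ P, x ∈ E) {x : G} (hx : x ∈ P)
    (hc : P ≤ Cen1 x) (xz : x ∉ zpowers z) : ∃ r, P = zpowers r :=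
  rk1_cyc hP (fun u hu v hv ui vi => ((m.uq (h u hu) ui.2).resolve_left ui.1).trans
    ((m.uq (h v hv) vi.2).resolve_left vi.1).symm) hx hc fun e => xz (m.mz (m.uq (h x hx) e))

theorem two_out {d g k : G} (h1 : g * d * g⁻¹ = d * z) (h2 : k * d * k⁻¹ = d * z) :
    g * k ∈ Cen1 d := c1'.2 (by
  calc g * k * d * (g * k)⁻¹ = g * (k * d * k⁻¹) * g⁻¹ := by group
    _ = g * d * g⁻¹ * (g * z * g⁻¹) := by rw [h2]; group
    _ = d := by rw [h1, m.zc g, mul_inv_cancel_right, mul_assoc, m.zi.2, mul_one])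

theorem conj_a {g : G} (hg : g ∈ T) (h : g ∉ Cen1 a) : g * a * g⁻¹ = a * z := by
  have e1 : g * a * g⁻¹ = ⁅a, g⁆⁻¹ * a := by rw [commutatorElement_def]; group
  rcases m.zi.mem_zpowers (m.ac g hg) with e | e <;> rw [e] at e1
  · exact absurd (c1'.2 (by simpa using e1)) h
  · rw [e1, m.zi.inv, m.zc]

theorem gen : ∃ r, ∀ x, x ∈ zpowers r ↔ x ∈ T ∧ x ∈ E ∧ x ∈ Cen1 a := by
  obtain ⟨r, e⟩ := m.cyc (P := m.sub m.two' ⊓ Cen1 a) (m.sub_two _).to_inf_left
    (fun x hx => hx.1.2) ⟨⟨m.aT, m.aE⟩, c1.2 rfl⟩ inf_le_right m.az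
  exact ⟨r, fun x => by rw [← e, ← and_assoc]; rfl⟩

theorem nq {N : Subgroup G} (hn : ⊤ ≤ Nor N) (h0 : N ≠ ⊥) (hp : Pur E N) {w : G}
    (k : ∀ s ∈ T, s ∈ E → ∃ v ∈ zpowers w, v⁻¹ * s ∈ N) : False :=
  let ⟨_, h1, h2⟩ := m.no; h2 (m.ih.q1 m.toSCl m.top m.syl hn h0 hp k h1)

theorem two_of_npc {K : Subgroup G} (hn : ⊤ ≤ Nor K) (h : H7.NPC 2 K) : IsPGroup 2 K := by
  have e : Oo K = ⊥ := le_bot_iff.1 (m.o1 ▸ le_Oo le_top (hn.trans (nOo K)) (odd_Oo K))
  intro x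
  obtain ⟨k, hk⟩ := H7.npc_iff_pPrimeCoreIn.1 h x x.2
  exact ⟨k, Subtype.ext (by simpa using (e.le hk : _ ∈ ⊥))⟩

theorem p1 {N : Subgroup G} (hn : ⊤ ≤ Nor N) (hN : N ≠ ⊤) {x : G} (xE : x ∈ E) (hx : x ∈ N) :
    x ∈ zpowers z := by
  by_contra xz
  obtain ⟨r, hr⟩ := m.gen
  have n0 : ⊤ ≤ Nor (LL E N) := hn.trans (m.nor_LL N)
  have x0 : x ∈ LL E N := mem_LL xE hx
  have h0 : LL E N ≠ ⊥ := fun e => xz (by rw [e, mem_bot] at x0; exact x0 ▸ one_mem _)
  have hp := m.ih.sub m.toSCl m.r1 hN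
  by_cases hA : ∃ s ∈ T, s ∈ LL E N ∧ s ∉ Cen1 a
  · obtain ⟨s, sT, s0, sa⟩ := hA
    have sE := hp s s0 (P2.of_mem m.two' sT)
    refine m.nq n0 h0 hp (w := r) fun t tT tE => ?_
    by_cases h : t ∈ Cen1 a
    · exact ⟨t, (hr t).2 ⟨tT, tE, h⟩, by simp⟩
    · exact ⟨t * s, (hr _).2 ⟨mul_mem tT sT, m.mul T m.two' _ tT _ sT tE sE,
        m.two_out (m.conj_a tT h) (m.conj_a sT sa)⟩, by simpa using s0⟩
  push Not at hA
  have hs := m.syl.inf_of_le_normalizer (le_top (a := LL E N)) (le_top.trans n0)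
  obtain ⟨r', e⟩ := cyc_le (P := T ⊓ LL E N) (r := r) fun s hs =>
    (hr s).2 ⟨hs.1, hp s hs.2 (P2.of_mem m.two' hs.1), hA s hs.1 hs.2⟩
  have t0 := m.two_of_npc n0 (npc_cyc hs e)
  have l0 : LL E N ≤ Cen1 a := fun s h => hA s ((hs.eq_of_le t0 hs.le le_rfl).le h).1 h
  have a0 : a ∈ LL E N := by
    obtain ⟨w, hw, wz, -, w2⟩ := H7.exists_central_mod (N := zpowers z) t0 le_rfl le_normalizer
      fun h => xz (h x0)
    have wE := hp w hw (P2.of_mem t0 hw)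
    have e1 := m.sq_z wE wz (by simpa [sq] using w2)
    rcases m.same m.aE wE (l0 hw) (e1.trans m.aa.symm) with h | h
    · exact h ▸ hw
    · exact mem_of_eq (mul_mem hw (inv_mem (mul_mem hw hw))) (by rw [e1, h]; group)
  have ca : ∀ g, g * a * g⁻¹ = a ∨ g * a * g⁻¹ = a * z := fun g =>
    m.same m.aE (m.conj a m.aE g) (l0 (cmem (n0 (mem_top g)) a0)) (by
      calc _ = g * (a * a) * g⁻¹ := by group
        _ = _ := by rw [m.aa, m.zc, mul_inv_cancel_right])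
  have nc : ⊤ ≤ Nor (Cen1 a) := fun g _ => mnor fun k hk => by
    have h1 := c1_conj' (g := g⁻¹) hk
    rw [inv_inv] at h1
    rcases ca g with e | e <;> rw [e] at h1
    · exact h1
    · simpa using c1s.1 (mul_mem (c1s.1 h1) (inv_mem (m.zcen _ (mem_zpowers z))))
  refine m.nq (nc.trans (m.nor_LL _)) (fun e => m.az ?_)
    (m.ih.sub m.toSCl m.r1 fun e => m.ya (e ▸ mem_top y)) (w := y) fun t tT tE => ?_
  · have : a ∈ LL E (Cen1 a) := mem_LL m.aE (c1.2 rfl)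
    rw [e, mem_bot] at this
    exact this ▸ one_mem _
  by_cases h : t ∈ Cen1 a
  · exact ⟨1, one_mem _, by simpa using mem_LL tE h⟩
  · exact ⟨y⁻¹, inv_mem (mem_zpowers y), by
      simpa using mem_LL (m.mul T m.two' _ m.yT _ tT m.yE tE)
        (m.two_out (m.conj_a m.yT m.ya) (m.conj_a tT h))⟩

theorem three {N : Subgroup G} (hn : ⊤ ≤ Nor N) (h : a ∈ N ∨ y ∈ N ∨ a * y ∈ N) : N = ⊤ := by
  by_contra hN
  rcases h with h | h | h
  · exact m.az (m.p1 hn hN m.aE h)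
  · exact m.ya (m.zcen a (m.p1 hn hN m.yE h))
  · have := m.zcen a (m.p1 hn hN (m.mul T m.two' _ m.aT _ m.yT m.aE m.yE) h)
    exact m.ya (by simpa using mul_mem (inv_mem (c1.2 rfl : a ∈ Cen1 a)) this)

theorem Z_two : IsPGroup 2 (center G) := m.two_of_npc le_normalizer_of_normal
  (npc_of_forall_central fun x _ _ => cen.2 fun g hg => mem_center_iff.1 hg x)

theorem EZ {x : G} (xE : x ∈ E) (hx : x ∈ center G) : x = 1 ∨ x = z :=
  m.zi.mem_zpowers (m.p1 le_normalizer_of_normal (fun e => m.ya (c1.2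
    (mem_center_iff.1 (e.ge (mem_top a)) y))) xE hx)

theorem zZ : z ∈ center G := mem_center_iff.2 m.zc

end Cx

/-- the central quotient map -/
abbrev fZ (G : Type u) [Group G] : G →* G ⧸ center G := QuotientGroup.mk' (center G)

theorem fZ_surj : Function.Surjective (fZ G) := QuotientGroup.mk'_surjective _

theorem fZ_eq {x y : G} : fZ G x = fZ G y ↔ x⁻¹ * y ∈ center G := QuotientGroup.eq

theorem fZ_one {x : G} : fZ G x = 1 ↔ x ∈ center G := QuotientGroup.eq_one_iff x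

theorem c1_of_eq {x y g : G} (h : fZ G x = fZ G y) (hg : g ∈ Cen1 x) : g ∈ Cen1 y := by
  have := mul_mem (c1s.1 hg) (c1.2 (mem_center_iff.1 (fZ_eq.1 h) g).symm)
  exact c1s.1 (by simpa using this)

/-- the image of the centralizer of a preimage -/
noncomputable def cZ (d : G ⧸ center G) : Subgroup (G ⧸ center G) :=
  (Cen1 (Function.surjInv fZ_surj d)).map (fZ G)

theorem mem_cZ {g d : G} : fZ G g ∈ cZ (fZ G d) ↔ g ∈ Cen1 d := by
  have e := Function.surjInv_eq (fZ_surj (G := G)) (fZ G d)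
  refine ⟨fun ⟨k, hk, e1⟩ => c1_of_eq e ?_, fun h => ⟨g, c1_of_eq e.symm h, rfl⟩⟩
  exact c1s.1 (c1_of_eq e1 (c1s.1 hk))

namespace Cx

variable {T : Subgroup G} {z a y : G} (m : Cx E T z a y)
include m

theorem comm {d g : G} (dE : d ∈ E) (h : fZ G g ∈ Cen1 (fZ G d)) :
    g * d * g⁻¹ = d ∨ g * d * g⁻¹ = d * z := by
  have e : fZ G d = fZ G (g * d * g⁻¹) := by
    rw [map_mul, map_mul, map_inv, c1'.1 h]
  have h1 := fZ_eq.1 e
  have h2 : g * d * g⁻¹ ∈ Cen1 d⁻¹ := c1s.1 (inv_mem (c1_of_eq e.symm (c1.2 rfl) |> c1s.1))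
  exact (m.EZ (m.mulc (m.inv dE) (m.conj d dE g) (c1.1 h2).symm) h1).imp
    (fun h => (inv_mul_eq_one.1 h).symm) fun h => by rw [← h]; group

theorem lift2 {x : G} (h : P2 (fZ G x)) : P2 x := by
  obtain ⟨k, e⟩ := h
  rw [← map_pow, fZ_one] at e
  obtain ⟨j, e2⟩ := P2.of_mem m.Z_two e
  exact ⟨k + j, by rw [pow_add, pow_mul, e2]⟩

theorem two_comap {P : Subgroup (G ⧸ center G)} (hP : IsPGroup 2 P) :
    IsPGroup 2 (P.comap (fZ G)) := fun x =>
  let ⟨k, e⟩ := m.lift2 (P2.of_mem hP x.2); ⟨k, Subtype.ext e⟩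

theorem nz {x : G} (h : fZ G x ≠ 1) : x ∉ zpowers z := fun e =>
  h (fZ_one.2 (zpowers_le.2 m.zZ e))

theorem min : Min (fZ G '' E) cZ where
  toSCl := m.map fZ_surj
  ih := fun H hH x hx x2 => by
    obtain ⟨w, hw, rfl⟩ := LL_map _ H hx
    exact ⟨w, m.ih.sub m.toSCl m.r1 (fun e => hH (by
      rw [← map_comap_eq_self_of_surjective fZ_surj H, e, map_top_of_surjective _ fZ_surj]))
      w hw (m.lift2 x2), rfl⟩
  p1 := by
    rintro N hn hN _ ⟨x, xE, rfl⟩ hx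
    have : N.Normal := H7.normal_of_top_le_normalizer hn
    refine fZ_one.2 (zpowers_le.2 m.zZ (m.p1 (N := N.comap (fZ G)) le_normalizer_of_normal
      (fun e => hN ?_) xE hx))
    rw [← map_comap_eq_self_of_surjective fZ_surj N, e, map_top_of_surjective _ fZ_surj]
  o1 := by
    have : (Oo (⊤ : Subgroup (G ⧸ center G))).Normal :=
      H7.normal_of_top_le_normalizer (le_normalizer.trans (nOo ⊤))
    have h2 := m.two_of_npc (K := (Oo ⊤).comap (fZ G)) le_normalizer_of_normal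
      (npc_of_forall_central fun x hx x2 => cen.2 fun g _ => (mem_center_iff.1 (fZ_one.1
        ((P2.map (fZ G) x2).eq_one (odd_ord (odd_Oo _) hx))) g).symm)
    rw [eq_bot_iff]
    intro x hx
    obtain ⟨w, rfl⟩ := fZ_surj x
    exact ((P2.of_mem h2 (x := w) hx).map _).eq_one (odd_ord (odd_Oo _) hx)
  z1 := fun x x1 e => by
    obtain ⟨g, rfl⟩ := fZ_surj x
    have k : ∀ d : G, fZ G g ∈ Cen1 (fZ G d) := fun d => c1s.1 (e ▸ mem_top _)
    have hn : ⊤ ≤ Nor (Cen1 g) := fun u _ => mnor fun w hw => c1_of_eq (x := u * g * u⁻¹) (by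
      rw [map_mul, map_mul, map_inv, c1'.1 (c1s.1 (k u))]) (c1_conj hw)
    have := m.three hn (by
      rcases m.comm m.aE (k a) with h1 | h1
      · exact Or.inl (c1s.1 (c1'.2 h1))
      rcases m.comm m.yE (k y) with h2 | h2
      · exact Or.inr (Or.inl (c1s.1 (c1'.2 h2)))
      refine Or.inr (Or.inr (c1s.1 (c1'.2 ?_)))
      calc g * (a * y) * g⁻¹ = g * a * g⁻¹ * (g * y * g⁻¹) := by group
        _ = a * (z * y) * z := by rw [h1, h2]; group
        _ = _ := by rw [← m.zc, mul_assoc, mul_assoc, m.zi.2, mul_one])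
    exact x1 (fZ_one.2 (mem_center_iff.2 fun u => c1.1 (this ▸ mem_top u)))
  cconj := fun d x g h => by
    obtain ⟨d, rfl⟩ := fZ_surj d
    obtain ⟨x, rfl⟩ := fZ_surj x
    obtain ⟨g, rfl⟩ := fZ_surj g
    simpa only [map_mul, map_inv] using mem_cZ.2 (c1_conj (g := g) (mem_cZ.1 h))
  cle := fun d x h => by
    obtain ⟨d, rfl⟩ := fZ_surj d
    obtain ⟨x, rfl⟩ := fZ_surj x
    exact c1.2 (by rw [← map_mul, c1.1 (mem_cZ.1 h), map_mul])
  cidx := by
    rintro _ ⟨d, dE, rfl⟩ x hx w hw h1 h2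
    obtain ⟨x, rfl⟩ := fZ_surj x
    obtain ⟨w, rfl⟩ := fZ_surj w
    rw [← map_mul, mem_cZ]
    exact m.two_out ((m.comm dE hx).resolve_left fun e => h1 (mem_cZ.2 (c1'.2 e)))
      ((m.comm dE hw).resolve_left fun e => h2 (mem_cZ.2 (c1'.2 e)))
  cpow := fun x n => by
    obtain ⟨x, rfl⟩ := fZ_surj x
    rw [← map_pow, mem_cZ]
    exact c1s.1 (pow_mem (c1.2 rfl) n)
  canti := by
    rintro _ ⟨d, dE, rfl⟩ _ ⟨e, eE, rfl⟩ di ei h
    have k : ∀ x ∈ E, Inv (fZ G x) → x * x = z := fun x xE xi =>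
      m.sq_z xE (m.nz xi.1) (m.mz (m.EZ (m.mulc xE xE rfl) (fZ_one.1 (by rw [map_mul, xi.2]))))
    rcases m.same dE eE (mem_cZ.1 h) ((k e eE ei).trans (k d dE di).symm) with e1 | e1
    · rw [e1]
    · rw [e1, map_mul, fZ_one.2 m.zZ, mul_one]
  cmul := fun d e x h1 h2 => by
    obtain ⟨d, rfl⟩ := fZ_surj d
    obtain ⟨x, rfl⟩ := fZ_surj x
    obtain ⟨e, rfl⟩ := fZ_surj e
    rw [← map_mul, mem_cZ]
    exact c1s.1 (mul_mem (c1s.1 (mem_cZ.1 h1)) (c1s.1 (mem_cZ.1 h2)))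
  cyc := by
    rintro _ ⟨d, dE, rfl⟩ di P hP h1 h2
    have hc : P.comap (fZ G) ≤ Cen1 d := fun x hx => mem_cZ.1 (h1 hx)
    have t : IsPGroup 2 ↥(P.comap (fZ G) ⊔ zpowers d) :=
      (m.two_comap hP).to_sup_of_normal_right' (m.two d dE).zp fun x hx => mzp (hc hx)
    obtain ⟨r, e⟩ := m.cyc (m.sub_two t) (fun x hx => hx.2)
      ⟨mem_sup_right (mem_zpowers d), dE⟩ ((m.sub_le t).trans (sup_le hc (zpowers_le.2 (c1.2 rfl))))
      (m.nz di.1)
    refine cyc_le (r := fZ G r) fun p hp => ?_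
    obtain ⟨x, xE, rfl⟩ := h2 p hp
    rw [← MonoidHom.map_zpowers, ← e]
    exact ⟨x, ⟨mem_sup_left hp, xE⟩, rfl⟩

theorem loc : Loc (fZ G '' E) (T.map (fZ G)) (fZ G a) where
  syl := by simpa only [map_top_of_surjective _ fZ_surj] using m.syl.map (fZ G)
  mem := mem_map_of_mem _ m.aT
  aE := ⟨a, m.aE, rfl⟩
  inv := ⟨fun e => m.ya (c1.2 (mem_center_iff.1 (fZ_one.1 e) y)), by
    rw [← map_mul, m.aa, fZ_one.2 m.zZ]⟩
  cen := by
    rintro _ ⟨g, hg, rfl⟩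
    refine c1s.1 (c1.2 (commutatorElement_eq_one_iff_mul_comm.1 ?_))
    rw [← map_commutatorElement, fZ_one]
    exact zpowers_le.2 m.zZ (m.ac g hg)

theorem perfect : commutator G = ⊤ := by
  by_contra h
  obtain ⟨b, hb, -, -, hne, e⟩ := m.min.exists_b m.loc
  obtain ⟨g, rfl⟩ := isConj_iff.1 e
  obtain ⟨g, rfl⟩ := fZ_surj g
  have e1 : fZ G (g * a * g⁻¹) = fZ G g * fZ G a * (fZ G g)⁻¹ := by simp only [map_mul, map_inv]
  rw [← e1] at hb hne
  have := m.p1 le_normalizer_of_normal h (m.mul _ (m.two_comap m.loc.two) _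
    (inv_mem (mem_comap.2 m.loc.mem)) _ (mem_comap.2 hb) (m.inv m.aE) (m.conj a m.aE g))
    (mem_of_eq (commutator_mem_commutator (mem_top a⁻¹) (mem_top g))
      (by rw [commutatorElement_def]; group))
  exact hne (fZ_eq.2 (zpowers_le.2 m.zZ this)).symm

theorem elim : False := by
  obtain ⟨x, h1, h2⟩ := m.no
  have ZT : center G ≤ T := fun w hw => by
    obtain ⟨g, -, e⟩ := conj_into m.syl (mem_top w) (P2.of_mem m.Z_two hw)
    rwa [mem_center_iff.1 hw g, mul_inv_cancel_right] at e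
  have := le_of_foc m.perfect m.syl (M := m.sub m.two') fun t ht u hu => by
    obtain ⟨s, sE, e⟩ := m.min.all m.loc.aE m.loc.inv.1 ((P2.of_mem m.two' ht).map (fZ G))
    have hw := fZ_eq.1 e
    have sT : s ∈ T := by simpa using mul_mem ht (inv_mem (ZT hw))
    have e1 : u * s⁻¹ * u⁻¹ = u * t⁻¹ * u⁻¹ * (s⁻¹ * t) := by
      calc _ = u * t⁻¹ * (t * s⁻¹ * t * t⁻¹) * u⁻¹ := by group
        _ = _ := by
          rw [mul_assoc t s⁻¹, mem_center_iff.1 hw t, mul_inv_cancel_right, mul_assoc,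
            ← mem_center_iff.1 hw u⁻¹, ← mul_assoc]
    have e2 : s * (u * s⁻¹ * u⁻¹) = t * (u * t⁻¹ * u⁻¹) := by
      rw [e1, mem_center_iff.1 hw]
      group
    exact ⟨mul_mem ht hu, e2 ▸ m.mul T m.two' _ sT _ (e1 ▸ mul_mem hu (ZT hw)) sE
      (m.conj _ (m.inv sE) u)⟩
  obtain ⟨g, -, e⟩ := conj_into m.syl (mem_top x) h1
  exact h2 ((m.conj_iff g).1 (this e).2)

end Cx

theorem qs_step (ih : IH G) : QS G := fun E h r => by
  by_cases t : LL E ⊤ = ⊤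
  swap
  · simpa only [SF.LL_LL] using ih.sub h r t
  intro x _ hx
  by_contra hn
  obtain ⟨T, hT⟩ := exists_isSylowOf 2 (⊤ : Subgroup G)
  by_cases o1 : Oo (⊤ : Subgroup G) = ⊥
  swap
  · have : (Oo (⊤ : Subgroup G)).Normal :=
      H7.normal_of_top_le_normalizer (le_normalizer.trans (nOo ⊤))
    have k : ∀ w ∈ T, QuotientGroup.mk' (Oo ⊤) w = 1 → w = 1 := fun w hw e =>
      (P2.of_mem hT.isPGroup hw).eq_one (odd_ord (odd_Oo _) ((QuotientGroup.eq_one_iff w).1 e))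
    refine hn (ih.quot h t o1 (fun w hw w2 => w2.eq_one (odd_ord (odd_Oo _) hw) ▸ h.one)
      (h.r1_map (QuotientGroup.mk'_surjective _) hT fun a ha b hb aE bE ai bi e => ?_) hx)
    have i : ∀ w ∈ T, Inv (QuotientGroup.mk' (Oo ⊤) w) → Inv w := fun w hw wi =>
      ⟨fun e => wi.1 (by rw [e, map_one]), k _ (mul_mem hw hw) (by rw [map_mul, wi.2])⟩
    rw [r a aE b bE (i a ha ai) (i b hb bi) (mul_inv_eq_one.1 (k _
      (mul_mem (mul_mem ha hb) (inv_mem (mul_mem hb ha))) (by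
        rw [map_mul, map_inv, map_mul, map_mul, e, mul_inv_cancel])))]
  obtain ⟨d, dE, d1⟩ : ∃ d ∈ E, d ≠ 1 := by
    by_contra! k
    have : LL E ⊤ ≤ ⊥ := SF.LL_le_iff.2 fun a aE _ => k a aE
    exact hn (mem_bot.1 (this (t.ge (mem_top x))) ▸ h.one)
  obtain ⟨n, zi⟩ := (h.two d dE).exists_inv d1
  have zE := h.pow dE n
  generalize d ^ n = z at zi zE
  have zc : ∀ g, g * z = z * g := fun g => by
    have := zst' (mem_top z) zi fun g _ e => (r z zE _ (h.conj z zE g) zi (zi.conj g) e).symm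
    rw [o1, le_bot_iff, BS.Cm_eq_bot_iff] at this
    exact c1.1 (this (mem_top g))
  have nc : ∀ w, ¬ h.sub hT.isPGroup ≤ zpowers w := fun w e =>
    hn (ih.q1 h t hT (fun g _ => mzp (c1.2 (zc g))) (by rw [Ne, zpowers_eq_bot]; exact zi.1)
      (fun v hv _ => h.zp zE hv)
      (y := w) (fun s hs sE => ⟨s, e ⟨hs, sE⟩, by simp⟩) hx)
  obtain ⟨a, ha, az, ac, a2⟩ := H7.exists_central_mod hT.isPGroup (h.sub_le _)
    (le_normalizer.trans (h.nor_sub _)) (nc z)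
  have uq : ∀ u ∈ E, Inv u → u = z := fun u uE ui => r u uE z zE ui zi (zc u)
  obtain ⟨y, hy, ya⟩ : ∃ y ∈ h.sub hT.isPGroup, y ∉ Cen1 a := by
    by_contra! k
    obtain ⟨w, e⟩ := rk1_cyc (h.sub_two hT.isPGroup)
      (fun u hu v hv ui vi => (uq u hu.2 ui).trans (uq v hv.2 vi).symm) ha k fun e => az (by
        by_cases a1 : a = 1
        · exact a1 ▸ one_mem _
        · exact uq a ha.2 ⟨a1, e⟩ ▸ mem_zpowers _)
    exact nc w e.le
  exact Cx.elim ⟨h, ih, r, t, hT, o1, zE, zi, zc, ha.1, ha.2, az, ac, a2, hy.1, hy.2, ya, x, hx, hn⟩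

theorem qs_all (n : ℕ) : ∀ (X : Type u) [Group X] [Finite X], Nat.card X < n → QS X := by
  induction n with
  | zero => exact fun _ _ _ h => absurd h (Nat.not_lt_zero _)
  | succ n ih => exact fun X _ _ h => qs_step fun Y _ _ e => ih Y (by omega)

/-- a strongly closed set of rank one contains the `2`-elements of its closure -/
theorem qsc (h : SCl E) (r : R1 E) : Pur E (LL E ⊤) := qs_all _ G (Nat.lt_succ_self _) E h r

end H8.Sq
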