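import Cfsg.Agent.BS.SzM
import Cfsg.Agent.BS.PSU3

/-! The rank one structure of the Suzuki groups; divisors of the orders of `Sz(q)`, `PSU₃(q)`. -/

set_option autoImplicit false

namespace H8
open Subgroup Cfsg Cfsg.Lie Matrix BS

theorem split_index {G : Type*} [Group G] (S : Split G) [Finite S.Q] :
    S.H.index = Nat.card S.Q + 1 := by
  rw [Subgroup.index, ← Nat.card_congr S.ptEquiv, Finite.card_option]

variable {F : Type*} [Field F]

theorem exists_tits [Fintype F] [CharP F 2] {m : ℕ} (hF : Fintype.card F = 2 ^ (2 * m + 1)) :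
    ∃ T : Tits F, ∀ x, T.θ x = x ^ 2 ^ (m + 1) := by
  haveI : ExpChar F 2 := ExpChar.prime Nat.prime_two
  refine ⟨⟨iterateFrobeniusEquiv F 2 (m + 1), fun y => ?_⟩, fun x => rfl⟩
  rw [iterateFrobeniusEquiv_def, iterateFrobeniusEquiv_def, ← pow_mul, ← pow_add,
    show m + 1 + (m + 1) = (2 * m + 1) + 1 by ring, pow_succ, pow_mul, ← hF, FiniteField.pow_card]

variable [CharP F 2] (T : Tits F)

theorem sig_mul [Finite F] {g h : GL (Fin 4) F} (hg : g ∈ T.Sig) (hh : h ∈ T.Sig) :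
    g * h ∈ T.Sig := by
  let M : Subgroup (GL (Fin 4) F) :=
    { carrier := {g | ∀ h ∈ T.Sig, g * h ∈ T.Sig}
      one_mem' := fun h hh => by rwa [one_mul]
      mul_mem' := fun {a b} ha hb h hh => by rw [mul_assoc]; exact ha _ (hb h hh)
      inv_mem' := fun {a} ha h hh => by
        have key : ∀ n : ℕ, a ^ n * h ∈ T.Sig := fun n => by
          induction n with
          | zero => simpa using hh
          | succ n ih => rw [pow_succ', mul_assoc]; exact ha _ ih
        have h1 : a⁻¹ = a ^ (orderOf a - 1) := by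
          rw [inv_eq_iff_mul_eq_one, ← pow_succ', Nat.sub_add_cancel (orderOf_pos a),
            pow_orderOf_eq_one]
        rw [h1]; exact key _ }
  exact T.Sig_le (M := M) (fun a b h hh => T.S_mul_mem a b hh) (fun e h hh => T.D_mul_mem e hh)
    (fun h hh => T.τ_mul_mem hh) hg h hh

theorem mem_Sz_iff [Finite F] {e : ℕ} (he : ∀ x, T.θ x = x ^ e) {g : GL (Fin 4) F} :
    g ∈ Sz F e ↔ g ∈ T.Sig := by
  have h0 : (⇑T.θ : F → F) = fun x => x ^ e := funext he
  have h1 : Sz F e = closure T.Sig := by unfold Sz Tits.Sig; rw [h0]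
  rw [h1]
  refine ⟨fun h => ?_, fun h => subset_closure h⟩
  have h2 : (1 : GL (Fin 4) F) ∈ T.Sig := T.S_zero ▸ T.S_mem 0 0
  induction h using closure_induction with
  | mem x hx => exact hx
  | one => exact h2
  | mul x y _ _ hx hy => exact sig_mul T hx hy
  | inv x _ hx =>
    have key : ∀ n : ℕ, x ^ n ∈ T.Sig := fun n => by
      induction n with
      | zero => simpa using h2
      | succ n ih => rw [pow_succ']; exact sig_mul T hx ih
    have h1 : x⁻¹ = x ^ (orderOf x - 1) := by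
      rw [inv_eq_iff_mul_eq_one, ← pow_succ', Nat.sub_add_cancel (orderOf_pos x),
        pow_orderOf_eq_one]
    rw [h1]; exact key _

/-- the rank one structure of the Suzuki group -/
def szSplit [Finite F] {e : ℕ} (he : ∀ x, T.θ x = x ^ e) : Split (Sz F e) where
  H :=
    { carrier := {g | g.1 0 3 = 0}
      one_mem' := by simp
      mul_mem' := fun {g h} hg hh => by
        obtain ⟨h1, h2, -⟩ := T.tri ((mem_Sz_iff T he).mp h.2) hh
        have hg' : g.1 0 3 = 0 := hg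
        have hh' : h.1 0 3 = 0 := hh
        simp [mul_apply, Fin.sum_univ_four, h1, h2, hg', hh']
      inv_mem' := fun {g} hg => by
        obtain ⟨h1, h2, -, -, -, h3, -⟩ := T.tri ((mem_Sz_iff T he).mp g.2) hg
        have hg' : g.1 0 3 = 0 := hg
        have h4 := congrFun (congrFun (g.1.inv_mul) 0) 3
        simp only [mul_apply, Fin.sum_univ_four, h1, h2, hg', mul_zero, zero_add] at h4
        have h5 : (g.1⁻¹ : GL (Fin 4) F) 0 3 * g.1 3 3 = 0 := by simpa using h4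
        exact (mul_eq_zero.mp h5).resolve_right (right_ne_zero_of_mul_eq_one h3) }
  Q :=
    { carrier := {g | ∃ a b, g.1 = T.S a b}
      one_mem' := ⟨0, 0, T.S_zero.symm⟩
      mul_mem' := by
        rintro g h ⟨a, b, h1⟩ ⟨c, d, h2⟩
        exact ⟨_, _, by rw [Subgroup.coe_mul, h1, h2, T.S_mul]⟩
      inv_mem' := by
        rintro g ⟨a, b, h1⟩
        exact ⟨a, b + T.θ a * a, by rw [Subgroup.coe_inv, h1]; exact Units.ext rfl⟩ }
  t := ⟨Tits.τ F, (mem_Sz_iff T he).mpr T.τ_mem⟩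
  t_sq := Subtype.ext Tits.τ_sq
  t_nmem := by
    intro h
    have : (Tits.τ F) 0 3 = 0 := h
    simp [Tits.τ, Tits.mτ] at this
  Q_le := by
    rintro g ⟨a, b, h⟩
    show g.1 0 3 = 0
    rw [h]; simp [Tits.S, Tits.mS]
  cover := by
    intro g h0
    replace h0 : g.1 0 3 ≠ 0 := h0
    have hg := (mem_Sz_iff T he).mp g.2
    set a := g.1 1 3 / g.1 0 3
    set b := (T.θ (g.1 1 3 / g.1 0 3) * g.1 1 3 + g.1 2 3) / g.1 0 3
    set h := T.S a b * g.1 with hh
    have hm : h ∈ T.Sig := T.S_mul_mem _ _ hg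
    have h1 : h 0 3 = g.1 0 3 := by simp [hh, Tits.S, Tits.mS, mul_apply, Fin.sum_univ_four]
    have h2 : h 1 3 = 0 := by
      simp [hh, a, Tits.S, Tits.mS, mul_apply, Fin.sum_univ_four, h0, CharTwo.add_self_eq_zero]
    have h3 : h 2 3 = 0 := by
      simp only [hh, a, b, Tits.S, Tits.mS, Units.val_mul, mul_apply, Fin.sum_univ_four]
      simp [h0]; grind
    have f := fun i j => congrFun (congrFun hm.2 i) j
    have f1 := f 1 3; have f3 := f 3 3
    simp [star4, pairOf, h1, h2, h3, h0] at f1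
    simp [star4, pairOf, h3, f1, eq_comm (a := (0 : F))] at f3
    refine ⟨⟨(T.S a b)⁻¹, inv_mem ((mem_Sz_iff T he).mpr (T.S_mem a b))⟩,
      ⟨a, b + T.θ a * a, Units.ext rfl⟩, ?_⟩
    have e1 : ((T.S a b)⁻¹ * Tits.τ F)⁻¹ * g.1 = Tits.τ F * h := by
      rw [_root_.mul_inv_rev, inv_inv, inv_eq_of_mul_eq_one_right Tits.τ_sq, hh, mul_assoc]
    show (((T.S a b)⁻¹ * Tits.τ F)⁻¹ * g.1) 0 3 = 0
    rw [e1]
    simp [Tits.τ, Tits.mτ, mul_apply, Fin.sum_univ_four, f3]
  uniq := by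
    rintro x ⟨a, b, h⟩ h0
    have h1 := T.tri ((mem_Sz_iff T he).mp (Subtype.prop _)) h0
    have h2 := h1.1
    have h3 := h1.2.1
    simp [h, Tits.τ, Tits.mτ, Tits.S, Tits.mS, mul_apply, Fin.sum_univ_four] at h2 h3
    apply Subtype.ext
    rw [h, h2, h3, T.S_zero]; rfl

theorem card_szQ [Finite F] {e : ℕ} (he : ∀ x, T.θ x = x ^ e) :
    Nat.card (szSplit T he).Q = Nat.card F ^ 2 := by
  rw [pow_two, ← Nat.card_prod]
  symm
  refine Nat.card_congr (Equiv.ofBijective (fun p : F × F =>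
    (⟨⟨T.S p.1 p.2, (mem_Sz_iff T he).mpr (T.S_mem _ _)⟩, p.1, p.2, rfl⟩ : (szSplit T he).Q))
    ⟨fun p q h => ?_, ?_⟩)
  · have h1 : T.mS p.1 p.2 = T.mS q.1 q.2 := congrArg (fun x : (szSplit T he).Q => x.1.1.1) h
    have h2 := congrFun (congrFun h1 1) 0
    have h3 := congrFun (congrFun h1 2) 0
    simp [Tits.mS] at h2 h3
    exact Prod.ext h2 h3
  · rintro ⟨x, a, b, h⟩
    exact ⟨(a, b), Subtype.ext (Subtype.ext h.symm)⟩

omit [CharP F 2] in
theorem dvd_card_Sz [Fintype F] {m : ℕ} (hF : Fintype.card F = 2 ^ (2 * m + 1)) :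
    (2 ^ (2 * m + 1)) ^ 2 + 1 ∣ Nat.card (Sz F (2 ^ (m + 1))) := by
  haveI := H2.charP_two_of (H2.two_eq_zero_of_card hF)
  obtain ⟨T, hT⟩ := exists_tits hF
  have h1 := split_index (szSplit T hT)
  rw [card_szQ, Nat.card_eq_fintype_card, hF] at h1
  rw [← h1]
  exact index_dvd_card _

omit [CharP F 2] in
theorem dvd_card_PSU3 [Fintype F] {n : ℕ} (hn : 1 ≤ n) (hF : Fintype.card F = 4 ^ n) :
    ∃ k, 2 * n ≤ k ∧ 2 ^ k + 1 ∣ Nat.card (PSU 3 F (2 ^ n)) := by
  haveI : Fact (Nat.Prime 2) := ⟨Nat.prime_two⟩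
  obtain ⟨H, hH⟩ := H2.exists_herm hn hF
  obtain ⟨k, hk⟩ := IsPGroup.iff_card.mp (H2.U3.isPGroup (H := H))
  have h1 := split_index (SU3.split hH)
  have h2 : Nat.card (SU3.split hH).Q = 2 ^ k := by
    rw [← hk]; exact (Nat.card_congr (MonoidHom.ofInjective (H2.U3.toSU_injective hH)).toEquiv).symm
  refine ⟨k, ?_, ?_⟩
  · have h3 := Nat.card_le_card_of_injective (H2.U3.sec H) fun a b h => by
      simpa using congrArg H2.U3.a h
    rw [hk, Nat.card_eq_fintype_card, hF, show 4 = 2 ^ 2 by norm_num, ← pow_mul] at h3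
    exact (Nat.pow_le_pow_iff_right (by norm_num)).mp h3
  · rw [← h2, ← h1]
    apply index_dvd_of_le
    rw [← SU3.core_Bor hH]
    exact normalCore_le _

end H8
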