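import Mathlib

/-! A verified checker for coset enumeration certificates. -/

set_option autoImplicit false

namespace H8.TC

/-- search trees of packed numbers (two stamp fields keep the kernel's hashes apart) -/
inductive Tr where
  | leaf : ℕ → ℕ → ℕ → ℕ → Tr
  | node : ℕ → Tr → Tr → Tr

/-- state: next free coset and table -/
inductive St where
  | mk : ℕ → Tr → St

def force {α : Type} (n : ℕ) (f : ℕ → α) : α := Nat.rec (f n) (fun m _ => f m) (Nat.succ n)

theorem force_eq {α : Type} (n : ℕ) (f : ℕ → α) : force n f = f n := rfl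

noncomputable def forceT {α : Type} (t : Tr) (f : Tr → α) : α :=
  Tr.rec (fun b s u n => f (.leaf b s u n)) (fun m l r _ _ => f (.node m l r)) t

theorem forceT_eq {α : Type} (t : Tr) (f : Tr → α) : forceT t f = f t := by cases t <;> rfl

def fld (n p : ℕ) : ℕ := Nat.mod (Nat.shiftRight n (Nat.mul (nat_lit 16) p)) (nat_lit 65536)

theorem fld_def (n p : ℕ) : fld n p = (n >>> (16 * p)) % 65536 := rfl

noncomputable def get (t : Tr) (p : ℕ) : ℕ :=
  Tr.rec (fun b _ _ n => Bool.rec (nat_lit 0) (fld n (Nat.sub p b)) (Nat.ble b p))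
    (fun m _ _ x y => Bool.rec x y (Nat.ble m p)) t

noncomputable def set (t : Tr) (p v : ℕ) : Tr :=
  Tr.rec (motive := fun _ => (Tr → Tr) → Tr) (fun b s u n k => Bool.rec (k (.leaf b s u n))
      (force (Nat.xor n (Nat.shiftLeft (Nat.xor (fld n (Nat.sub p b)) v)
        (Nat.mul (nat_lit 16) (Nat.sub p b)))) fun n' => k (.leaf b p v n')) (Nat.ble b p))
    (fun m l r x y k => Bool.rec (x fun l' => k (.node m l' r)) (y fun r' => k (.node m l r'))
      (Nat.ble m p)) t (fun t' => t')

/-- specification of `set` -/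
def set' (p v : ℕ) : Tr → Tr
  | .leaf b s u n => cond (Nat.ble b p)
      (.leaf b p v (n ^^^ ((fld n (p - b) ^^^ v) <<< (16 * (p - b))))) (.leaf b s u n)
  | .node m l r => cond (Nat.ble m p) (.node m l (set' p v r)) (.node m (set' p v l) r)

theorem set_eq (t : Tr) (p v : ℕ) : set t p v = set' p v t := by
  have : ∀ k : Tr → Tr, Tr.rec (motive := fun _ => (Tr → Tr) → Tr)
      (fun b s u n k => Bool.rec (k (.leaf b s u n))
      (force (Nat.xor n (Nat.shiftLeft (Nat.xor (fld n (Nat.sub p b)) v)
        (Nat.mul (nat_lit 16) (Nat.sub p b)))) fun n' => k (.leaf b p v n')) (Nat.ble b p))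
    (fun m l r x y k => Bool.rec (x fun l' => k (.node m l' r)) (y fun r' => k (.node m l r'))
      (Nat.ble m p)) t k = k (set' p v t) := by
    induction t with
    | leaf b s u n => intro k; simp only [set']; cases Nat.ble b p <;> rfl
    | node m l r ihl ihr =>
      intro k; simp only [set']
      cases Nat.ble m p
      · exact ihl _
      · exact ihr _
  exact this _

theorem fld_lt (n p : ℕ) : fld n p < 2 ^ 16 := Nat.mod_lt _ (by norm_num)

theorem testBit_fld (n p t : ℕ) : (fld n p).testBit t = (decide (t < 16) && n.testBit (16 * p + t)) := by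
  rw [fld_def, show 65536 = 2 ^ 16 by norm_num, Nat.testBit_mod_two_pow, Nat.testBit_shiftRight]

theorem fld_set (n p q v : ℕ) (hv : v < 2 ^ 16) :
    fld (n ^^^ ((fld n p ^^^ v) <<< (16 * p))) q = if q = p then v else fld n q := by
  apply Nat.eq_of_testBit_eq
  intro t
  rw [testBit_fld, Nat.testBit_xor, Nat.testBit_shiftLeft, Nat.testBit_xor]
  by_cases ht : t < 16
  · split_ifs with h
    · subst h
      simp [testBit_fld, ht]
    · rw [testBit_fld n q]
      by_cases h2 : 16 * q + t ≥ 16 * p
      · have h3 : 2 ^ 16 ≤ 2 ^ (16 * q + t - 16 * p) := Nat.pow_le_pow_right (by norm_num) (by omega)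
        rw [Nat.testBit_lt_two_pow ((fld_lt n p).trans_le h3),
          Nat.testBit_lt_two_pow (hv.trans_le h3)]
        simp
      · simp [h2]
  · have h3 : 2 ^ 16 ≤ 2 ^ t := Nat.pow_le_pow_right (by norm_num) (by omega)
    split_ifs with h
    · simp [ht, Nat.testBit_lt_two_pow (hv.trans_le h3)]
    · simp [ht, Nat.testBit_lt_two_pow ((fld_lt n q).trans_le h3)]

theorem get_leaf (b s u n p : ℕ) :
    get (.leaf b s u n) p = cond (Nat.ble b p) (fld n (p - b)) 0 := by
  show (Bool.rec _ _ (Nat.ble b p) : ℕ) = _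
  cases Nat.ble b p <;> rfl

theorem get_node (m : ℕ) (l r : Tr) (p : ℕ) :
    get (.node m l r) p = cond (Nat.ble m p) (get r p) (get l p) := by
  show (Bool.rec _ _ (Nat.ble m p) : ℕ) = _
  cases Nat.ble m p <;> rfl

theorem get_set (t : Tr) (p q v : ℕ) (hv : v < 2 ^ 16) :
    get (set t p v) q = get t q ∨ (q = p ∧ get (set t p v) q = v) := by
  rw [set_eq]
  induction t with
  | leaf b s u n =>
    rw [set']
    cases h : Nat.ble b p
    · exact Or.inl rfl
    · simp only [cond_true, get_leaf, fld_set _ _ _ _ hv]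
      cases h' : Nat.ble b q
      · exact Or.inl rfl
      · rw [Nat.ble_eq] at h h'
        simp only [cond_true]
        split_ifs with h2
        · exact Or.inr ⟨by omega, rfl⟩
        · exact Or.inl rfl
  | node m l r ihl ihr =>
    rw [set']
    cases h : Nat.ble m p <;> simp only [cond_true, cond_false, get_node] <;>
      cases h' : Nat.ble m q <;> simp only [cond_true, cond_false]
    · exact ihl
    · exact Or.inl trivial
    · exact Or.inl trivial
    · exact ihr

/-- the empty table -/
noncomputable def mk (d : ℕ) : ℕ → Tr :=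
  Nat.rec (fun b => .leaf b 0 0 0) (fun e ih b => force (b + 512 * 2 ^ e) fun m =>
    forceT (ih b) fun l => forceT (ih m) fun r => .node m l r) d

theorem get_mk (d b p : ℕ) : get (mk d b) p = 0 := by
  induction d generalizing b with
  | zero =>
    show get (.leaf b 0 0 0) p = 0
    rw [get_leaf]
    cases Nat.ble b p <;> simp [fld_def]
  | succ e ih =>
    have : mk (e + 1) b = force (b + 512 * 2 ^ e) fun m =>
      forceT (mk e b) fun l => forceT (mk e m) fun r => .node m l r := rfl
    rw [this, force_eq, forceT_eq, forceT_eq, get_node, ih, ih]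
    cases Nat.ble _ p <;> rfl

def dig (w k : ℕ) : ℕ := Nat.mod (Nat.shiftRight w (Nat.mul (nat_lit 4) k)) (nat_lit 16)

theorem dig_def (w k : ℕ) : dig w k = (w >>> (4 * k)) % 16 := rfl

theorem dig_lt (w k : ℕ) : dig w k < 16 := Nat.mod_lt _ (by norm_num)

noncomputable def scan (t : Tr) (w k i : ℕ) : ℕ :=
  Nat.rec i (fun s acc => force (Nat.add (Nat.mul (nat_lit 16) acc) (dig w s)) (get t)) k

/-- parameters: words, inverse words, lengths, inverse letters -/
structure Par where
  rw : ℕ
  ri : ℕ
  rl : ℕ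
  iv : ℕ

noncomputable def put (P : Par) (t : Tr) (a l b : ℕ) : Tr :=
  force (16 * a + l) fun p => force (16 * b + dig P.iv l) fun q =>
    forceT (set t p b) fun t' => set t' q a

noncomputable def step (P : Par) (n : ℕ) (t : Tr) (c : ℕ) : St :=
  force (c % 4) fun m => force (c / 4 % 64) fun k => force (c / 256 % 64) fun r =>
  force (c / 16384) fun i =>
  cond (Nat.beq m 3)
    (cond (Nat.ble 1 i && Nat.blt i n && Nat.blt n 65536)
      (forceT (put P t i (r % 16) n) fun t' => force (16 * n + 14) fun p =>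
        forceT (set t' p n) fun t'' => force (n + 1) fun n' => .mk n' t'') (.mk n t))
    (force ((P.rw >>> (256 * r)) % 2 ^ 256) fun w => force ((P.ri >>> (256 * r)) % 2 ^ 256) fun w' =>
      force ((P.rl >>> (8 * r)) % 256) fun len => force (cond (Nat.beq m 0) (k + 1) k) fun k' =>
      force (scan t w k i) fun a => force (scan t w' (len - k') i) fun b =>
      cond (Nat.ble k' len && Nat.ble 1 a && Nat.ble 1 b && Nat.blt i n && Nat.ble n 65536)
        (force (cond (Nat.beq m 0) (dig w k) (13 + m)) fun l =>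
          forceT (put P t a l b) fun t' => .mk n t') (.mk n t))

noncomputable def chunk (P : Par) (s : St) (c : ℕ) : St :=
  Nat.rec s (fun j acc => St.rec (fun n t => force ((c >>> (32 * j)) % 4294967296) (step P n t))
    acc) 16

noncomputable def run1 (P : Par) (l : List ℕ) : St → St :=
  List.rec (fun s => s) (fun c _ ih s => St.rec (fun n t => ih (.mk n t)) (chunk P s c)) l

noncomputable def run (P : Par) (l : List (List ℕ)) : St → St :=
  List.rec (fun s => s) (fun c _ ih s => St.rec (fun n t => ih (.mk n t)) (run1 P c s)) l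

noncomputable def start (d : ℕ) (hl : List ℕ) : St :=
  forceT (List.rec (mk d 0) (fun l _ ih => forceT ih fun t => set t (16 + l % 16) 1) hl)
    fun t => .mk 2 t

variable {Γ : Type*} [Group Γ]

def pw (g : ℕ → Γ) (w : ℕ) : ℕ → Γ
  | 0 => 1
  | k + 1 => pw g w k * g (dig w k)

/-- the parameters are correct -/
structure Ok (P : Par) (g : ℕ → Γ) : Prop where
  iv : ∀ l < 16, g (dig P.iv l) = (g l)⁻¹
  e1 : g 14 = 1
  e2 : g 15 = 1
  rel : ∀ r < 64, ∀ k ≤ (P.rl >>> (8 * r)) % 256, pw g ((P.rw >>> (256 * r)) % 2 ^ 256) k =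
    pw g ((P.ri >>> (256 * r)) % 2 ^ 256) ((P.rl >>> (8 * r)) % 256 - k)

def Fact' (g : ℕ → Γ) (H : Subgroup Γ) (c : ℕ → Γ) (n i l j : ℕ) : Prop :=
  0 < i ∧ i < n ∧ j < n ∧ c i * g l * (c j)⁻¹ ∈ H

def InvT (g : ℕ → Γ) (H : Subgroup Γ) (c : ℕ → Γ) (n : ℕ) (t : Tr) : Prop :=
  ∀ i l, l < 16 → get t (16 * i + l) ≠ 0 → Fact' g H c n i l (get t (16 * i + l))

def Inv (g : ℕ → Γ) (H : Subgroup Γ) : St → Prop
  | .mk n t => 2 ≤ n ∧ ∃ c : ℕ → Γ, c 1 = 1 ∧ InvT g H c n t

variable {P : Par} {g : ℕ → Γ} {H : Subgroup Γ} {c : ℕ → Γ} {n : ℕ} {t : Tr}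

theorem InvT.set (h : InvT g H c n t) {a l b : ℕ} (hl : l < 16) (hb : b < 2 ^ 16)
    (hf : Fact' g H c n a l b) : InvT g H c n (set t (16 * a + l) b) := by
  intro i k hk h0
  rcases get_set t (16 * a + l) (16 * i + k) b hb with e | ⟨e1, e2⟩
  · rw [e] at h0 ⊢; exact h i k hk h0
  · obtain rfl : i = a := by omega
    obtain rfl : k = l := by omega
    rw [e2]; exact hf

theorem InvT.put (hP : Ok P g) (h : InvT g H c n t) {a l b : ℕ} (hl : l < 16) (hn : n ≤ 2 ^ 16)
    (hb : 0 < b) (hf : Fact' g H c n a l b) : InvT g H c n (put P t a l b) := by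
  rw [TC.put, force_eq, force_eq, forceT_eq]
  refine (h.set hl (hf.2.2.1.trans_le hn) hf).set (dig_lt _ _) (hf.2.1.trans_le hn)
    ⟨hb, hf.2.2.1, hf.2.1, ?_⟩
  rw [hP.iv l hl]
  have := H.inv_mem hf.2.2.2
  rwa [show (c a * g l * (c b)⁻¹)⁻¹ = c b * (g l)⁻¹ * (c a)⁻¹ by group] at this

theorem InvT.scan (h : InvT g H c n t) (w k : ℕ) {i : ℕ} (hi : i < n) (h0 : scan t w k i ≠ 0) :
    scan t w k i < n ∧ c i * pw g w k * (c (scan t w k i))⁻¹ ∈ H := by
  induction k with
  | zero => exact ⟨hi, by simp [pw, TC.scan]⟩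
  | succ k ih =>
    have e : TC.scan t w (k + 1) i = get t (16 * TC.scan t w k i + dig w k) := force_eq _ _
    rw [e] at h0 ⊢
    obtain ⟨f1, -, f3, f4⟩ := h _ _ (dig_lt w k) h0
    refine ⟨f3, ?_⟩
    have := H.mul_mem (ih f1.ne').2 f4
    rwa [show ∀ a b x y z : Γ, a * b * x⁻¹ * (x * y * z) = a * (b * y) * z by intros; group] at this

theorem Inv.step (hP : Ok P g) (h : Inv g H (.mk n t)) (s : ℕ) : Inv g H (step P n t s) := by
  obtain ⟨h2, c, c1, h⟩ := h
  simp only [TC.step, force_eq, forceT_eq]
  have hm : s % 4 < 4 := Nat.mod_lt _ (by norm_num)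
  have hr : s / 256 % 64 < 64 := Nat.mod_lt _ (by norm_num)
  generalize s % 4 = m at *
  generalize s / 4 % 64 = k at *
  generalize s / 256 % 64 = r at *
  generalize s / 16384 = i at *
  cases e : Nat.beq m 3
  · simp only [cond_false]
    have rel := hP.rel r hr
    generalize (P.rw >>> (256 * r)) % 2 ^ 256 = w at *
    generalize (P.ri >>> (256 * r)) % 2 ^ 256 = w' at *
    generalize (P.rl >>> (8 * r)) % 256 = len at *
    generalize hk' : cond (Nat.beq m 0) (k + 1) k = k'
    cases e' : (Nat.ble k' len && Nat.ble 1 (scan t w k i) && Nat.ble 1 (scan t w' (len - k') i) &&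
      Nat.blt i n && Nat.ble n 65536)
    · exact ⟨h2, c, c1, h⟩
    simp only [Bool.and_eq_true, Nat.ble_eq, Nat.blt_eq] at e'
    obtain ⟨⟨⟨⟨a1, a2⟩, a3⟩, a4⟩, a5⟩ := e'
    obtain ⟨b1, b2⟩ := h.scan w k a4 (by omega)
    obtain ⟨b3, b4⟩ := h.scan w' (len - k') a4 (by omega)
    rw [← rel k' a1] at b4
    have b5 := H.mul_mem (H.inv_mem b2) b4
    have hm3 : m ≠ 3 := fun c => by rw [c] at e; exact absurd e (by decide)
    refine ⟨h2, c, c1, h.put hP ?_ a5 a3 ⟨a2, b1, b3, ?_⟩⟩
    · cases Nat.beq m 0
      · simp only [cond_false]; omega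
      · exact dig_lt _ _
    · cases e0 : Nat.beq m 0
      · rw [e0, cond_false] at hk'
        have : g (13 + m) = 1 := by
          have : m ≠ 0 := fun c => by rw [c] at e0; exact absurd e0 (by decide)
          obtain rfl | rfl : m = 1 ∨ m = 2 := by omega
          exacts [hP.e1, hP.e2]
        rw [cond_false, this]
        convert b5 using 1
        rw [← hk']; group
      · rw [e0, cond_true] at hk'
        rw [cond_true]
        convert b5 using 1
        rw [← hk', pw]; group
  · simp only [cond_true]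
    cases e' : (Nat.ble 1 i && Nat.blt i n && Nat.blt n 65536)
    · exact ⟨h2, c, c1, h⟩
    simp only [Bool.and_eq_true, Nat.ble_eq, Nat.blt_eq] at e'
    obtain ⟨⟨a1, a2⟩, a3⟩ := e'
    let c' := Function.update c n (c i * g (r % 16))
    have u1 : ∀ j < n, c' j = c j := fun j hj => Function.update_of_ne hj.ne _ _
    have u2 : c' n = c i * g (r % 16) := Function.update_self ..
    have h' : InvT g H c' (n + 1) t := fun j l hl h0 => by
      obtain ⟨f1, f2, f3, f4⟩ := h j l hl h0
      exact ⟨f1, by omega, by omega, by rwa [u1 _ f2, u1 _ f3]⟩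
    refine ⟨by omega, c', by rw [u1 1 (by omega), c1], (h'.put hP (Nat.mod_lt _ (by norm_num))
      a3 (by omega) ⟨a1, by omega, by omega, ?_⟩).set (by norm_num) a3
      ⟨by omega, by omega, by omega, ?_⟩⟩
    · rw [u1 i a2, u2]; simp
    · rw [hP.e1]; simp

theorem Inv.chunk (hP : Ok P g) {s : St} (h : Inv g H s) (x : ℕ) : Inv g H (chunk P s x) := by
  rw [TC.chunk]
  generalize 16 = k
  induction k with
  | zero => exact h
  | succ k ih =>
    have key : ∀ s' : St, Inv g H s' → Inv g H (St.rec (fun n t =>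
        force ((x >>> (32 * k)) % 4294967296) (TC.step P n t)) s') := fun s' h' => by
      obtain ⟨n, t⟩ := s'
      simp only [force_eq]
      exact h'.step hP _
    exact key _ ih

theorem Inv.run1 (hP : Ok P g) (l : List ℕ) {s : St} (h : Inv g H s) : Inv g H (run1 P l s) := by
  induction l generalizing s with
  | nil => exact h
  | cons x l ih =>
    have := h.chunk hP x
    show Inv g H (St.rec (fun n t => TC.run1 P l (.mk n t)) (TC.chunk P s x))
    generalize TC.chunk P s x = s' at this
    obtain ⟨n, t⟩ := s'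
    exact ih this

theorem Inv.run (hP : Ok P g) (l : List (List ℕ)) {s : St} (h : Inv g H s) :
    Inv g H (run P l s) := by
  induction l generalizing s with
  | nil => exact h
  | cons x l ih =>
    have := h.run1 hP x
    show Inv g H (St.rec (fun n t => TC.run P l (.mk n t)) (TC.run1 P x s))
    generalize TC.run1 P x s = s' at this
    obtain ⟨n, t⟩ := s'
    exact ih this

theorem inv_start (d : ℕ) {hl : List ℕ} (h : ∀ l ∈ hl, g (l % 16) ∈ H) : Inv g H (start d hl) := by
  rw [start, forceT_eq]
  refine ⟨le_rfl, fun _ => 1, rfl, ?_⟩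
  induction hl with
  | nil => exact fun i l _ h0 => absurd (get_mk d 0 _) h0
  | cons l hl ih =>
    have := InvT.set (a := 1) (l := l % 16) (b := 1)
      (ih fun x hx => h x (List.mem_cons_of_mem _ hx))
      (Nat.mod_lt _ (by norm_num)) (by norm_num)
      ⟨by norm_num, by norm_num, by norm_num, by simpa using h l (List.mem_cons_self ..)⟩
    rw [← forceT_eq _ (fun t => set t (16 * 1 + l % 16) 1)] at this
    exact this

/-- final test: the letter `l` lies in the subgroup -/
noncomputable def testMem (l : ℕ) (s : St) : Bool := St.rec (fun _ t => Nat.beq (get t (16 + l)) 1) s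

theorem Inv.mem {s : St} (h : Inv g H s) {l : ℕ} (hl : l < 16) (e : testMem l s = true) :
    g l ∈ H := by
  obtain ⟨n, t⟩ := s
  obtain ⟨-, c, c1, h⟩ := h
  have e' : get t (16 * 1 + l) = 1 := Nat.eq_of_beq_eq_true e
  have := (h 1 l hl (by rw [e']; norm_num)).2.2.2
  rw [e', c1] at this
  simpa using this

/-- final test: the cosets marked in `mask` are permuted by the letters -/
noncomputable def testClosed (N mask : ℕ) (gs : List ℕ) (s : St) : Bool :=
  St.rec (fun _ t => Nat.rec true (fun i acc => acc && Nat.rec true (fun j acc' => acc' &&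
    force (128 * i + j) fun p => !mask.testBit p || gs.all fun l =>
      force (16 * p + l % 16) fun q => force (get t q) fun v => Nat.ble 1 v && mask.testBit v) 128)
    N) s

theorem natRec_all {f : ℕ → Bool} {N : ℕ}
    (h : (Nat.rec true (fun i acc => acc && f i) N : Bool) = true) : ∀ i < N, f i = true := by
  induction N with
  | zero => simp
  | succ N ih =>
    have h' : ((Nat.rec true (fun i acc => acc && f i) N : Bool) && f N) = true := h
    rw [Bool.and_eq_true] at h'
    intro i hi
    rcases Nat.lt_succ_iff_lt_or_eq.1 hi with c | rfl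
    · exact ih h'.1 i c
    · exact h'.2

/-- number of marked cosets -/
def cnt (N mask : ℕ) : ℕ := Nat.rec 0 (fun i acc => force acc fun a => a +
  Nat.rec 0 (fun j acc' => force acc' fun b => b + (mask >>> (128 * i + j)) % 2) 128) N

theorem natRec_sum (f : ℕ → ℕ) (N : ℕ) :
    (Nat.rec 0 (fun i acc => force acc fun a => a + f i) N : ℕ) = ∑ i ∈ Finset.range N, f i := by
  induction N with
  | zero => rfl
  | succ N ih =>
    rw [Finset.sum_range_succ, ← ih]; exact force_eq _ _

theorem card_mask_aux (M N mask : ℕ) :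
    ((Finset.range (M * N)).filter fun p => mask.testBit p = true).card =
      ∑ i ∈ Finset.range N, ∑ j ∈ Finset.range M, (mask >>> (M * i + j)) % 2 := by
  induction N with
  | zero => simp
  | succ N ih =>
    rw [Finset.sum_range_succ, ← ih, Finset.card_filter, Finset.card_filter, Nat.mul_succ,
      Finset.sum_range_add]
    congr 1
    refine Finset.sum_congr rfl fun j _ => ?_
    rw [Nat.testBit_eq_decide_div_mod_eq, Nat.shiftRight_eq_div_pow]
    generalize mask / 2 ^ (M * N + j) = y
    split_ifs with h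
    · exact (of_decide_eq_true h).symm
    · have : ¬ y % 2 = 1 := fun c => h (decide_eq_true c)
      omega

theorem card_mask (N mask : ℕ) :
    ((Finset.range (128 * N)).filter fun p => mask.testBit p = true).card = cnt N mask := by
  rw [cnt, natRec_sum, card_mask_aux]
  simp only [natRec_sum]

theorem Inv.card [Finite Γ] {s : St} (h : Inv g H s) {N mask : ℕ} {gs : List ℕ}
    (e : testClosed N mask gs s = true) (h1 : mask.testBit 1 = true) (h2 : mask < 2 ^ (128 * N))
    {K : Subgroup Γ} (hK : ∀ A : Subgroup Γ, (∀ l ∈ gs, g (l % 16) ∈ A) → K ≤ A) :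
    Nat.card K ≤ cnt N mask * Nat.card H := by
  obtain ⟨n, t⟩ := s
  obtain ⟨-, c, c1, h⟩ := h
  have lt : ∀ p, mask.testBit p = true → p < 128 * N := fun p hp => by
    by_contra hc
    rw [Nat.testBit_lt_two_pow (h2.trans_le (Nat.pow_le_pow_right (by norm_num) (by omega)))] at hp
    exact absurd hp (by decide)
  let A : Subgroup Γ :=
    { carrier := {x | ∀ p, mask.testBit p = true → ∃ q, mask.testBit q = true ∧
        c p * x * (c q)⁻¹ ∈ H}
      one_mem' := fun p hp => ⟨p, hp, by simp⟩
      mul_mem' := fun {a b} ha hb p hp => by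
        obtain ⟨q, q1, q2⟩ := ha p hp
        obtain ⟨r, r1, r2⟩ := hb q q1
        refine ⟨r, r1, ?_⟩
        have := H.mul_mem q2 r2
        rwa [show c p * a * (c q)⁻¹ * (c q * b * (c r)⁻¹) = c p * (a * b) * (c r)⁻¹ by group] at this
      inv_mem' := fun {a} ha => by
        have : ∀ k : ℕ, ∀ p, mask.testBit p = true → ∃ q, mask.testBit q = true ∧
            c p * a ^ k * (c q)⁻¹ ∈ H := fun k => by
          induction k with
          | zero => exact fun p hp => ⟨p, hp, by simp⟩
          | succ k ih =>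
            intro p hp
            obtain ⟨q, q1, q2⟩ := ih p hp
            obtain ⟨r, r1, r2⟩ := ha q q1
            refine ⟨r, r1, ?_⟩
            have := H.mul_mem q2 r2
            rwa [show c p * a ^ k * (c q)⁻¹ * (c q * a * (c r)⁻¹) = c p * a ^ (k + 1) * (c r)⁻¹ by
              group] at this
        have e : a⁻¹ = a ^ (orderOf a - 1) := by
          rw [inv_eq_iff_mul_eq_one, ← pow_succ', Nat.sub_add_cancel (orderOf_pos a),
            pow_orderOf_eq_one]
        rw [e]
        exact this _ }
  have hA : K ≤ A := hK A fun l hl p hp => by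
    have p1 := lt p hp
    have a0 := natRec_all (f := fun i => (Nat.rec (motive := fun _ => Bool) true
      (fun j acc' => acc' && force (128 * i + j) fun p => !mask.testBit p || gs.all fun l =>
        force (16 * p + l % 16) fun q => force (get t q) fun v => Nat.ble 1 v && mask.testBit v)
          128)) (N := N) e (p / 128) (by omega)
    have a1 := natRec_all (f := fun j => force (128 * (p / 128) + j) fun p => !mask.testBit p ||
      gs.all fun l => force (16 * p + l % 16) fun q => force (get t q) fun v =>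
        Nat.ble 1 v && mask.testBit v) (N := 128) a0 (p % 128) (Nat.mod_lt _ (by norm_num))
    simp only [force_eq, Nat.div_add_mod, hp, Bool.not_true, Bool.false_or, List.all_eq_true,
      Bool.and_eq_true, Nat.ble_eq] at a1
    obtain ⟨a2, a3⟩ := a1 l hl
    exact ⟨_, a3, (h p _ (Nat.mod_lt _ (by norm_num)) (by omega)).2.2.2⟩
  choose f f1 f2 using fun x : K => hA x.2 1 h1
  rw [← card_mask, ← Nat.card_eq_finsetCard, ← Nat.card_prod]
  refine Nat.card_le_card_of_injective (fun x : K => ((⟨f x, by
    simp only [Finset.mem_filter, Finset.mem_range]; exact ⟨lt _ (f1 x), f1 x⟩⟩ :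
      ((Finset.range (128 * N)).filter fun p => mask.testBit p = true)), (⟨_, f2 x⟩ : H)))
    fun x y e => ?_
  obtain ⟨e1, e2⟩ := Prod.mk.inj e
  have e3 := Subtype.mk.inj e2
  rw [Subtype.mk.inj e1] at e3
  exact Subtype.ext (mul_left_cancel (mul_right_cancel e3))

/-- code of a word -/
def enc : List ℕ → ℕ
  | [] => 0
  | a :: l => a % 16 + 16 * enc l

theorem dig_enc_succ (a : ℕ) (l : List ℕ) (k : ℕ) : dig (enc (a :: l)) (k + 1) = dig (enc l) k := by
  rw [dig_def, dig_def, enc, Nat.shiftRight_eq_div_pow, Nat.shiftRight_eq_div_pow, Nat.mul_succ, pow_add,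
    mul_comm (2 ^ (4 * k)), ← Nat.div_div_eq_div_mul]
  congr 2
  omega

theorem pw_enc (l : List ℕ) (k : ℕ) (hk : k ≤ l.length) :
    pw g (enc l) k = ((l.take k).map fun a => g (a % 16)).prod := by
  induction l generalizing k with
  | nil =>
    obtain rfl : k = 0 := by simpa using hk
    rfl
  | cons a l ih =>
    have key : ∀ k, pw g (enc (a :: l)) (k + 1) = g (a % 16) * pw g (enc l) k := fun k => by
      induction k with
      | zero =>
        have : dig (enc (a :: l)) 0 = a % 16 := by simp [dig_def, enc]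
        simp [pw, this]
      | succ k ih => rw [pw, ih, dig_enc_succ, pw, mul_assoc]
    cases k with
    | zero => rfl
    | succ k => rw [key, ih k (by simpa using hk)]; simp

/-- test of the parameters against a list of relators -/
def testPar (P : Par) (R : List (List ℕ)) : Bool :=
  (List.range 64).all fun r => Nat.beq ((P.rw >>> (256 * r)) % 2 ^ 256) (enc (R.getD r [])) &&
    Nat.beq ((P.ri >>> (256 * r)) % 2 ^ 256)
      (enc ((R.getD r []).reverse.map fun a => dig P.iv (a % 16))) &&
    Nat.beq ((P.rl >>> (8 * r)) % 256) (R.getD r []).length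

theorem ok_of_test {R : List (List ℕ)} (h : testPar P R = true)
    (iv : ∀ l < 16, g (dig P.iv l) = (g l)⁻¹) (e1 : g 14 = 1) (e2 : g 15 = 1)
    (hR : ∀ w ∈ R, (w.map fun a => g (a % 16)).prod = 1) : Ok P g := by
  refine ⟨iv, e1, e2, fun r hr k hk => ?_⟩
  simp only [testPar, List.all_eq_true, List.mem_range, Bool.and_eq_true, Nat.beq_eq] at h
  obtain ⟨⟨a1, a2⟩, a3⟩ := h r hr
  have a4 : ((R.getD r []).map fun a => g (a % 16)).prod = 1 := by
    rw [List.getD_eq_getElem?_getD]
    cases e : R[r]? with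
    | none => rfl
    | some w => exact hR w (List.mem_of_getElem? e)
  rw [a3] at hk
  rw [a1, a2, a3]
  generalize R.getD r [] = w at *
  rw [pw_enc _ _ hk, pw_enc _ _ (by simp), ← List.map_take, List.take_reverse, List.map_map,
    Nat.sub_sub_self hk]
  rw [← List.take_append_drop k w, List.map_append, List.prod_append] at a4
  rw [eq_inv_of_mul_eq_one_left a4, List.prod_inv_reverse, List.map_map, ← List.map_reverse]
  congr 1
  refine List.map_congr_left fun a _ => ?_
  simp only [Function.comp]
  rw [Nat.mod_eq_of_lt (dig_lt _ _), iv _ (Nat.mod_lt _ (by norm_num))]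

/-- the auxiliary relators used by the certificates -/
def aux (iv ng : ℕ) : List (List ℕ) := [14, 14, 15] :: (List.range ng).flatMap fun l =>
  [[14, l, 15, dig iv l], [14, l, 14, 15, dig iv l], [l, dig iv l]]

theorem ok_of_test' {R : List (List ℕ)} {ng : ℕ} (hng : ng ≤ 16)
    (h : testPar P (R ++ aux P.iv ng) = true)
    (iv : ∀ l < 16, g (dig P.iv l) = (g l)⁻¹) (e1 : g 14 = 1) (e2 : g 15 = 1)
    (hR : ∀ w ∈ R, (w.map fun a => g (a % 16)).prod = 1) : Ok P g := by
  refine ok_of_test h iv e1 e2 fun w hw => ?_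
  rcases List.mem_append.1 hw with hw | hw
  · exact hR w hw
  simp only [aux, List.mem_cons, List.mem_flatMap, List.mem_range, List.not_mem_nil,
    or_false] at hw
  rcases hw with rfl | ⟨l, hl, hw⟩
  · simp [e1, e2]
  have h1 : l % 16 = l := Nat.mod_eq_of_lt (by omega)
  have h2 : dig P.iv l % 16 = dig P.iv l := Nat.mod_eq_of_lt (dig_lt _ _)
  rcases hw with rfl | rfl | rfl <;> simp [e1, e2, h1, h2, iv l (by omega)]

theorem card_of_cert [Finite Γ] (hP : Ok P g) {d N mask : ℕ} {hl gs : List ℕ}
    {L : List (List ℕ)} (e : testClosed N mask gs (run P L (start d hl)) = true)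
    (h1 : mask.testBit 1 = true) (h2 : mask < 2 ^ (128 * N)) (h : ∀ l ∈ hl, g (l % 16) ∈ H)
    {K : Subgroup Γ} (hK : ∀ A : Subgroup Γ, (∀ l ∈ gs, g (l % 16) ∈ A) → K ≤ A) :
    Nat.card K ≤ cnt N mask * Nat.card H :=
  ((inv_start d h).run hP L).card e h1 h2 hK

theorem mem_of_cert (hP : Ok P g) {d l : ℕ} {hl : List ℕ} {L : List (List ℕ)} (h1 : l < 16)
    (e : testMem l (run P L (start d hl)) = true) (h : ∀ l ∈ hl, g (l % 16) ∈ H) : g l ∈ H :=
  ((inv_start d h).run hP L).mem h1 e

end H8.TC
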