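import Cfsg.Agent.H8.Sq6
import Cfsg.Agent.H7.TI
import Cfsg.Agent.H6.Baer

/-! Abelian TI-subgroups of exponent at least four: pairs of conjugates. -/

set_option autoImplicit false
set_option linter.unusedSectionVars false

namespace H8.Ti

open Cfsg Subgroup FT H4 H5 GW
open BS (Inv)
open H8.Sq (P2 p2_of_sq)
open scoped commutatorElement

variable {G : Type*} [Group G] [Finite G] {F : Set (Subgroup G)} {P Q R V : Subgroup G}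
  {a b c g r t x y : G}

theorem dih_even {Γ : Type*} [Group Γ] {a b : Γ} (ha : a * a = 1) (hb : b * b = 1) (m : ℕ) :
    a * (a * b) ^ (2 * m) = ((a * b) ^ m)⁻¹ * a * (a * b) ^ m := by
  have e1 : a * (a * b) * a = (a * b)⁻¹ := by
    rw [mul_inv_rev, BS.inv_eq_self_of_sq ha, BS.inv_eq_self_of_sq hb, ← mul_assoc, ha, one_mul]
  rw [← BS.inv_conj_pow ha e1 m, mul_assoc (a * _) a a, ha, mul_one, two_mul, pow_add, mul_assoc]

theorem dih_odd {Γ : Type*} [Group Γ] {a b : Γ} (ha : a * a = 1) (hb : b * b = 1) (m : ℕ) :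
    a * (a * b) ^ (2 * m + 1) = ((a * b) ^ m)⁻¹ * b * (a * b) ^ m := by
  have e2 : b * (a * b) * b = (a * b)⁻¹ := by
    rw [mul_inv_rev, BS.inv_eq_self_of_sq ha, BS.inv_eq_self_of_sq hb, mul_assoc, mul_assoc, hb,
      mul_one]
  rw [← BS.inv_conj_pow hb e2 m, mul_assoc (b * _) b b, hb, mul_one, two_mul, pow_succ', pow_add,
    ← mul_assoc, ← mul_assoc a, ha, one_mul, mul_assoc]

theorem dih_cen {Γ : Type*} [Group Γ] {a b : Γ} (ha : a * a = 1) (hb : b * b = 1) {m : ℕ}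
    (h : (a * b) ^ m * (a * b) ^ m = 1) : a * (a * b) ^ m = (a * b) ^ m * a ∧
      b * (a * b) ^ m = (a * b) ^ m * b ∧ (b * a) ^ m = (a * b) ^ m := by
  have ia := BS.inv_eq_self_of_sq ha
  have ib := BS.inv_eq_self_of_sq hb
  have iw := BS.inv_eq_self_of_sq h
  have e1 : a * (a * b) * a = (a * b)⁻¹ := by rw [mul_inv_rev, ia, ib, ← mul_assoc, ha, one_mul]
  have e2 : b * (a * b) * b = (a * b)⁻¹ := by
    rw [mul_inv_rev, ia, ib, mul_assoc, mul_assoc, hb, mul_one]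
  have f1 := BS.inv_conj_pow ha e1 m
  have f2 := BS.inv_conj_pow hb e2 m
  rw [iw] at f1 f2
  refine ⟨?_, ?_, ?_⟩
  · conv_rhs => rw [← f1, mul_assoc, ha, mul_one]
  · conv_rhs => rw [← f2, mul_assoc, hb, mul_one]
  · rw [← iw, ← inv_pow, mul_inv_rev, ia, ib]

theorem el_comm (h : ∀ v ∈ V, v * v = 1) (hx : x ∈ V) (hy : y ∈ V) : x * y = y * x := by
  rw [← BS.inv_eq_self_of_sq (h _ (mul_mem hx hy)), mul_inv_rev, BS.inv_eq_self_of_sq (h x hx),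
    BS.inv_eq_self_of_sq (h y hy)]

theorem sq_mul (h : a * b = b * a) : a * b * (a * b) = a * a * (b * b) := by
  calc _ = a * (b * a) * b := by group
    _ = _ := by rw [← h]; group

theorem conj_sq (g x : G) : g * x * g⁻¹ * (g * x * g⁻¹) = g * (x * x) * g⁻¹ := by group

theorem conj_sq1 (g : G) (h : x * x = 1) : g * x * g⁻¹ * (g * x * g⁻¹) = 1 := by
  rw [conj_sq, h]; simp

theorem cj_of (h : g * x = x * g) : g * x * g⁻¹ = x := by rw [h, mul_inv_cancel_right]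

theorem of_cj (h : g * x * g⁻¹ = x) : g * x = x * g := mul_inv_eq_iff_eq_mul.1 h

theorem conj_ne (g : G) (h : x ≠ 1) : g * x * g⁻¹ ≠ 1 := fun e => h (conj_eq_one_iff.1 e)

theorem conj_cm (h : x * y = y * x) (g : G) :
    g * x * g⁻¹ * (g * y * g⁻¹) = g * y * g⁻¹ * (g * x * g⁻¹) := by
  calc _ = g * (x * y) * g⁻¹ := by group
    _ = _ := by rw [h]; group

/-- a class of abelian TI-subgroups, neither cyclic nor elementary -/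
structure TS (F : Set (Subgroup G)) : Prop where
  two : ∀ P ∈ F, IsPGroup 2 P
  ab : ∀ P ∈ F, ∀ x ∈ P, ∀ y ∈ P, x * y = y * x
  conj : ∀ P ∈ F, ∀ g, conjS g P ∈ F
  ti : ∀ P ∈ F, ∀ Q ∈ F, ∀ x ∈ P, x ∈ Q → x ≠ 1 → P = Q
  tr : ∀ P ∈ F, ∀ Q ∈ F, ∃ g, conjS g P = Q
  rk : ∀ P ∈ F, ∃ a ∈ P, ∃ b ∈ P, Inv a ∧ Inv b ∧ a ≠ b
  e4 : ∀ P ∈ F, ∃ b ∈ P, Inv (b * b)

/-- the action on `V` -/
abbrev ac (V : Subgroup G) : Nor V →* MulAut V := normalizerMonoidHom V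

theorem ac_val (g : Nor V) (v : V) : (ac V g v : G) = g * v * (g : G)⁻¹ := rfl

theorem ac_one {g : Nor V} : ac V g = 1 ↔ ∀ v ∈ V, (g : G) * v = v * g :=
  ⟨fun e v hv => of_cj (by rw [← ac_val g ⟨v, hv⟩, e]; rfl),
    fun e => MulEquiv.ext fun v => Subtype.ext (cj_of (e v v.2))⟩

theorem ac_div {g k : Nor V} (e : ac V g = ac V k) : ac V (g * k⁻¹) = 1 := by
  rw [map_mul, map_inv, e, mul_inv_cancel]

/-- an involution of `V` whose fixed points are those in `R` -/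
structure Tv (F : Set (Subgroup G)) (V : Subgroup G) (β : MulAut V) (R : Subgroup G) : Prop where
  mem : R ∈ F
  sq : β * β = 1
  ex : ∃ y : V, y ≠ 1 ∧ (y : G) ∈ R
  fix : ∀ v : V, β v = v ↔ (v : G) ∈ R

theorem Tv.ap {β : MulAut V} (h : Tv F V β R) (v : V) : β (β v) = v := by
  rw [← MulAut.mul_apply, h.sq]; rfl

theorem Tv.mem_mul {β : MulAut V} (h : Tv F V β R) (el : ∀ v ∈ V, v * v = 1) (v : V) :
    ((v * β v : V) : G) ∈ R := (h.fix _).1 (by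
  rw [map_mul, h.ap]; exact Subtype.ext (el_comm el (β v).2 v.2))

namespace TS

variable (h : TS F)
include h

theorem eq_of (hP : P ∈ F) (hQ : Q ∈ F) (hx : x ∈ P) (x1 : x ≠ 1) (e : g * x * g⁻¹ ∈ Q) :
    conjS g P = Q := h.ti _ (h.conj P hP g) Q hQ _ (conj_mem_conjS hx) e (conj_ne g x1)

theorem nor (hP : P ∈ F) (hx : x ∈ P) (x1 : x ≠ 1) (e : g * x * g⁻¹ ∈ P) : g ∈ Nor P :=
  mem_normalizer_iff_conjS.2 (h.eq_of hP hP hx x1 e)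

theorem cnr (hP : P ∈ F) (hx : x ∈ P) (x1 : x ≠ 1) (e : g * x = x * g) : g ∈ Nor P :=
  h.nor hP hx x1 (by rwa [cj_of e])

theorem one (hP : P ∈ F) (hQ : Q ∈ F) (ne : P ≠ Q) (h1 : x ∈ P) (h2 : x ∈ Q) : x = 1 := by
  by_contra e; exact ne (h.ti P hP Q hQ x h1 h2 e)

theorem cm_of (hP : P ∈ F) (hQ : Q ∈ F) (ne : P ≠ Q) (ha : a ∈ P) (an : a ∈ Nor Q) (hx : x ∈ Q)
    (xn : x ∈ Nor P) : a * x = x * a := mul_inv_eq_one.1 (h.one hP hQ ne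
  (mem_of_eq (mul_mem ha (cmem xn (inv_mem ha))) (by group))
  (mem_of_eq (mul_mem (cmem an hx) (inv_mem hx)) (by group)))

theorem ex_inv (hP : P ∈ F) : ∃ a ∈ P, Inv a := let ⟨a, h1, _, _, h2, _⟩ := h.rk P hP; ⟨a, h1, h2⟩

theorem ex_fix (hP : P ∈ F) (hx : P2 x) (xn : x ∈ Nor P) : ∃ a ∈ P, Inv a ∧ x * a = a * x := by
  obtain ⟨a, ha, ai⟩ := h.ex_inv hP
  obtain ⟨z, h1, h2, h3, h4⟩ := H7.exists_fixed_order_p (h.two P hP) hx.zp (zpowers_le.2 xn)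
    (W.ne_bot_of ha ai.1)
  exact ⟨z, h1, ⟨h2, by rw [← sq, h3]⟩, h4 x (mem_sup_right (mem_zpowers x))⟩

theorem tv_conj {β : MulAut V} (t : Tv F V β R) (k : Nor V) :
    Tv F V ((ac V k)⁻¹ * β * ac V k) (conjS (k : G)⁻¹ R) where
  mem := h.conj R t.mem _
  sq := by
    calc _ = (ac V k)⁻¹ * (β * β) * ac V k := by group
      _ = 1 := by rw [t.sq]; group
  ex := let ⟨y, y1, hy⟩ := t.ex
    ⟨(ac V k)⁻¹ y, fun e => y1 (by simpa using e), by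
      rw [← map_inv, ac_val]; exact conj_mem_conjS hy⟩
  fix := fun v => by
    rw [mem_conjS, inv_inv, ← ac_val, ← t.fix, MulAut.mul_apply, MulAut.mul_apply,
      MulAut.inv_apply, MulEquiv.symm_apply_eq]

theorem tv_eq {β β' : MulAut V} {R' : Subgroup G} (el : ∀ v ∈ V, v * v = 1) (t : Tv F V β R)
    (t' : Tv F V β' R') (e : β * β' = β' * β) : R = R' := by
  obtain ⟨y, y1, hy⟩ := t'.ex
  have h1 : ((β y : V) : G) ∈ R' := (t'.fix _).1 (by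
    rw [← MulAut.mul_apply, ← e, MulAut.mul_apply, (t'.fix y).2 hy])
  by_cases e1 : y * β y = 1
  · exact h.ti R t.mem R' t'.mem y ((t.fix y).1 ((eq_inv_of_mul_eq_one_right e1).trans
      (Subtype.ext (BS.inv_eq_self_of_sq (el y y.2))))) hy fun e => y1 (Subtype.ext e)
  · exact h.ti R t.mem R' t'.mem _ (t.mem_mul el y) (mul_mem hy h1) fun e => e1 (Subtype.ext e)

theorem tv_aux (el : ∀ v ∈ V, v * v = 1) {k k' : Nor V} (t : Tv F V (ac V k) P)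
    (t' : Tv F V (ac V k') Q) {m : ℕ} (e : (ac V k * ac V k') ^ m * (ac V k * ac V k') ^ m = 1)
    (v : V) (hv : (v : G) ∈ P) : ((ac V k * ac V k') ^ m) v = v := by
  obtain ⟨c1, -, -⟩ := dih_cen t.sq t'.sq e
  have key : ∀ R, Tv F V (ac V k * (ac V k * ac V k') ^ m) R → ((ac V k * ac V k') ^ m) v = v :=
    fun R s => by
      have := h.tv_eq el t s (by rw [mul_assoc, c1])
      have e1 := (s.fix v).2 (this ▸ hv)
      rwa [c1, MulAut.mul_apply, (t.fix v).2 hv] at e1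
  obtain ⟨j, e1 | e1⟩ := SF.dihedral_conj t.sq t'.sq m
  · have := h.tv_conj t ((k * k') ^ j)
    rw [map_pow, map_mul, ← e1] at this
    exact key _ this
  · have := h.tv_conj t' ((k * k') ^ j)
    rw [map_pow, map_mul, ← e1] at this
    exact key _ this

theorem tv_odd (el : ∀ v ∈ V, v * v = 1) {k k' : Nor V} (t : Tv F V (ac V k) P)
    (t' : Tv F V (ac V k') Q) (gen : ∀ v : V, ∃ a x : V, (a : G) ∈ P ∧ (x : G) ∈ Q ∧ a * x = v) :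
    Odd (orderOf (ac V k * ac V k')) := by
  by_contra! ho
  obtain ⟨m, e⟩ := Nat.not_odd_iff_even.1 ho
  have e1 : (ac V k * ac V k') ^ m * (ac V k * ac V k') ^ m = 1 := by
    rw [← pow_add, ← e, pow_orderOf_eq_one]
  obtain ⟨-, -, c3⟩ := dih_cen t.sq t'.sq e1
  have : (ac V k * ac V k') ^ m = 1 := MulEquiv.ext fun v => by
    obtain ⟨a, x, ha, hx, rfl⟩ := gen v
    have := h.tv_aux el t' t (m := m) (by rw [c3, e1]) x hx
    rw [c3] at this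
    rw [map_mul, h.tv_aux el t t' e1 a ha, this]; rfl
  have h1 := Nat.le_of_dvd (by have := orderOf_pos (ac V k * ac V k'); omega)
    (orderOf_dvd_of_pow_eq_one this)
  have := orderOf_pos (ac V k * ac V k')
  omega

theorem tv_cj (el : ∀ v ∈ V, v * v = 1) {k k' : Nor V} (t : Tv F V (ac V k) P)
    (t' : Tv F V (ac V k') Q) (gen : ∀ v : V, ∃ a x : V, (a : G) ∈ P ∧ (x : G) ∈ Q ∧ a * x = v) :
    ∃ n : ℕ, ac V (((k * k') ^ n)⁻¹ * k * (k * k') ^ n) = ac V k' ∧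
      conjS (((k : G) * k') ^ n)⁻¹ P = Q := by
  obtain ⟨j, e⟩ := h.tv_odd el t t' gen
  have e1 : (ac V ((k * k') ^ (j + 1)))⁻¹ * ac V k * ac V ((k * k') ^ (j + 1)) = ac V k' := by
    rw [map_pow, map_mul, ← dih_even t.sq t'.sq, show 2 * (j + 1) = 2 * j + 1 + 1 by ring, ← e,
      pow_succ, pow_orderOf_eq_one, one_mul, ← mul_assoc, t.sq, one_mul]
  refine ⟨j + 1, by rw [map_mul, map_mul, map_inv, e1], ?_⟩
  have := h.tv_conj t ((k * k') ^ (j + 1))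
  rw [e1] at this
  exact h.tv_eq el this t' rfl

end TS

/-- the product of the mutual normalizers -/
abbrev VV (P Q : Subgroup G) : Subgroup G := (P ⊓ Nor Q) ⊔ (Q ⊓ Nor P)

/-- two members with elementary mutual normalizers -/
structure Pre (F : Set (Subgroup G)) (P Q : Subgroup G) : Prop where
  ts : TS F
  hP : P ∈ F
  hQ : Q ∈ F
  ne : P ≠ Q
  e1 : ∀ a ∈ P, a ∈ Nor Q → a * a = 1
  e2 : ∀ x ∈ Q, x ∈ Nor P → x * x = 1
  x1 : ∃ a ∈ P, a ∈ Nor Q ∧ a ≠ 1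
  x2 : ∃ x ∈ Q, x ∈ Nor P ∧ x ≠ 1

namespace Pre

variable (p : Pre F P Q)
include p

theorem symm : Pre F Q P := ⟨p.ts, p.hQ, p.hP, p.ne.symm, p.e2, p.e1, p.x2, p.x1⟩

theorem mem_V {v : G} : v ∈ VV P Q ↔
    ∃ a, (a ∈ P ∧ a ∈ Nor Q) ∧ ∃ x, (x ∈ Q ∧ x ∈ Nor P) ∧ a * x = v :=
  mem_sup_left_iff (show Q ⊓ Nor P ≤ Nor (P ⊓ Nor Q) from fun _ hx => mcnor (cen.2 fun _ ha =>
    (p.ts.cm_of p.hP p.hQ p.ne ha.1 ha.2 hx.1 hx.2).symm))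

theorem el : ∀ v ∈ VV P Q, v * v = 1 := fun v hv => by
  obtain ⟨a, ha, x, hx, rfl⟩ := p.mem_V.1 hv
  rw [sq_mul (p.ts.cm_of p.hP p.hQ p.ne ha.1 ha.2 hx.1 hx.2), p.e1 a ha.1 ha.2, p.e2 x hx.1 hx.2,
    one_mul]

theorem gen (v : VV P Q) : ∃ a x : VV P Q, (a : G) ∈ P ∧ (x : G) ∈ Q ∧ a * x = v :=
  let ⟨a, ha, x, hx, e⟩ := p.mem_V.1 v.2
  ⟨⟨a, mem_sup_left ha⟩, ⟨x, mem_sup_right hx⟩, ha.1, hx.1, Subtype.ext e⟩

theorem gen' (v : VV P Q) : ∃ a x : VV P Q, (a : G) ∈ Q ∧ (x : G) ∈ P ∧ a * x = v :=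
  let ⟨a, x, ha, hx, e⟩ := p.gen v
  ⟨x, a, hx, ha, e ▸ Subtype.ext (el_comm p.el x.2 a.2)⟩

theorem act (hb : b ∈ P) (b2 : b * b ∈ Nor Q) (hx : x ∈ Q) (xn : x ∈ Nor P) :
    b⁻¹ * (x * b * x⁻¹) ∈ P ⊓ Nor Q := by
  have h1 : b⁻¹ * (x * b * x⁻¹) ∈ P := mul_mem (inv_mem hb) (cmem xn hb)
  refine ⟨h1, ?_⟩
  by_cases x1 : x = 1
  · simp [x1]
  have e := p.ts.ab P p.hP _ (inv_mem hb) _ (cmem xn hb)
  have h2 : b⁻¹ * (x * b * x⁻¹) * (b⁻¹ * (x * b * x⁻¹)) = 1 := by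
    rw [sq_mul e, conj_sq, cj_of (p.ts.cm_of p.hP p.hQ p.ne (mul_mem hb hb) b2 hx xn).symm]
    group
  refine p.ts.cnr p.hQ hx x1 (of_cj ?_).symm
  calc _ = (b⁻¹ * (x * b * x⁻¹))⁻¹ * (b⁻¹ * (x * b * x⁻¹) * (x * b⁻¹ * x⁻¹) *
      ((x * x) * b * (x * x)⁻¹)) * ((b⁻¹ * (x * b * x⁻¹)) * (b⁻¹ * (x * b * x⁻¹)))⁻¹ *
      (b⁻¹ * (x * b * x⁻¹) * (b⁻¹ * (x * b * x⁻¹))) := by group
    _ = _ := by rw [p.e2 x hx xn, h2, inv_eq_of_mul_eq_one_right h2]; group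

theorem norV (hb : b ∈ P) (b2 : b * b ∈ Nor Q) : b ∈ Nor (VV P Q) := mnor fun v hv => by
  obtain ⟨a, ha, x, hx, rfl⟩ := p.mem_V.1 hv
  have := p.act (inv_mem hb) (by rw [← mul_inv_rev]; exact inv_mem b2) hx.1 hx.2
  refine mem_of_eq (mul_mem (mem_sup_left (T := Q ⊓ Nor P) (mul_mem (⟨ha.1, ha.2⟩ : a ∈ P ⊓ Nor Q)
    this)) (mem_sup_right hx)) ?_
  rw [p.ts.ab P p.hP b hb a ha.1 |> fun e => show b * (a * x) = a * b * x by rw [← e, mul_assoc]]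
  group

theorem tv (hb : b ∈ P) (b1 : b ∉ Nor Q) (b2 : b * b ∈ Nor Q) (hn : b ∈ Nor (VV P Q)) :
    Tv F (VV P Q) (ac _ ⟨b, hn⟩) P where
  mem := p.hP
  sq := by
    rw [← map_mul]
    exact ac_one.2 fun v hv => el_comm p.el (mem_sup_left ⟨mul_mem hb hb, b2⟩) hv
  ex := let ⟨a, h1, h2, h3⟩ := p.x1
    ⟨⟨a, mem_sup_left ⟨h1, h2⟩⟩, fun e => h3 (congrArg Subtype.val e), h1⟩
  fix := fun v => by
    refine ⟨fun e => ?_, fun e => Subtype.ext (cj_of (p.ts.ab P p.hP b hb _ e))⟩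
    obtain ⟨a, ha, x, hx, e1⟩ := p.mem_V.1 v.2
    have e2 : b * (v : G) = v * b := of_cj (congrArg Subtype.val e)
    by_cases x1 : x = 1
    · rw [← e1, x1, mul_one]; exact ha.1
    refine absurd (p.ts.cnr p.hQ hx.1 x1 (mul_left_cancel (a := a) ?_)) b1
    rw [← mul_assoc, ← p.ts.ab P p.hP b hb a ha.1, mul_assoc, e1, e2, ← e1, mul_assoc]

theorem tv' (hb : b ∈ Q) (b1 : b ∉ Nor P) (b2 : b * b ∈ Nor P) :
    ∃ hn : b ∈ Nor (VV P Q), Tv F (VV P Q) (ac _ ⟨b, hn⟩) Q := by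
  have e : VV P Q = VV Q P := sup_comm _ _
  rw [e]
  exact ⟨_, p.symm.tv hb b1 b2 (p.symm.norV hb b2)⟩

theorem invsq (hb : b ∈ P) (hx : x ∈ Q) (xn : x ∈ Nor P) (x1 : x ≠ 1) :
    b * b * (x * (b * b) * x⁻¹) = 1 := by
  have e := p.ts.ab P p.hP _ hb _ (cmem xn hb)
  rw [← conj_sq, ← sq_mul e]
  refine p.e1 _ (mul_mem hb (cmem xn hb)) (p.ts.cnr p.hQ hx x1 (of_cj ?_).symm)
  calc _ = x * b * x⁻¹ * (x * x * b * (x * x)⁻¹) := by group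
    _ = _ := by rw [p.e2 x hx xn, e]; group

theorem ex4 : ∃ b ∈ P, b ∉ Nor Q ∧ b * b ∈ Nor Q ∧ b * b ≠ 1 := by
  obtain ⟨b, hb, bi⟩ := p.ts.e4 P p.hP
  obtain ⟨x, hx, xn, x1⟩ := p.x2
  exact ⟨b, hb, fun e => bi.1 (p.e1 b hb e), p.ts.cnr p.hQ hx x1 (of_cj
    ((eq_inv_of_mul_eq_one_right (p.invsq hb hx xn x1)).trans bi.inv)).symm, bi.1⟩

theorem inv_nor (ha : a ∈ P) (a2 : a * a = 1) : a ∈ Nor Q := by
  by_contra an
  obtain ⟨b, hb, b1, b2, b3⟩ := p.ex4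
  obtain ⟨c, hc, c1, c2, -⟩ := p.symm.ex4
  obtain ⟨cn, tc⟩ := p.tv' hc c1 c2
  have a2' : a * a ∈ Nor Q := a2 ▸ one_mem _
  obtain ⟨n, e1, e2⟩ := p.ts.tv_cj p.el (p.tv ha an a2' (p.norV ha a2')) tc p.gen
  obtain ⟨m, e3, e4⟩ := p.ts.tv_cj p.el (p.tv hb b1 b2 (p.norV hb b2)) tc p.gen
  simp only at e2 e4
  have m1 : ((a * c) ^ n)⁻¹ * a * (a * c) ^ n ∈ Q := by
    simpa only [inv_inv, e2] using conj_mem_conjS (g := ((a * c) ^ n)⁻¹) ha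
  have m2 : ((b * c) ^ m)⁻¹ * b * (b * c) ^ m ∈ Q := by
    simpa only [inv_inv, e4] using conj_mem_conjS (g := ((b * c) ^ m)⁻¹) hb
  have := ac_one.1 (ac_div (e1.trans e3.symm))
  obtain ⟨y, hy, yn, y1⟩ := p.x1
  have h1 := p.e2 _ (mul_mem m1 (inv_mem m2))
    (p.ts.cnr p.hP hy y1 (this y (mem_sup_left ⟨hy, yn⟩)))
  rw [sq_mul (p.ts.ab Q p.hQ _ m1 _ (inv_mem m2))] at h1
  refine b3 (conj_eq_one_iff.1 (?_ : ((b * c) ^ m)⁻¹ * (b * b) * ((b * c) ^ m)⁻¹⁻¹ = 1))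
  rw [← inv_eq_one, ← h1]
  calc _ = ((a * c) ^ n)⁻¹ * (a * a) * (a * c) ^ n * (((b * c) ^ m)⁻¹ * (b * b) *
      ((b * c) ^ m)⁻¹⁻¹)⁻¹ := by rw [a2]; group
    _ = _ := by group

end Pre

/-- adjacent members -/
structure Ad (F : Set (Subgroup G)) (P Q : Subgroup G) : Prop where
  ts : TS F
  hP : P ∈ F
  hQ : Q ∈ F
  ne : P ≠ Q
  cm : ∀ a ∈ P, a * a = 1 → ∀ x ∈ Q, x * x = 1 → a * x = x * a
  c1 : ∀ x ∈ Q, x ≠ 1 → ∀ b ∈ P, b * x = x * b → b * b = 1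
  c2 : ∀ a ∈ P, a ≠ 1 → ∀ b ∈ Q, b * a = a * b → b * b = 1

/-- commuting subgroups -/
def Cm (P Q : Subgroup G) : Prop := ∀ a ∈ P, ∀ b ∈ Q, a * b = b * a

/-- the involutions commute -/
def CA (P Q : Subgroup G) : Prop := ∀ a ∈ P, a * a = 1 → ∀ x ∈ Q, x * x = 1 → a * x = x * a

theorem Cm.symm (h : Cm P Q) : Cm Q P := fun a ha b hb => (h b hb a ha).symm

theorem CA.symm (h : CA P Q) : CA Q P := fun a ha a2 b hb b2 => (h b hb b2 a ha a2).symm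

theorem Cm.ca (h : Cm P Q) : CA P Q := fun a ha _ b hb _ => h a ha b hb

theorem Pre.ad (p : Pre F P Q) : Ad F P Q :=
  ⟨p.ts, p.hP, p.hQ, p.ne, fun _ ha a2 _ hx x2 => p.ts.cm_of p.hP p.hQ p.ne ha (p.inv_nor ha a2) hx
    (p.symm.inv_nor hx x2), fun _ hx x1 b hb e => p.e1 b hb (p.ts.cnr p.hQ hx x1 e),
    fun _ ha a1 b hb e => p.e2 b hb (p.ts.cnr p.hP ha a1 e)⟩

namespace TS

variable (h : TS F)
include h

theorem el_of (hP : P ∈ F) (hQ : Q ∈ F) (ne : P ≠ Q) (hn : ¬ P ≤ Nor Q) (hx : x ∈ Q)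
    (xn : x ∈ Nor P) : x * x = 1 := by
  obtain ⟨b, hb, b1, b2, b3⟩ := H7.exists_central_mod (N := P ⊓ Nor Q)
    ((h.two P hP).to_sup_of_normal_left' (P2.of_mem (h.two Q hQ) hx).zp (zpowers_le.2 xn))
    le_sup_left (sup_le le_normalizer (zpowers_le.2 xn)) fun e => hn (e.trans inf_le_right)
  by_contra x2
  refine b1 ⟨hb, h.cnr hQ (mul_mem hx hx) x2 (of_cj ?_).symm⟩
  have h1 := b2 x (mem_sup_right (mem_zpowers x))
  have e1 := cj_of (h.cm_of hP hQ ne h1.1 h1.2 hx xn).symm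
  have e2 := cj_of (h.cm_of hP hQ ne b3.1 b3.2 hx xn).symm
  have e3 : x * b * x⁻¹ = ⁅b, x⁆⁻¹ * b := by rw [commutatorElement_def]; group
  generalize ⁅b, x⁆ = c at h1 e1 e3
  have e4 : c⁻¹ * c⁻¹ = 1 := by
    rw [pow_two, ← conj_sq, e3, sq_mul (h.ab P hP _ (inv_mem h1.1) _ hb)] at e2
    simpa using e2
  calc x * x * b * (x * x)⁻¹ = x * (x * b * x⁻¹) * x⁻¹ := by group
    _ = x * (c⁻¹ * b) * x⁻¹ := by rw [e3]
    _ = (x * c * x⁻¹)⁻¹ * (x * b * x⁻¹) := by group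
    _ = b := by rw [e1, e3, ← mul_assoc, e4, one_mul]

theorem pair (hP : P ∈ F) (hQ : Q ∈ F) (ne : P ≠ Q) (hx : x ∈ Q) (xn : x ∈ Nor P) (x1 : x ≠ 1) :
    Cm P Q ∨ Ad F P Q := by
  obtain ⟨a, ha, ai, e⟩ := h.ex_fix hP (P2.of_mem (h.two Q hQ) hx) xn
  have an := h.cnr hQ hx x1 e.symm
  by_cases h1 : P ≤ Nor Q <;> by_cases h2 : Q ≤ Nor P
  · exact Or.inl fun a ha b hb => h.cm_of hP hQ ne ha (h1 ha) hb (h2 hb)
  · obtain ⟨b, hb, bi⟩ := h.e4 P hP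
    exact absurd (h.el_of hQ hP ne.symm h2 hb (h1 hb)) bi.1
  · obtain ⟨b, hb, bi⟩ := h.e4 Q hQ
    exact absurd (h.el_of hP hQ ne h1 hb (h2 hb)) bi.1
  · exact Or.inr (Pre.ad ⟨h, hP, hQ, ne, fun _ => h.el_of hQ hP ne.symm h2,
      fun _ => h.el_of hP hQ ne h1, ⟨a, ha, an, ai.1⟩, ⟨x, hx, xn, x1⟩⟩)

theorem cm_self (hP : P ∈ F) : Cm P P := h.ab P hP

theorem pair' (hP : P ∈ F) (hQ : Q ∈ F) (hx : x ∈ Q) (xn : x ∈ Nor P) (x1 : x ≠ 1) :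
    Cm P Q ∨ Ad F P Q := by
  by_cases e : P = Q
  · exact Or.inl (e ▸ h.cm_self hP)
  · exact h.pair hP hQ e hx xn x1

theorem ca_of (hP : P ∈ F) (hQ : Q ∈ F) (hx : x ∈ Q) (xn : x ∈ Nor P) (x1 : x ≠ 1) : CA P Q :=
  (h.pair' hP hQ hx xn x1).elim Cm.ca fun e => e.cm

theorem ca_of' (hP : P ∈ F) (hQ : Q ∈ F) (ha : a ∈ P) (a1 : a ≠ 1) (hx : x ∈ Q) (x1 : x ≠ 1)
    (e : x * a = a * x) : CA P Q := h.ca_of hP hQ hx (h.cnr hP ha a1 e) x1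

theorem ad_of (hP : P ∈ F) (hQ : Q ∈ F) (c : CA P Q) (hn : ¬ Cm P Q) : Ad F P Q := by
  obtain ⟨a, ha, ai⟩ := h.ex_inv hP
  obtain ⟨x, hx, xi⟩ := h.ex_inv hQ
  exact (h.pair' hP hQ hx (h.cnr hP ha ai.1 (c a ha ai.2 x hx xi.2).symm) xi.1).resolve_left hn

/-- members inside a `2`-group commute -/
theorem cm_two {S : Subgroup G} (hS : IsPGroup 2 S) (hP : P ∈ F) (hQ : Q ∈ F) (h1 : P ≤ S)
    (h2 : Q ≤ S) : Cm P Q := by
  by_cases e : P = Q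
  · exact e ▸ h.cm_self hP
  have := H7.commute_of_ti_family hS (Δ := {R | R ∈ F ∧ R ≤ S}) (fun R hR => hR.2)
    (fun s hs R hR => ⟨h.conj R hR.1 s, conjS_eq_of_mem hs ▸ conjS_mono s hR.2⟩)
    (fun R hR => let ⟨b, hb, bi⟩ := h.e4 R hR.1; ⟨b, hb, by rw [sq]; exact bi.1⟩)
    (fun R hR T hT => let ⟨g, e⟩ := h.tr R hR.1 T hT.1; e ▸ (card_conjS g R).symm)
    (fun R hR T hT => or_iff_not_imp_left.2 fun ne => eq_bot_iff.2 fun x hx =>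
      h.one hR.1 hT.1 ne hx.1 hx.2) P ⟨hP, h1⟩ Q ⟨hQ, h2⟩ e
  exact fun a ha b hb => cen.1 (commutator_eq_bot_iff_le_centralizer.1 this ha) b hb

end TS

end H8.Ti
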