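import Cfsg.Agent.H8.Ti9

/-! Abelian TI-subgroups normal in a maximal 2-local subgroup: the theorem. -/

set_option autoImplicit false
set_option linter.unusedSectionVars false

namespace H8.Ti

open Cfsg Subgroup FT H4 H5 GW
open BS (Inv Od)
open H8.Sq (P2 p2_of_sq SCl DD)
open scoped commutatorElement

universe u

variable {G : Type u} [Group G] [Finite G] {F : Set (Subgroup G)} {B M : Subgroup G}

theorem Mx.ex_ad (h : Mx F B) (hO : pCore 2 G = ⊥) : ∃ P, Ad F B P := by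
  by_contra! hn
  have hI : ∀ R ∈ F, ∀ x ∈ R, x ∈ Nor B → x ∈ B := fun R hR x hx xn => by
    by_cases x1 : x = 1
    · exact x1 ▸ one_mem B
    exact h.eq_B hR ((h.ts.pair' h.hB hR hx xn x1).resolve_right (hn R)) ▸ hx
  obtain ⟨T, hT, BT⟩ := exists_isSylowOf_ge (h.ts.two B h.hB) le_top
  have TH := h.S_nor hT.isPGroup BT
  let E : Set G := {x | ∃ R ∈ F, x ∈ R}
  have cj : ∀ x ∈ E, ∀ g : G, g * x * g⁻¹ ∈ E := fun x ⟨R, hR, hx⟩ g =>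
    ⟨_, h.ts.conj R hR g, conj_mem_conjS hx⟩
  have cj' : ∀ x ∈ E, ∀ g : G, g⁻¹ * x * g ∈ E := fun x hx g => by simpa using cj x hx g⁻¹
  have hE : ∀ x ∈ E, x ∈ Nor B → x ∈ B := fun x ⟨R, hR, hx⟩ => hI R hR x hx
  have s0 : SCl E := ⟨⟨B, h.hB, one_mem _⟩, cj, fun x ⟨R, hR, hx⟩ => P2.of_mem (h.ts.two R hR) hx,
    fun P hP x hx y hy xE yE => by
      obtain ⟨g, -, e⟩ := H8.Sq.conj_le hT hP le_top
      simpa [mul_assoc] using cj' _ ⟨B, h.hB, mul_mem (hE _ (cj x xE g) (TH (e x hx)))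
        (hE _ (cj y yE g) (TH (e y hy)))⟩ g⟩
  have c : SF.CH (DD E) (Nor B) :=
    { inv := fun _ e => e.2
      conj := fun d e u => ⟨cj d e.1 u, e.2.conj u⟩
      ex := fun a ⟨⟨R, hR, ha⟩, _⟩ => let ⟨g, e⟩ := h.ts.tr B h.hB R hR
        ⟨g, le_normalizer (mem_conjS.1 (e ▸ ha))⟩
      fix := fun a ha aH g e => inv_mem_iff.1 (h.ts.nor h.hB (hE a ha.1 aH) ha.2.1
        (by rw [inv_inv]; exact hE _ (cj' a ha.1 g) e))
      mul := fun d hd e he _ _ hne hc => ⟨s0.mulc hd.1 he.1 hc, hd.2.mul he.2 hne hc⟩ }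
  obtain ⟨a, ha, b, hb, ai, bi, ne⟩ := h.ts.rk B h.hB
  have ab := h.ts.ab B h.hB a ha b hb
  have hH : Nor B ≠ ⊤ := fun e => W.ne_bot_of ha ai.1 (eq_bot_iff.2
    ((le_pCore (normalizer_eq_top_iff.1 e) (h.ts.two B h.hB)).trans hO.le))
  have r : SF.RkD (DD E) ⊤ := ⟨a, ⟨⟨B, h.hB, ha⟩, ai⟩, b, ⟨⟨B, h.hB, hb⟩, bi⟩, trivial, trivial,
    ne, ab⟩
  have ce : ∀ d ∈ B, d ≠ 1 → Cen1 d ≤ Nor B := fun d hd d1 g hg => h.ts.cnr h.hB hd d1 (c1.1 hg)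
  have o1 : Oo (⊤ : Subgroup G) = ⊥ := eq_bot_iff.2 fun g hg => by
    have n : ∀ g : G, g ∈ Nor (Oo (⊤ : Subgroup G)) := fun g => nOo _ (le_normalizer (mem_top g))
    have gH := BS.le_of_four ai bi ne ab (odd_Oo ⊤) (n a) (n b) (inf_le_right.trans (ce a ha ai.1))
      (inf_le_right.trans (ce b hb bi.1)) (inf_le_right.trans (ce _ (mul_mem ha hb)
        (ai.mul bi ne ab).1)) hg
    refine h.odd_one gH (odd_ord (odd_Oo ⊤) hg) (cen.2 fun q hq => ps_one.1 ((P2.of_mem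
      (isPGroup_pCoreIn 2 _) (h.ps_R gH hq.1)).eq_one (odd_ord (odd_Oo ⊤) (mem_of_eq
        (mul_mem (cmem' (n q) hg) (Subgroup.inv_mem _ hg)) (by rw [ps]; group)))))
  obtain ⟨g, hg, gi⟩ := h.ts.e4 B h.hB
  have gE : g ∈ E := ⟨B, h.hB, hg⟩
  have l : SF.Lr (DD E) ⊤ ((1 : G) : G ⧸ Nor B) :=
    ⟨r, c.pt ⟨⟨B, h.hB, ha⟩, ai⟩ (mem_top a) (le_normalizer ha), by
      rw [SF.St_one]; exact c.not_le hH ⟨⟨B, h.hB, ha⟩, ai⟩ (mem_top a)⟩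
  obtain ⟨y, hy, hne⟩ := c.pd.exists_ne l.pt l.ne
  obtain ⟨t, -, ht, e⟩ := c.pd.Pt_swap l.pt hy hne.symm
  have s := c.pd.sr_of (c.pd.pure l) l (by
    rw [Od, piCoreOf_compl_singleton]
    exact (le_Oo le_top (le_normalizer.trans ((c.pd.nor_le_nor_LL ⊤).trans (nOo _)))
      (odd_Oo _)).trans (o1.le.trans bot_le)) ht (mem_top t) e hne.symm
  have hx : T ≤ BS.St G ((1 : G) : G ⧸ Nor B) := by rwa [SF.St_one]
  refine gi.1 ?_
  rcases H8.Sq.dich s0 s hT hx with hA | ⟨na, hA⟩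
  · have qt := H8.Sq.QT s0 s hT hx
    have qb := fun q hq => hE q (hA q hq) (TH (qt hq))
    obtain ⟨d, hd⟩ := s.bd.toA1.exists_dist
    have e0 := ((s.bd.tri hd).resolve_right fun e => e.elim (·.2.1) (·.2.1) fun x hx y hy =>
      h.ts.ab B h.hB x (qb x hx) y (qb y hy)).1
    obtain ⟨q, hq, e⟩ := H8.Sq.dec s0 s hT hx (BT hg)
    rw [← inv_mul_eq_one.1 (H8.Sq.two_pts s0 s hT hx ⟨B, h.hB, mul_mem (Subgroup.inv_mem _ (qb q hq)) hg⟩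
      (hx (mul_mem (Subgroup.inv_mem _ (qt hq)) (BT hg))) e)]
    exact s.bd.sq0 q (e0.ge hq)
  · exact H8.Sq.sq_one s0 s hT hx na hA (BT hg) gE

theorem s1779 (hO : pCore 2 G = ⊥) (hM : IsMaximalTwoLocal M) (hMc : IsOfCharacteristicTwo M)
    (hBM : B ≤ M) (hBn : ∀ m ∈ M, ∀ b ∈ B, m * b * m⁻¹ ∈ B) (hBa : IsMulCommutative B)
    (hti : ∀ g : G, conjS g B = B ∨ conjS g B ⊓ B = ⊥) : IsCyclic B ∨
      (Nonempty (B ≃* Multiplicative (ZMod 4) × Multiplicative (ZMod 4)) ∧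
        ∃ (F : Type) (_ : Field F) (_ : Fintype F), Fintype.card F = 4 ∧
          Nonempty (generalizedFittingSubgroup G ≃*
            Matrix.ProjectiveSpecialLinearGroup (Fin 3) F)) ∨ IsElementaryAbelian 2 B := by
  have ab : ∀ x ∈ B, ∀ y ∈ B, x * y = y * x := BS.ab_iff.2 hBa
  have MB : M ≤ Nor B := fun m hm => mnor (hBn m hm)
  have two : IsPGroup 2 B := H5.isPGroup_of_forall_prime fun b hb ho => by
    have ho := Nat.coprime_two_right.1 ho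
    refine (P2.of_mem (isPGroup_pCoreIn 2 M) ⟨⟨b, hBM hb⟩, hMc (cen.2 fun q hq => Subtype.ext
      (cop ho (P2.of_mem (isPGroup_pCoreIn 2 M) (mul_mem (inv_mem ⟨q, hq, rfl⟩)
        (cmem (le_normalizer_pCoreIn 2 M (hBM hb)) ⟨q, hq, rfl⟩))) (ab b hb _ (mem_of_eq
          (mul_mem (cmem' (MB q.2) hb) (inv_mem hb)) (by rw [ps]; group))))), rfl⟩).eq_one ho
  by_cases el : ∀ b ∈ B, b * b = 1
  · exact Or.inr (Or.inr ⟨hBa, fun b hb => by rw [sq, el b hb]⟩)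
  push Not at el
  obtain ⟨x, hx, x2⟩ := el
  by_cases rk : ∀ x ∈ B, ∀ y ∈ B, Inv x → Inv y → x = y
  · obtain ⟨r, rfl⟩ := H8.Sq.rk1_cyc two rk hx (fun y hy => c1.2 (ab y hy x hx)) x2
    exact Or.inl inferInstance
  push Not at rk
  obtain ⟨a, ha, b, hb, ai, bi, ne⟩ := rk
  obtain ⟨n, e4⟩ := (P2.of_mem two (mul_mem hx hx)).exists_inv x2
  rw [(Commute.refl x).mul_pow] at e4
  obtain rfl : Nor B = M := hM.2 _ ⟨B, two, W.ne_bot_of ha ai.1, rfl⟩ MB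
  have ts : TS {P | ∃ g, conjS g B = P} :=
    { two := by rintro _ ⟨g, rfl⟩; exact two.map _
      ab := by
        rintro _ ⟨g, rfl⟩ _ ⟨x, hx, rfl⟩ _ ⟨y, hy, rfl⟩
        exact conj_cm (ab x hx y hy) g
      conj := by rintro _ ⟨g, rfl⟩ k; exact ⟨k * g, (conjS_conjS k g B).symm⟩
      ti := by
        rintro _ ⟨g, rfl⟩ _ ⟨k, rfl⟩ x h1 h2 x1
        exact (H7.ti_conjS hti g k).resolve_right fun e => x1 (e.le ⟨h1, h2⟩)
      tr := by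
        rintro _ ⟨g, rfl⟩ _ ⟨k, rfl⟩
        exact ⟨k * g⁻¹, by rw [conjS_conjS, inv_mul_cancel_right]⟩
      rk := by
        rintro _ ⟨g, rfl⟩
        exact ⟨_, conj_mem_conjS ha, _, conj_mem_conjS hb, ai.conj g, bi.conj g,
          fun e => ne ((MulAut.conj g).injective e)⟩
      e4 := by
        rintro _ ⟨g, rfl⟩
        exact ⟨_, conj_mem_conjS (pow_mem hx n), by rw [conj_sq]; exact e4.conj g⟩ }
  have h : Mx {P | ∃ g, conjS g B = P} B :=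
    ⟨ts, ⟨1, conjS_one B⟩, fun T h1 h2 h3 => (hM.2 _ ⟨T, h1, h2, rfl⟩ h3).le, hMc⟩
  obtain ⟨P, d⟩ := h.ex_ad hO
  obtain ⟨P1, P2, σ⟩ := h.ex_sp d
  have σ' : Sc _ B P1 P2 := ⟨h, σ⟩
  exact Or.inr (Or.inl ⟨d.iso σ.full σ.q4, H2.F4, inferInstance, inferInstance, H2.F4.card_F4,
    σ'.gfit ▸ σ'.psl⟩)

end H8.Ti
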