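import Cfsg.Agent.H8.Ti1

/-! Abelian TI-subgroups of exponent at least four: adjacent and special pairs. -/

set_option autoImplicit false
set_option linter.unusedSectionVars false

namespace H8.Ti

open Cfsg Subgroup FT H4 H5 GW
open BS (Inv)
open H8.Sq (P2 p2_of_sq)
open scoped commutatorElement

variable {G : Type*} [Group G] [Finite G] {F : Set (Subgroup G)} {P Q R V : Subgroup G}
  {a b c g r t x y : G}

/-- the involutions of a subgroup -/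
def Om (P : Subgroup G) : Subgroup G := closure {x | x ∈ P ∧ x * x = 1}

theorem mem_Om' (h1 : x ∈ P) (h2 : x * x = 1) : x ∈ Om P := subset_closure ⟨h1, h2⟩

theorem Om_le : Om P ≤ P := (closure_le _).2 fun _ h => h.1

theorem TS.mem_Om (h : TS F) (hP : P ∈ F) : x ∈ Om P ↔ x ∈ P ∧ x * x = 1 := by
  refine ⟨fun hx => ⟨Om_le hx, ?_⟩, fun e => mem_Om' e.1 e.2⟩
  induction hx using closure_induction with
  | mem x hx => exact hx.2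
  | one => simp
  | mul x y hx hy h1 h2 => rw [sq_mul (h.ab P hP x (Om_le hx) y (Om_le hy)), h1, h2, one_mul]
  | inv x _ h1 => rw [← mul_inv_rev, h1, inv_one]

theorem TS.card_Om (h : TS F) (hP : P ∈ F) (hQ : Q ∈ F) : Nat.card (Om P) = Nat.card (Om Q) := by
  obtain ⟨g, rfl⟩ := h.tr P hP Q hQ
  rw [← card_conjS g]
  congr 2
  ext x
  rw [mem_conjS, h.mem_Om hP, h.mem_Om hQ, mem_conjS]
  refine and_congr_right fun _ => ⟨fun e => ?_, fun e => by simpa using conj_sq1 g⁻¹ e⟩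
  simpa [mul_assoc] using conj_sq1 g e

theorem swap_cj (hb : a * b = b * a) (a2 : a * a = 1) (e : x * b * x⁻¹ = b * a) :
    b * x * b⁻¹ = a * x := by
  calc _ = b * (x * b * x⁻¹)⁻¹ * x := by group
    _ = _ := by rw [e, mul_inv_rev, inv_eq_of_mul_eq_one_right a2, ← mul_assoc, ← hb]; group

theorem inv_sq1 (h : x * x = 1) : x⁻¹ * x⁻¹ = 1 := by rw [← mul_inv_rev, h, inv_one]

namespace Ad

variable (d : Ad F P Q)
include d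

theorem symm : Ad F Q P :=
  ⟨d.ts, d.hQ, d.hP, d.ne.symm, fun a ha a2 x hx x2 => (d.cm x hx x2 a ha a2).symm, d.c2, d.c1⟩

theorem nor (hx : x ∈ Q) (x2 : x * x = 1) : x ∈ Nor P :=
  let ⟨a, ha, ai⟩ := d.ts.ex_inv d.hP
  d.ts.cnr d.hP ha ai.1 (d.cm a ha ai.2 x hx x2).symm

theorem sq_of (hx : x ∈ Q) (xn : x ∈ Nor P) : x * x = 1 :=
  let ⟨a, ha, ai, e⟩ := d.ts.ex_fix d.hP (P2.of_mem (d.ts.two Q d.hQ) hx) xn
  d.c2 a ha ai.1 x hx e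

theorem pre : Pre F P Q :=
  let ⟨a, ha, ai⟩ := d.ts.ex_inv d.hP
  let ⟨x, hx, xi⟩ := d.ts.ex_inv d.hQ
  ⟨d.ts, d.hP, d.hQ, d.ne, fun _ => d.symm.sq_of, fun _ => d.sq_of,
    ⟨a, ha, d.symm.nor ha ai.2, ai.1⟩, ⟨x, hx, d.nor hx xi.2, xi.1⟩⟩

theorem eq1 (hx : x ∈ Q) (hb : b ∈ P) (b2 : b * b ≠ 1) (e : b * x = x * b) : x = 1 := by
  by_contra x1; exact b2 (d.c1 x hx x1 b hb e)

theorem eq1' (hx : x ∈ Q) (e : x ∈ Cen P) : x = 1 :=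
  let ⟨b, hb, bi⟩ := d.ts.e4 P d.hP
  d.eq1 hx hb bi.1 (cen.1 e b hb).symm

theorem ncm : ¬ Cm P Q := fun h =>
  let ⟨x, hx, xi⟩ := d.ts.ex_inv d.hQ
  xi.1 (d.eq1' hx (cen.2 fun a ha => (h a ha x hx).symm))

theorem exp4 (hb : b ∈ P) : b * b * (b * b) = 1 := by
  obtain ⟨x, hx, y, hy, xi, yi, ne⟩ := d.ts.rk Q d.hQ
  have i := xi.mul yi ne (d.ts.ab Q d.hQ x hx y hy)
  have k : ∀ x ∈ Q, Inv x → x * (b * b) * x⁻¹ = (b * b)⁻¹ := fun x hx xi =>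
    eq_inv_of_mul_eq_one_right (d.pre.invsq hb hx (d.nor hx xi.2) xi.1)
  have := k _ (mul_mem hx hy) i
  rw [show x * y * (b * b) * (x * y)⁻¹ = x * (y * (b * b) * y⁻¹) * x⁻¹ by group, k y hy yi,
    show x * (b * b)⁻¹ * x⁻¹ = (x * (b * b) * x⁻¹)⁻¹ by group, k x hx xi, inv_inv] at this
  exact mul_eq_one_iff_eq_inv.2 this

theorem act (hb : b ∈ P) (hx : x ∈ Q) (x2 : x * x = 1) :
    ∃ a ∈ P, a * a = 1 ∧ x * b * x⁻¹ = b * a :=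
  have := d.pre.act hb (d.symm.nor (mul_mem hb hb) (d.exp4 hb)) hx (d.nor hx x2)
  ⟨_, this.1, d.symm.sq_of this.1 this.2, by group⟩

theorem mem_V {v : G} : v ∈ VV P Q ↔
    ∃ a, (a ∈ P ∧ a * a = 1) ∧ ∃ x, (x ∈ Q ∧ x * x = 1) ∧ a * x = v :=
  d.pre.mem_V.trans ⟨fun ⟨a, ha, x, hx, e⟩ => ⟨a, ⟨ha.1, d.symm.sq_of ha.1 ha.2⟩, x,
    ⟨hx.1, d.sq_of hx.1 hx.2⟩, e⟩, fun ⟨a, ha, x, hx, e⟩ => ⟨a, ⟨ha.1, d.symm.nor ha.1 ha.2⟩, x,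
    ⟨hx.1, d.nor hx.1 hx.2⟩, e⟩⟩

theorem mV1 (ha : a ∈ P) (a2 : a * a = 1) : a ∈ VV P Q := mem_sup_left ⟨ha, d.symm.nor ha a2⟩

theorem mV2 (hx : x ∈ Q) (x2 : x * x = 1) : x ∈ VV P Q := mem_sup_right ⟨hx, d.nor hx x2⟩

theorem tv (hb : b ∈ P) (b2 : b * b ≠ 1) :
    ∃ hn : b ∈ Nor (VV P Q), Tv F (VV P Q) (ac _ ⟨b, hn⟩) P :=
  have h1 := d.symm.nor (mul_mem hb hb) (d.exp4 hb)
  ⟨_, d.pre.tv hb (fun e => b2 (d.symm.sq_of hb e)) h1 (d.pre.norV hb h1)⟩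

theorem tv' (hb : b ∈ Q) (b2 : b * b ≠ 1) :
    ∃ hn : b ∈ Nor (VV P Q), Tv F (VV P Q) (ac _ ⟨b, hn⟩) Q :=
  d.pre.tv' hb (fun e => b2 (d.sq_of hb e)) (d.nor (mul_mem hb hb) (d.symm.exp4 hb))

theorem swap (hb : b ∈ P) (b2 : b * b ≠ 1) (hc : c ∈ Q) (c2 : c * c ≠ 1) :
    ∃ n : ℕ, conjS ((b * c) ^ n)⁻¹ P = Q :=
  let ⟨_, t⟩ := d.tv hb b2
  let ⟨_, t'⟩ := d.tv' hc c2
  let ⟨n, _, e⟩ := d.ts.tv_cj d.pre.el t t' d.pre.gen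
  ⟨n, e⟩

theorem surj (hb : b ∈ P) (b2 : b * b ≠ 1) (ha : a ∈ P) (a2 : a * a = 1) :
    ∃ x ∈ Q, x * x = 1 ∧ x * b * x⁻¹ = b * a := by
  have m := fun x : Om Q => (d.ts.mem_Om d.hQ).1 x.2
  choose f h1 h2 h3 using fun x : Om Q => d.act hb (m x).1 (m x).2
  have i : Function.Injective fun x => (⟨f x, mem_Om' (h1 x) (h2 x)⟩ : Om P) := fun x y e => by
    have e1 : f x = f y := congrArg Subtype.val e
    refine Subtype.ext (inv_mul_eq_one.1 (d.eq1 (mul_mem (inv_mem (m x).1) (m y).1) hb b2 ?_))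
    calc b * ((x : G)⁻¹ * y) = (x : G)⁻¹ * (x * b * (x : G)⁻¹) * y := by group
      _ = _ := by rw [h3, e1, ← h3]; group
  obtain ⟨x, e⟩ := (i.bijective_of_nat_card_le (d.ts.card_Om d.hP d.hQ).le).2 ⟨a, mem_Om' ha a2⟩
  exact ⟨x, (m x).1, (m x).2, by rw [h3, ← show f x = a from congrArg Subtype.val e]⟩

theorem f1 (hc : c ∈ Cen P) (hx : x ∈ Q) (x1 : x ≠ 1) (e : c * x = x * c) (hy : y ∈ Q)
    (y2 : y * y = 1) : c * y = y * c := mul_inv_eq_one.1 (d.eq1'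
  (mem_of_eq (mul_mem (cmem (d.ts.cnr d.hQ hx x1 e) hy) (inv_mem hy)) (by group))
  (mem_of_eq (mul_mem hc (cmem (mcen (d.nor hy y2)) (inv_mem hc))) (by group)))

theorem act' (h1 : ∀ a ∈ P, a * a = 1 → g * a = a * g) (h2 : ∀ a ∈ Q, a * a = 1 → g * a = a * g)
    (hb : b ∈ P) : ∃ a ∈ P, a * a = 1 ∧ g * b * g⁻¹ = b * a := by
  obtain ⟨a, ha, ai⟩ := d.ts.ex_inv d.hP
  obtain ⟨x, hx, xi⟩ := d.ts.ex_inv d.hQ
  have m := cmem (d.ts.cnr d.hP ha ai.1 (h1 a ha ai.2)) hb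
  refine ⟨b⁻¹ * (g * b * g⁻¹), mul_mem (inv_mem hb) m,
    d.c1 x hx xi.1 _ (mul_mem (inv_mem hb) m) (of_cj ?_).symm, by group⟩
  obtain ⟨u, hu, u2, e⟩ := d.act hb hx xi.2
  calc _ = (x * b * x⁻¹)⁻¹ * ((x * g) * b * (x * g)⁻¹) := by group
    _ = (x * b * x⁻¹)⁻¹ * (g * (x * b * x⁻¹) * g⁻¹) := by rw [← h2 x hx xi.2]; group
    _ = u⁻¹ * (b⁻¹ * (g * b * g⁻¹)) * (g * u * g⁻¹) := by rw [e]; group
    _ = _ := by
      rw [cj_of (h1 u hu u2), d.ts.ab P d.hP _ (inv_mem hu) _ (mul_mem (inv_mem hb) m)]; group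

theorem sq (h1 : ∀ a ∈ P, a * a = 1 → g * a = a * g) (h2 : ∀ a ∈ Q, a * a = 1 → g * a = a * g) :
    g * g ∈ Cen P := cen.2 fun b hb => of_cj (by
  obtain ⟨a, ha, a2, e⟩ := d.act' h1 h2 hb
  calc g * g * b * (g * g)⁻¹ = g * (g * b * g⁻¹) * g⁻¹ := by group
    _ = g * (b * a) * g⁻¹ := by rw [e]
    _ = g * b * g⁻¹ * (g * a * g⁻¹) := by group
    _ = b := by rw [e, cj_of (h1 a ha a2), mul_assoc, a2, mul_one])

theorem f2 (hc : c ∈ Cen P) (h : ∀ a ∈ Q, a * a = 1 → c * a = a * c) :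
    ∃ a ∈ P, a * a = 1 ∧ c * a ∈ Cen Q := by
  obtain ⟨b, hb, bi⟩ := d.ts.e4 P d.hP
  obtain ⟨b', hb', bi'⟩ := d.ts.e4 Q d.hQ
  obtain ⟨x, hx, x2, e⟩ := d.symm.act' h (fun a ha _ => cen.1 hc a ha) hb'
  obtain ⟨a, ha, a2, e1⟩ := d.symm.surj hb' bi'.1 hx x2
  have k : c * a ∈ Cen P := mul_mem hc (cen.2 (d.ts.ab P d.hP a ha))
  have h1 : b' ∈ Cen1 (c * a) := c1s.1 (c1'.2 (by
    calc _ = c * (a * b' * a⁻¹) * c⁻¹ := by group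
      _ = c * b' * c⁻¹ * (c * x * c⁻¹) := by rw [e1]; group
      _ = b' := by rw [e, cj_of (h x hx x2), mul_assoc, x2, mul_one]))
  obtain ⟨n, e2⟩ := d.swap hb bi.1 hb' bi'.1
  refine ⟨a, ha, a2, cen_iff_le.2 ?_⟩
  rw [← e2, ← conjS_eq_of_mem (inv_mem (pow_mem (mul_mem (cen_iff_le.1 k hb) h1) n))]
  exact conjS_mono _ (cen_iff_le.1 k)

theorem conj (g : G) : Ad F (conjS g P) (conjS g Q) := by
  refine d.ts.ad_of (d.ts.conj P d.hP g) (d.ts.conj Q d.hQ g) ?_ fun e => d.ncm fun a ha x hx => ?_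
  · rintro _ ⟨a, ha, rfl⟩ a2 _ ⟨x, hx, rfl⟩ x2
    exact conj_cm (d.cm a ha (conj_eq_one_iff.1 ((conj_sq g a).symm.trans a2)) x hx
      (conj_eq_one_iff.1 ((conj_sq g x).symm.trans x2))) g
  · simpa [mul_assoc] using conj_cm (e _ (conj_mem_conjS ha) _ (conj_mem_conjS hx)) g⁻¹

theorem conj' (hg : g ∈ Nor P) : Ad F P (conjS g Q) := by
  have := d.conj g
  rwa [mem_normalizer_iff_conjS.1 hg] at this

end Ad

theorem TS.lemS (h : TS F) (hP : P ∈ F) (hQ : Q ∈ F)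
    (hc : ∀ a ∈ P, Inv a → Cm Q (conjS a Q)) : CA P Q := by
  obtain ⟨b, hb, bi⟩ := h.e4 Q hQ
  obtain ⟨a, ha, a', ha', ai, ai', ne⟩ := h.rk P hP
  have e0 := h.ab P hP a ha a' ha'
  have c : ∀ a ∈ P, Inv a → b * (a * b * a⁻¹) = a * b * a⁻¹ * b := fun a ha ai =>
    hc a ha ai b hb _ (conj_mem_conjS hb)
  have k : ∀ a ∈ P, Inv a → b * (a * b * a⁻¹) ∈ Nor P := fun a ha ai =>
    h.cnr hP ha ai.1 (of_cj (by
      calc a * (b * (a * b * a⁻¹)) * a⁻¹ = a * b * a⁻¹ * (a * a * b * (a * a)⁻¹) := by group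
        _ = _ := by rw [ai.2, c a ha ai]; group)).symm
  refine h.ca_of hP hQ (mul_mem hb hb) (mem_of_eq (mul_mem (mul_mem (k a' ha' ai')
    (inv_mem (SF.cmem (le_normalizer ha') (k a ha ai))))
    (k _ (mul_mem ha' ha) (ai'.mul ai ne.symm e0.symm))) ?_) bi.1
  have c1 := c _ (mul_mem ha' ha) (ai'.mul ai ne.symm e0.symm)
  have c2 := conj_cm (c a ha ai) a'
  have e : a' * (a * b * a⁻¹) * a'⁻¹ = a' * a * b * (a' * a)⁻¹ := by group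
  rw [show a' * (b * (a * b * a⁻¹)) * a'⁻¹ = a' * b * a'⁻¹ * (a' * (a * b * a⁻¹) * a'⁻¹) by group,
    c2, e, c1]
  group

/-- an involution swapping two adjacent members -/
theorem Ad.lemT (d : Ad F P (conjS r P)) (r2 : r * r = 1) : ∃ R ∈ F, ∃ t ∈ R, t * t ≠ 1 ∧
    r ∈ Nor R ∧ (∃ x ∈ P, x * x = 1 ∧ x * (r * x * r⁻¹) ≠ 1 ∧ x * (r * x * r⁻¹) ∈ R) ∧
      ((∀ y ∈ R, y * y = 1 → r * y = y * r) → ∀ x ∈ P, x * x = 1 → r * t * x = x * (r * t)) := by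
  have el := d.pre.el
  have back : ∀ x ∈ conjS r P, r * x * r⁻¹ ∈ P := fun x hx => by
    simpa only [inv_eq_of_mul_eq_one_right r2] using mem_conjS.1 hx
  have rn : r ∈ Nor (VV P (conjS r P)) := mnor fun v hv => by
    obtain ⟨a, ha, x, hx, rfl⟩ := d.mem_V.1 hv
    exact mem_of_eq (mul_mem (d.mV2 (conj_mem_conjS ha.1) (conj_sq1 r ha.2))
      (d.mV1 (back x hx.1) (conj_sq1 r hx.2))) (by group)
  obtain ⟨b, hb, bi⟩ := d.ts.e4 P d.hP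
  obtain ⟨bn, tb⟩ := d.tv hb bi.1
  obtain ⟨cn, tc⟩ := d.tv' (conj_mem_conjS (g := r) hb) (by rw [conj_sq]; exact conj_ne r bi.1)
  obtain ⟨j, e⟩ := d.ts.tv_odd el tb tc d.pre.gen
  have gP : ∀ x ∈ P, x * x = 1 → x ∈ VV P (conjS r P) := fun x => d.mV1
  generalize VV P (conjS r P) = V at *
  set ρ := ac V ⟨r, rn⟩ with hρ
  set β := ac V ⟨b, bn⟩ with hβ
  have ρ2 : ρ * ρ = 1 := by rw [hρ, ← map_mul, ← map_one (ac V)]; congr 1; exact Subtype.ext r2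
  have e1 : β * ac V ⟨_, cn⟩ = (β * ρ) ^ 2 := by
    have : ac V ⟨_, cn⟩ = ρ * β * ρ⁻¹ := by rw [hρ, hβ, ← map_inv, ← map_mul, ← map_mul]; rfl
    rw [this, BS.inv_eq_self_of_sq ρ2, pow_two, mul_assoc, mul_assoc]
  have e2 : (β * ρ) ^ (2 * j + 1) * (β * ρ) ^ (2 * j + 1) = 1 := by
    rw [← pow_add, ← two_mul, pow_mul, ← e1, ← e, pow_orderOf_eq_one]
  obtain ⟨c1, c2, c3⟩ := dih_cen tb.sq ρ2 e2
  have e3 := dih_odd ρ2 tb.sq j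
  rw [c3] at e3
  generalize (β * ρ) ^ (2 * j + 1) = ζ at *
  have tt := d.ts.tv_conj tb ((⟨r, rn⟩ * ⟨b, bn⟩) ^ j)
  set k : Nor V := (⟨r, rn⟩ * ⟨b, bn⟩) ^ j with hk
  have e4 : ac V k = (ρ * β) ^ j := by rw [hk, map_pow, map_mul]
  rw [e4, ← e3] at tt
  have e5 : ac V (⟨r, rn⟩ * (k⁻¹ * ⟨b, bn⟩ * k)) = ζ := by
    rw [map_mul, map_mul, map_mul, map_inv, e4, ← hβ, ← e3, ← mul_assoc, ρ2, one_mul]
  have zP : ∀ x : V, (x : G) ∈ P → ((ζ x : V) : G) ∈ P := fun x hx => (tb.fix _).1 (by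
    rw [← MulAut.mul_apply, c1, MulAut.mul_apply, (tb.fix x).2 hx])
  have ρρ : ∀ x, ρ (ρ x) = x := fun x => by rw [← MulAut.mul_apply, ρ2]; rfl
  have cV : ∀ x y : V, x * y = y * x := fun x y => Subtype.ext (el_comm el x.2 y.2)
  refine ⟨_, tt.mem, (k : G)⁻¹ * b * k, by simpa using conj_mem_conjS (g := (k : G)⁻¹) hb,
    by simpa using conj_ne (k : G)⁻¹ bi.1 ∘ (conj_sq _ b).symm.trans, ?_, ?_, fun h x hx x2 => ?_⟩
  · obtain ⟨y, y1, hy⟩ := tt.ex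
    refine d.ts.nor tt.mem hy (fun e => y1 (Subtype.ext e)) ((tt.fix (ρ y)).1 ?_)
    rw [← MulAut.mul_apply, mul_assoc, ← c2, MulAut.mul_apply, (tt.fix y).2 hy]
  · obtain ⟨y, hy, yi⟩ := d.ts.ex_inv d.hP
    obtain ⟨x, x1, hx, e⟩ : ∃ x : V, x ≠ 1 ∧ (x : G) ∈ P ∧ ζ x = x := by
      by_cases e : ⟨y, gP y hy yi.2⟩ * ζ ⟨y, gP y hy yi.2⟩ = 1
      · exact ⟨_, fun e => yi.1 (congrArg Subtype.val e), hy, (eq_inv_of_mul_eq_one_right e).trans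
          (Subtype.ext yi.inv)⟩
      · exact ⟨_, e, mul_mem hy (zP _ hy), by rw [map_mul, ← MulAut.mul_apply, e2, cV]; rfl⟩
    refine ⟨x, hx, el x x.2, fun e => x1 (Subtype.ext (d.ts.one d.hP d.hQ d.ne hx ?_)),
      (tt.fix (x * ρ x)).1 ?_⟩
    · rw [eq_inv_of_mul_eq_one_left e]; exact inv_mem (conj_mem_conjS hx)
    · rw [map_mul, MulAut.mul_apply, e, c2, MulAut.mul_apply, ρρ, e, cV]
  · obtain ⟨x, rfl⟩ : ∃ y : V, (y : G) = x := ⟨⟨x, gP x hx x2⟩, rfl⟩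
    have h1 := tt.mem_mul el x
    have h2 : ρ (x * (ρ * ζ) x) = x * (ρ * ζ) x := Subtype.ext (cj_of (h _ h1 (el _ (SetLike.coe_mem _))))
    rw [map_mul, MulAut.mul_apply, ρρ] at h2
    have h3 : x⁻¹ * ζ x = ρ (x⁻¹ * ζ x) := by
      rw [map_mul, map_inv, eq_inv_mul_iff_mul_eq, ← mul_assoc, cV (ρ x), mul_assoc, h2,
        inv_mul_cancel_left]
    have h4 : ((x⁻¹ * ζ x : V) : G) ∈ P := mul_mem (inv_mem hx) (zP x hx)
    have h5 := d.ts.one d.hP d.hQ d.ne h4 (by rw [h3]; exact conj_mem_conjS h4)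
    have h6 : ζ x = x := (inv_mul_eq_one.1 (Subtype.ext h5)).symm
    rw [← e5] at h6
    exact of_cj (congrArg Subtype.val h6)

end H8.Ti
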