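import Cfsg.Agent.H8.Ti2

/-! Abelian TI-subgroups of exponent at least four: special pairs. -/

set_option autoImplicit false
set_option linter.unusedSectionVars false

namespace H8.Ti

open Cfsg Subgroup FT H4 H5 GW
open BS (Inv)
open H8.Sq (P2 p2_of_sq)
open scoped commutatorElement

variable {G : Type*} [Group G] [Finite G] {F : Set (Subgroup G)} {P Q R V P1 P2 : Subgroup G}
  {a b c g k r s t w x y z : G}

/-- `g` centralizes the involutions of `P` -/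
def CI (g : G) (P : Subgroup G) : Prop := ∀ a ∈ P, a * a = 1 → g * a = a * g

theorem CI.mul (h : CI g P) (h' : CI k P) : CI (g * k) P := fun a ha a2 => by
  rw [mul_assoc, h' a ha a2, ← mul_assoc, h a ha a2, mul_assoc]

theorem CI.inv (h : CI g P) : CI g⁻¹ P := fun a ha a2 =>
  (show Commute g a from h a ha a2).inv_left.eq

theorem CI.of_eq (h : CI g P) (e : g = k) : CI k P := e ▸ h

theorem CA.ci (h : CA P Q) (ha : a ∈ P) (a2 : a * a = 1) : CI a Q := h a ha a2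

theorem CI.of_cen (h : g ∈ Cen P) : CI g P := fun a ha _ => cen.1 h a ha

theorem TS.ci_self (h : TS F) (hP : P ∈ F) (ha : a ∈ P) : CI a P := fun b hb _ => h.ab P hP a ha b hb

theorem TS.ca_ci (h : TS F) (hP : P ∈ F) (hQ : Q ∈ F) (hx : x ∈ P) (x1 : x ≠ 1) (e : CI x Q) :
    CA P Q :=
  let ⟨a, ha, ai⟩ := h.ex_inv hQ
  (h.ca_of' hQ hP ha ai.1 hx x1 (e a ha ai.2)).symm

theorem TS.ci_nor (h : TS F) (hP : P ∈ F) (e : CI g P) : g ∈ Nor P :=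
  let ⟨a, ha, ai⟩ := h.ex_inv hP
  h.cnr hP ha ai.1 (e a ha ai.2)

theorem Ad.ca (d : Ad F P Q) : CA P Q := d.cm

theorem Ad.ci (d : Ad F P Q) (hx : x ∈ Q) (x2 : x * x = 1) : CI x P := d.ca.symm.ci hx x2

theorem Ad.ci_sq (d : Ad F P Q) (hb : b ∈ P) (e : CI b Q) : b * b = 1 :=
  d.symm.sq_of hb (d.ts.ci_nor d.hQ e)

/-- `x t` centralizing the involutions of `P2` is an involution -/
theorem Ad.rl_inv (d : Ad F R P2) (ht : t ∈ R) (h1 : CI x R) (x2 : x * x = 1)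
    (h2 : CI (x * t) P2) : x * t * x⁻¹ = t⁻¹ := by
  have e : x * t * (x * t) = x * t * x⁻¹ * t := by rw [inv_eq_of_mul_eq_one_right x2]; group
  have := d.symm.eq1' (e ▸ mul_mem (cmem (d.ts.ci_nor d.hP h1) ht) ht)
    (d.symm.sq h2 (h1.mul (d.ts.ci_self d.hP ht)))
  exact eq_inv_of_mul_eq_one_left (e ▸ this)

theorem TS.half (h : TS F) (h1 : P1 ∈ F) (hn : ¬ CA P1 P2) (hx : x ∈ P1) (xi : Inv x)
    (d : Ad F P2 (conjS x P2)) : ∃ R, Ad F R P1 ∧ Ad F R P2 ∧ ∃ t ∈ R, CI (x * t) P2 := by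
  obtain ⟨R, hR, t, ht, t2, xn, ⟨y, hy, y2, y1, yR⟩, hc⟩ := d.lemT xi.2
  have c1 := h.ca_of hR h1 hx xn xi.1
  have c2 : CI (x * t) P2 := hc (c1.symm.ci hx xi.2)
  have d2 : Ad F R P2 := h.ad_of hR d.hP (h.ca_ci hR d.hP yR y1 ((h.ci_self d.hP hy).mul
    (d.ci (conj_mem_conjS hy) (conj_sq1 x y2)))) fun e => hn (h.ca_ci h1 d.hP hx xi.1
      ((c2.mul (CI.inv fun a ha _ => e t ht a ha)).of_eq (by group)))
  refine ⟨R, h.ad_of hR h1 c1 fun e => t2 ?_, d2, t, ht, c2⟩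
  have := d2.rl_inv ht (c1.symm.ci hx xi.2) xi.2 c2
  rw [cj_of (e t ht x hx).symm] at this
  exact mul_eq_one_iff_eq_inv.2 this

theorem Ad.rl_cj (d : Ad F R P2) (ht : t ∈ R) (h2 : CI (x * t) P2) (hy : y ∈ P2)
    (y2 : y * y = 1) : ∃ a ∈ R, a * a = 1 ∧ y * x * y⁻¹ = x * a := by
  obtain ⟨a, ha, a2, e⟩ := d.act ht hy y2
  refine ⟨a, ha, a2, ?_⟩
  calc _ = y * (x * t) * y⁻¹ * (y * t * y⁻¹)⁻¹ := by group
    _ = x * (t * a⁻¹ * t⁻¹) := by rw [cj_of (h2 y hy y2).symm, e]; group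
    _ = _ := by rw [inv_eq_of_mul_eq_one_right a2, cj_of (d.ts.ab R d.hP t ht a ha)]

theorem Ad.step (d1 : Ad F R P1) (d2 : Ad F R P2) (hn : ¬ CA P1 P2) (hx : x ∈ P1) (xi : Inv x)
    (ht : t ∈ R) (h2 : CI (x * t) P2) (hy : y ∈ P2) (y2 : y * y = 1) :
    ∃ t ∈ R, CI (y * t) P1 := by
  have h := d1.ts
  by_cases y1 : y = 1
  · exact ⟨1, one_mem _, fun a _ _ => by simp [y1]⟩
  obtain ⟨a, ha, a2, e⟩ := d2.rl_cj ht h2 hy y2
  have a1 : a ≠ 1 := fun e1 => hn (h.ca_of' d1.hQ d2.hQ hx xi.1 hy y1 (of_cj (by simpa [e1] using e)))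
  have m : x * a ∈ conjS y P1 := e ▸ conj_mem_conjS hx
  have d : Ad F P1 (conjS y P1) := h.ad_of d1.hQ (h.conj _ d1.hQ y) (h.ca_ci (h.conj _ d1.hQ y) d1.hQ
    m (e ▸ conj_ne y xi.1) ((h.ci_self d1.hQ hx).mul (d1.symm.ci ha a2))).symm fun c =>
      a1 (d1.symm.eq1' ha (mem_of_eq (mul_mem (inv_mem (cen.2 (h.ab _ d1.hQ x hx)))
        (cen.2 fun b hb => (c b hb _ m).symm)) (by group)))
  obtain ⟨R', e2, e1, t', ht', c⟩ := h.half d2.hQ (fun c => hn c.symm) hy ⟨y1, y2⟩ d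
  obtain ⟨a', ha', a2', e'⟩ := e1.rl_cj ht' c hx xi.2
  have : a = a' := by
    calc a = x * (y * x * y⁻¹) := by rw [e, ← mul_assoc, xi.2, one_mul]
      _ = x * y * x⁻¹ * y⁻¹ := by rw [xi.inv]; group
      _ = a' := by rw [e', cj_of (e2.cm a' ha' a2' y hy y2).symm]
  exact h.ti R' e1.hP R d1.hP a (this ▸ ha') ha a1 ▸ ⟨t', ht', c⟩

/-- a special pair with center `R` -/
structure Sp (F : Set (Subgroup G)) (P1 P2 R : Subgroup G) : Prop where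
  d1 : Ad F R P1
  d2 : Ad F R P2
  nc : ¬ CA P1 P2
  t1 : ∀ x ∈ P1, x * x = 1 → ∃ t ∈ R, CI (x * t) P2
  t2 : ∀ x ∈ P2, x * x = 1 → ∃ t ∈ R, CI (x * t) P1

theorem TS.sp (h : TS F) (h1 : P1 ∈ F) (hn : ¬ CA P1 P2) (hx : x ∈ P1) (xi : Inv x)
    (d : Ad F P2 (conjS x P2)) : ∃ R, Sp F P1 P2 R := by
  obtain ⟨R, d1, d2, t, ht, c⟩ := h.half h1 hn hx xi d
  obtain ⟨y, hy, yi⟩ := h.ex_inv d.hP
  obtain ⟨t', ht', c'⟩ := d1.step d2 hn hx xi ht c hy yi.2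
  exact ⟨R, d1, d2, hn, fun _ => d2.step d1 (fun e => hn e.symm) hy yi ht' c',
    fun _ => d1.step d2 hn hx xi ht c⟩

theorem Sp.symm (s : Sp F P1 P2 R) : Sp F P2 P1 R :=
  ⟨s.d2, s.d1, fun e => s.nc e.symm, s.t2, s.t1⟩

theorem Sp.ne1 (s : Sp F P1 P2 R) (hx : x ∈ P1) (ht : t ∈ R) (t2 : t * t = 1)
    (c : CI (x * t) P2) : x = 1 := by
  by_contra x1
  exact s.nc (s.d1.ts.ca_ci s.d1.hQ s.d2.hQ hx x1 ((c.mul (s.d2.symm.ci ht t2).inv).of_eq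
    (by group)))

theorem Ad.rl_mul (d1 : Ad F R P1) (d2 : Ad F R P2) (hy : y ∈ P1) (y2 : y * y = 1) (ht : t ∈ R)
    (c : CI (x * t) P2) (c' : CI (y * s) P2) : CI (x * y * (t * s)) P2 := by
  obtain ⟨a, ha, a2, e⟩ := d1.act ht hy y2
  refine ((c.mul (d2.symm.ci ha a2)).mul c').of_eq ?_
  rw [mul_assoc x, ← e, inv_eq_of_mul_eq_one_right y2]
  calc _ = x * y * t * (y * y) * s := by group
    _ = _ := by rw [y2]; group

/-- the commutator map -/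
def ps (x b : G) : G := b⁻¹ * (x * b * x⁻¹)

theorem ps_cj (x b : G) : x * b * x⁻¹ = b * ps x b := by rw [ps]; group

theorem ps_of (e : x * b * x⁻¹ = b * a) : ps x b = a := by rw [ps, e]; group

theorem ps_one : ps x b = 1 ↔ x * b = b * x :=
  ⟨fun e => of_cj (by rw [ps_cj, e, mul_one]), fun e => ps_of (by rw [cj_of e, mul_one])⟩

theorem ps_conj (g x b : G) : ps (g * x * g⁻¹) (g * b * g⁻¹) = g * ps x b * g⁻¹ := by
  rw [ps, ps]; group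

/-- every commutator map is onto -/
def Full (F : Set (Subgroup G)) : Prop := ∀ P Q, Ad F P Q → ∀ x ∈ Q, Inv x → ∀ a ∈ P, a * a = 1 →
  ∃ b ∈ P, ps x b = a

namespace Ad

variable (d : Ad F P Q)
include d

theorem ps_mem (hx : x ∈ Q) (x2 : x * x = 1) (hb : b ∈ P) : ps x b ∈ P ∧ ps x b * ps x b = 1 :=
  let ⟨_, ha, a2, e⟩ := d.act hb hx x2
  ps_of e ▸ ⟨ha, a2⟩

theorem ps_mul (hx : x ∈ Q) (x2 : x * x = 1) (hb : b ∈ P) (hc : c ∈ P) :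
    ps x (b * c) = ps x b * ps x c := ps_of (by
  rw [show x * (b * c) * x⁻¹ = x * b * x⁻¹ * (x * c * x⁻¹) by group, ps_cj, ps_cj, mul_assoc,
    ← mul_assoc _ c, ← d.ts.ab P d.hP c hc _ (d.ps_mem hx x2 hb).1]
  group)

theorem ps_mul' (hy : y ∈ Q) (y2 : y * y = 1) (hx : CI x P) (hb : b ∈ P) :
    ps (x * y) b = ps x b * ps y b := ps_of (by
  have := d.ps_mem hy y2 hb
  calc _ = x * (y * b * y⁻¹) * x⁻¹ := by group
    _ = x * b * x⁻¹ * (x * ps y b * x⁻¹) := by rw [ps_cj y]; group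
    _ = _ := by rw [cj_of (hx _ this.1 this.2), ps_cj, mul_assoc])

theorem ps_inj (hx : x ∈ Q) (xi : Inv x) (hb : b ∈ P) (hc : c ∈ P) (e : ps x b = ps x c) :
    b⁻¹ * c * (b⁻¹ * c) = 1 := by
  refine d.c1 x hx xi.1 _ (mul_mem (inv_mem hb) hc) (ps_one.1 ?_).symm
  have := d.ps_mul hx xi.2 hb (mul_mem (inv_mem hb) hc)
  rw [mul_inv_cancel_left, e] at this
  exact left_eq_mul.1 this

theorem ps_inj' (hx : x ∈ Q) (x2 : x * x = 1) (hy : y ∈ Q) (y2 : y * y = 1) (hb : b ∈ P)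
    (b2 : b * b ≠ 1) (e : ps x b = ps y b) : x = y := by
  have := d.eq1 (mul_mem hx hy) hb b2 (ps_one.1 (by
    rw [d.ps_mul' hy y2 (d.ci hx x2) hb, e, (d.ps_mem hy y2 hb).2])).symm
  rw [eq_inv_of_mul_eq_one_left this, inv_eq_of_mul_eq_one_right y2]

theorem ps_surj (hb : b ∈ P) (b2 : b * b ≠ 1) (ha : a ∈ P) (a2 : a * a = 1) :
    ∃ x ∈ Q, x * x = 1 ∧ ps x b = a :=
  let ⟨x, hx, x2, e⟩ := d.surj hb b2 ha a2
  ⟨x, hx, x2, ps_of e⟩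

theorem ps_inv (hb : b ∈ P) : ps x b = b * b ↔ x * b * x⁻¹ = b⁻¹ := by
  have : b⁻¹ = b * (b * b) := inv_eq_of_mul_eq_one_right (by rw [← mul_assoc, d.exp4 hb])
  rw [this, ps_cj, mul_right_inj]

theorem ps_swap (hx : x ∈ Q) (x2 : x * x = 1) (hb : b ∈ P) : b * x * b⁻¹ = ps x b * x :=
  have := d.ps_mem hx x2 hb
  swap_cj (d.ts.ab P d.hP _ this.1 b hb) this.2 (ps_cj x b)

end Ad

theorem Sp.surj (s : Sp F P1 P2 R) (d : Ad F (conjS g R) Q) (hx : x ∈ Q) (xi : Inv x)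
    (ha : a ∈ conjS g R) (a2 : a * a = 1) : ∃ y ∈ P1, y * y = 1 ∧ ∃ t ∈ R, CI (y * t) P2 ∧
      ps x (g * t * g⁻¹) = a := by
  have h := d.ts
  have m := fun x : Om P1 => (h.mem_Om s.d1.hQ).1 x.2
  choose T h1 h2 using fun x : Om P1 => s.t1 x (m x).1 (m x).2
  have k := fun u => d.ps_mem hx xi.2 (conj_mem_conjS (h1 u))
  have i : Function.Injective fun u => (⟨_, mem_Om' (k u).1 (k u).2⟩ : Om (conjS g R)) :=
    fun u v e => by
      have e1 := d.ps_inj hx xi (conj_mem_conjS (h1 u)) (conj_mem_conjS (h1 v))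
        (congrArg Subtype.val e)
      have e2 : (T u)⁻¹ * T v * ((T u)⁻¹ * T v) = 1 :=
        conj_eq_one_iff.1 (Eq.trans (by group) e1 : g * _ * g⁻¹ = 1)
      have e3 : T u * T v * (T u * T v) = 1 := by
        rw [show T u * T v = T u * T u * ((T u)⁻¹ * T v) by group, sq_mul (h.ab R s.d1.hP _
          (mul_mem (h1 u) (h1 u)) _ (mul_mem (inv_mem (h1 u)) (h1 v))), s.d1.exp4 (h1 u), e2, one_mul]
      have := s.ne1 (mul_mem (m u).1 (m v).1) (mul_mem (h1 u) (h1 v)) e3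
        (s.d1.rl_mul s.d2 (m v).1 (m v).2 (h1 u) (h2 u) (h2 v))
      exact Subtype.ext (by rw [eq_inv_of_mul_eq_one_left this, inv_eq_of_mul_eq_one_right (m v).2])
  obtain ⟨u, e⟩ := (i.bijective_of_nat_card_le (h.card_Om d.hP s.d1.hQ).le).2 ⟨a, mem_Om' ha a2⟩
  exact ⟨u, (m u).1, (m u).2, T u, h1 u, h2 u, congrArg Subtype.val e⟩

theorem Sp.full (s : Sp F P1 P2 R) : Full F := fun P Q d x hx xi a ha a2 => by
  obtain ⟨g, rfl⟩ := d.ts.tr R s.d1.hP P d.hP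
  obtain ⟨-, -, -, t, ht, -, e⟩ := s.surj d hx xi ha a2
  exact ⟨_, conj_mem_conjS ht, e⟩

theorem Sp.onto (s : Sp F P1 P2 R) (ht : t ∈ R) : ∃ y ∈ P1, y * y = 1 ∧ CI (y * t) P2 := by
  obtain ⟨x, hx, xi⟩ := s.d1.ts.ex_inv s.d2.hQ
  have := s.d2.ps_mem hx xi.2 ht
  obtain ⟨y, hy, y2, u, hu, c, e⟩ := s.surj (g := 1) (by simpa using s.d2) hx xi (by simpa using this.1)
    this.2
  rw [one_mul, inv_one, mul_one] at e
  exact ⟨y, hy, y2, (c.mul (s.d2.symm.ci (mul_mem (inv_mem hu) ht)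
    (s.d2.ps_inj hx xi hu ht e))).of_eq (by group)⟩

/-- a swapping element -/
structure Sw (P Q : Subgroup G) (b w : G) : Prop where
  mem : w ∈ P ⊔ Q
  e1 : conjS w P = Q
  e2 : conjS w Q = P
  ps : ∀ y ∈ Q, y * y = 1 → w * y * w⁻¹ = ps y b
  s2 : CI (w * w) Q

theorem Ad.sw (d : Ad F P Q) (hF : Full F) (hb : b ∈ P) (b2 : b * b ≠ 1) : ∃ w, Sw P Q b w := by
  obtain ⟨x, hx, xi⟩ := d.ts.ex_inv d.hQ
  have ha := d.ps_mem hx xi.2 hb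
  have a1 : ps x b ≠ 1 := fun e => xi.1 (d.eq1 hx hb b2 (ps_one.1 e).symm)
  obtain ⟨c, hc, e⟩ := hF Q P d.symm _ ha.1 ⟨a1, ha.2⟩ x hx xi.2
  have f1 : ∀ a ∈ P, a * a = 1 → b * c * b * a * (b * c * b)⁻¹ =
      ps (ps a c) b * a * ps a c := fun a ha a2 => by
    have h1 := d.symm.ps_mem ha a2 hc
    calc _ = b * (c * (b * a * b⁻¹) * c⁻¹) * b⁻¹ := by group
      _ = b * (ps a c * a) * b⁻¹ := by
        rw [cj_of (d.ts.ab P d.hP b hb a ha), d.symm.ps_swap ha a2 hc]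
      _ = b * ps a c * b⁻¹ * (b * a * b⁻¹) := by group
      _ = _ := by
        rw [cj_of (d.ts.ab P d.hP b hb a ha), d.ps_swap h1.1 h1.2 hb, mul_assoc, mul_assoc,
          d.cm a ha a2 _ h1.1 h1.2]
  have e1 : b * c * b * ps x b * (b * c * b)⁻¹ = x := by rw [f1 _ ha.1 ha.2, e, ha.2, one_mul]
  have e1' := d.ts.eq_of d.hP d.hQ ha.1 a1 (e1 ▸ hx)
  have f2 : ∀ a ∈ P, a * a = 1 → ps (ps a c) b = a ∧ b * c * b * a * (b * c * b)⁻¹ = ps a c :=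
    fun a ha a2 => by
      have h1 := d.symm.ps_mem ha a2 hc
      have h2 := d.ps_mem h1.1 h1.2 hb
      have h3 : _ ∈ Q := e1' ▸ conj_mem_conjS ha
      rw [f1 a ha a2] at h3 ⊢
      have := d.ts.one d.hP d.hQ d.ne (mul_mem h2.1 ha) (by simpa using mul_mem h3 (inv_mem h1.1))
      exact ⟨by rw [eq_inv_of_mul_eq_one_left this, inv_eq_of_mul_eq_one_right a2],
        by rw [this, one_mul]⟩
  have c2 : c * c ≠ 1 := fun c2 => xi.1 (e ▸ ps_one.2 (d.cm _ ha.1 ha.2 c hc c2))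
  have f3 : ∀ y ∈ Q, y * y = 1 → ps (ps y b) c = y := fun y hy y2 => by
    obtain ⟨a, ha, a2, rfl⟩ := d.symm.ps_surj hc c2 hy y2
    rw [(f2 a ha a2).1]
  have f4 : ∀ y ∈ Q, y * y = 1 → b * c * b * y * (b * c * b)⁻¹ = ps y b := fun y hy y2 => by
    have h1 := d.ps_mem hy y2 hb
    calc _ = b * (c * (b * y * b⁻¹) * c⁻¹) * b⁻¹ := by group
      _ = b * (c * ps y b * c⁻¹ * (c * y * c⁻¹)) * b⁻¹ := by rw [d.ps_swap hy y2 hb]; group
      _ = _ := by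
        rw [d.symm.ps_swap h1.1 h1.2 hc, f3 y hy y2, cj_of (d.ts.ab Q d.hQ c hc y hy),
          ← d.cm _ h1.1 h1.2 y hy y2, mul_assoc _ y, y2, mul_one,
          cj_of (d.ts.ab P d.hP b hb _ h1.1)]
  refine ⟨b * c * b, mul_mem (mul_mem (mem_sup_left hb) (mem_sup_right hc)) (mem_sup_left hb), e1',
    d.ts.eq_of d.hQ d.hP hx xi.1 (f4 x hx xi.2 ▸ ha.1), f4, fun y hy y2 => of_cj ?_⟩
  have h1 := d.ps_mem hy y2 hb
  rw [show ∀ w : G, w * w * y * (w * w)⁻¹ = w * (w * y * w⁻¹) * w⁻¹ from fun w => by group,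
    f4 y hy y2, (f2 _ h1.1 h1.2).2, f3 y hy y2]

namespace Sw

variable (σ : Sw P Q b w)
include σ

theorem m1 (ha : a ∈ P) : w * a * w⁻¹ ∈ Q := σ.e1 ▸ conj_mem_conjS ha

theorem m2 (ha : a ∈ Q) : w * a * w⁻¹ ∈ P := σ.e2 ▸ conj_mem_conjS ha

theorem ww (hy : y ∈ Q) (y2 : y * y = 1) : w * (w * y * w⁻¹) * w⁻¹ = y := by
  conv_rhs => rw [← cj_of (σ.s2 y hy y2)]
  group

theorem ww' (hy : y ∈ P) (y2 : y * y = 1) : w * (w * y * w⁻¹) * w⁻¹ = y := by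
  have := σ.ww (σ.m1 hy) (conj_sq1 w y2)
  exact (MulAut.conj w).injective this

theorem inv_cj (hy : y ∈ Q) (y2 : y * y = 1) : w⁻¹ * y * w⁻¹⁻¹ = w * y * w⁻¹ := by
  conv_lhs => rw [← σ.ww hy y2]
  group

end Sw

/-- a diagonal element -/
structure Dg (P Q : Subgroup G) (k : G) : Prop where
  mem : k ∈ P ⊔ Q
  n1 : k ∈ Nor P
  n2 : k ∈ Nor Q
  f1 : ∀ a ∈ P, k * a = a * k → a = 1
  f2 : ∀ a ∈ Q, k * a = a * k → a = 1

theorem Ad.fpf (d : Ad F P Q) (h : ∀ a ∈ P, a * a = 1 → k * a = a * k → a = 1) (ha : a ∈ P)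
    (e : k * a = a * k) : a = 1 :=
  h a ha (h _ (mul_mem ha ha) (d.exp4 ha) ((show Commute k a from e).mul_right e)) e

theorem Ad.dg (d : Ad F P Q) (hF : Full F) : ∃ k, Dg P Q k := by
  obtain ⟨a, ha, a', ha', ai, ai', ne⟩ := d.ts.rk P d.hP
  obtain ⟨x, hx, xi⟩ := d.ts.ex_inv d.hQ
  obtain ⟨b, hb, e⟩ := hF P Q d x hx xi a ha ai.2
  obtain ⟨c, hc, e'⟩ := hF P Q d x hx xi a' ha' ai'.2
  have n : ∀ b ∈ P, ps x b ≠ 1 → b * b ≠ 1 := fun b hb e b2 =>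
    e (ps_one.2 (d.cm b hb b2 x hx xi.2).symm)
  obtain ⟨w, s⟩ := d.sw hF hb (n b hb (e ▸ ai.1))
  obtain ⟨w', s'⟩ := d.sw hF hc (n c hc (e' ▸ ai'.1))
  have key : ∀ y ∈ Q, y * y = 1 → w * y * w⁻¹ = w' * y * w'⁻¹ → y = 1 := fun y hy y2 e1 => by
    by_contra y1
    rw [s.ps y hy y2, s'.ps y hy y2] at e1
    have h1 := d.ps_inj hy ⟨y1, y2⟩ hb hc e1
    have h2 := d.ps_mul hx xi.2 hb (mul_mem (inv_mem hb) hc)
    rw [mul_inv_cancel_left, ps_one.2 (d.cm _ (mul_mem (inv_mem hb) hc) h1 x hx xi.2).symm, mul_one,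
      e, e'] at h2
    exact ne h2.symm
  have ck : ∀ y : G, w * w' * y = y * (w * w') → w * (w' * y * w'⁻¹) * w⁻¹ = y := fun y e => by
    conv_rhs => rw [← cj_of e]
    group
  refine ⟨w * w', mul_mem s.mem s'.mem, mem_normalizer_iff_conjS.2 ?_, mem_normalizer_iff_conjS.2 ?_,
    fun u hu => d.fpf (fun u hu u2 e => ?_) hu, fun u hu => d.symm.fpf (fun u hu u2 e => ?_) hu⟩
  · rw [← conjS_conjS, s'.e1, s.e2]
  · rw [← conjS_conjS, s'.e2, s.e1]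
  · exact conj_eq_one_iff.1 (key _ (s'.m1 hu) (conj_sq1 _ u2) (by rw [ck u e, s'.ww' hu u2]))
  · refine key u hu u2 ((MulAut.conj w).injective ?_)
    exact (s.ww hu u2).trans (ck u e).symm

end H8.Ti
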