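import Cfsg.Agent.H8.Ti3

/-! Abelian TI-subgroups of exponent at least four: special pairs force rank two. -/

set_option autoImplicit false
set_option linter.unusedSectionVars false

namespace H8.Ti

open Cfsg Subgroup FT H4 H5 GW
open BS (Inv)
open H8.Sq (P2 p2_of_sq)
open scoped commutatorElement

variable {G : Type*} [Group G] [Finite G] {F : Set (Subgroup G)} {P Q R V P1 P2 B : Subgroup G}
  {a b c g k r s t w x y z : G}

theorem q4_alg {A C : Type*} [CommGroup A] [CommGroup C] (eA : ∀ a : A, a * a = 1)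
    (eC : ∀ c : C, c * c = 1) (m : A → A → C) (add : ∀ x y z, m x (y * z) = m x y * m x z)
    (sym : ∀ x y, m x y = m y x) (inj : ∀ x y, x ≠ 1 → m x y = 1 → y = 1)
    (surj : ∀ x y, y ≠ 1 → ∃ z, m y z = m x x)
    (E : ∀ x y z, x ≠ 1 → y ≠ 1 → z ≠ 1 → m y z = m x x → m z z = m x y) {x y z : A}
    (x1 : x ≠ 1) (y1 : y ≠ 1) (ne : x ≠ y) : z = 1 ∨ z = x ∨ z = y ∨ z = x * y := by
  have i : ∀ x y : A, x * y = 1 → x = y := fun x y e => by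
    rw [eq_inv_of_mul_eq_one_left e, inv_eq_of_mul_eq_one_right (eA y)]
  have one : ∀ x, m x 1 = 1 := fun x => (left_eq_mul (a := m x 1)).1 (by rw [← add, mul_one])
  have sq : ∀ x y, m (x * y) (x * y) = m x x * m y y := fun x y => by
    rw [add, sym _ x, sym _ y, add, add, sym y x, mul_assoc, ← mul_assoc (m x y), eC, one_mul]
  have k : ∀ x y, x ≠ 1 → y ≠ 1 → ∃ z, m y z = m x x ∧ m y y = m x z := fun x y x1 y1 => by
    obtain ⟨z, e⟩ := surj x y y1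
    exact ⟨z, e, E x z y x1 (fun z1 => x1 (inj x x x1 (by rw [← e, z1, one]))) y1 (sym y z ▸ e)⟩
  have cl : ∀ x y, x ≠ 1 → y ≠ 1 → x ≠ y → m x y = m x x * m y y := fun x y x1 y1 ne => by
    obtain ⟨z, e1, e2⟩ := k x y x1 y1
    obtain ⟨z', e3, e4⟩ := k x (x * y) x1 fun e => ne (i x y e)
    have : x * z = z' := i _ _ (inj x _ x1 (by rw [add, add, ← e4, ← e2, sq, eC]))
    rw [← this, add, sym _ x, sym _ z, add, add, sym z x, sym z y, e1, ← e2] at e3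
    rw [mul_assoc, mul_eq_left] at e3
    rw [eq_inv_of_mul_eq_one_left e3, inv_eq_of_mul_eq_one_right (eC _), mul_comm]
  by_contra! h
  obtain ⟨z1, h1, h2, h3⟩ := h
  have := cl x (y * z) x1 (fun e => h2 (i y z e).symm) fun e => h3 (by
    rw [e, mul_comm y, mul_assoc, eA, mul_one])
  rw [add, cl x y x1 y1 ne, cl x z x1 z1 h1.symm, sq, mul_mul_mul_comm, eC, one_mul] at this
  exact x1 (inj x x x1 (right_eq_mul.1 this))

/-- the members have rank two -/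
def Q4 (F : Set (Subgroup G)) : Prop := ∀ P ∈ F, ∀ a ∈ P, ∀ b ∈ P, ∀ c ∈ P, Inv a → Inv b → a ≠ b →
  c * c = 1 → c = 1 ∨ c = a ∨ c = b ∨ c = a * b

theorem TS.sq_eq (h : TS F) (hP : P ∈ F) (hb : b ∈ P) (hc : c ∈ P)
    (e : b⁻¹ * c * (b⁻¹ * c) = 1) : b * b = c * c := by
  rw [sq_mul (h.ab P hP _ (inv_mem hb) c hc), ← mul_inv_rev] at e
  exact inv_mul_eq_one.1 e

theorem Sp.rl_sq (σ : Sp F P1 P2 R) (hx : x ∈ P1) (x2 : x * x = 1) (ht : t ∈ R)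
    (c : CI (x * t) P2) : ps x t = t * t :=
  (σ.d1.ps_inv ht).2 (σ.d2.rl_inv ht (σ.d1.ci hx x2) x2 c)

theorem Sp.key (σ : Sp F P1 P2 R) (hx : x ∈ P1) (xi : Inv x) (hz : z ∈ P1) (z2 : z * z = 1)
    {tx ty tz : G} (h1 : tx ∈ R) (h2 : ty ∈ R) (h3 : tz ∈ R) (y2 : ty * ty ≠ 1)
    (c1 : CI (x * tx) P2) (c3 : CI (z * tz) P2) (e : ps z ty = tx * tx) : tz * tz = ps x ty := by
  have d := σ.d1
  have x2 : tx * tx ≠ 1 := fun e => xi.1 (σ.ne1 hx h1 e c1)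
  obtain ⟨w, s⟩ := d.sw σ.full h2 y2
  obtain ⟨w', s'⟩ := d.sw σ.full h1 x2
  have e1 : w' * x * w'⁻¹ = tx * tx := by rw [s'.ps x hx xi.2, σ.rl_sq hx xi.2 h1 c1]
  have e2 : w * w' * x * (w * w')⁻¹ = z := by
    rw [← s.ww hz z2, s.ps z hz z2, e, ← e1]; group
  have m : w * w' * tx * (w * w')⁻¹ ∈ R := mem_of_eq (s.m2 (s'.m1 h1)) (by group)
  have s2 : w * w' * tx * (w * w')⁻¹ * (w * w' * tx * (w * w')⁻¹) = ps x ty := by
    rw [conj_sq, ← e1, ← s.ps x hx xi.2]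
    conv_rhs => rw [← s'.ww hx xi.2]
    group
  have e3 : ps z (w * w' * tx * (w * w')⁻¹) = ps x ty := by
    rw [← s2, ← e2, ps_conj, σ.rl_sq hx xi.2 h1 c1, conj_sq]
  have s3 : w * w' * tx * (w * w')⁻¹ * (w * w' * tx * (w * w')⁻¹) ≠ 1 := by
    rw [conj_sq]; exact conj_ne _ x2
  generalize w * w' * tx * (w * w')⁻¹ = u at m s2 e3 s3
  obtain ⟨v, hv, v2, c⟩ := σ.onto m
  obtain rfl := d.ps_inj' hv v2 hz z2 m s3 (by rw [σ.rl_sq hv v2 m c, e3, s2])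
  rw [← s2]
  exact d.ts.sq_eq d.hP h3 m (σ.d2.ci_sq (mul_mem (inv_mem h3) m) ((c3.inv.mul c).of_eq (by group)))

theorem Q4.of_one (h : TS F) (hP : P ∈ F) (e : ∀ a ∈ P, ∀ b ∈ P, ∀ c ∈ P, Inv a → Inv b → a ≠ b →
    c * c = 1 → c = 1 ∨ c = a ∨ c = b ∨ c = a * b) : Q4 F := fun Q hQ a ha b hb c hc ai bi ne c2 => by
  obtain ⟨g, rfl⟩ := h.tr Q hQ P hP
  have i : ∀ x y : G, g * x * g⁻¹ = g * y * g⁻¹ → x = y := fun x y e => (MulAut.conj g).injective e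
  exact (e _ (conj_mem_conjS ha) _ (conj_mem_conjS hb) _ (conj_mem_conjS hc)
    ⟨conj_ne g ai.1, conj_sq1 g ai.2⟩ ⟨conj_ne g bi.1, conj_sq1 g bi.2⟩ (fun e => ne (i _ _ e))
    (conj_sq1 g c2)).imp conj_eq_one_iff.1 (Or.imp (i _ _) (Or.imp (i _ _)
      fun e => i _ _ (e.trans (by group))))

theorem Sp.q4 (σ : Sp F P1 P2 R) : Q4 F := by
  have d := σ.d1
  have h := d.ts
  have m := fun x : Om P1 => (h.mem_Om d.hQ).1 x.2
  have m' := fun x : Om R => (h.mem_Om d.hP).1 x.2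
  choose T h1 h2 using fun x : Om P1 => σ.t1 x (m x).1 (m x).2
  have k := fun x y : Om P1 => d.ps_mem (m x).1 (m x).2 (h1 y)
  letI : CommGroup (Om P1) := { (inferInstance : Group (Om P1)) with
    mul_comm := fun x y => Subtype.ext (h.ab _ d.hQ x (m x).1 y (m y).1) }
  letI : CommGroup (Om R) := { (inferInstance : Group (Om R)) with
    mul_comm := fun x y => Subtype.ext (h.ab _ d.hP x (m' x).1 y (m' y).1) }
  have tm : ∀ x y z : Om P1, ps (x : G) (T (y * z)) = ps (x : G) (T y) * ps (x : G) (T z) := by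
    intro x y z
    have h3 := mul_mem (inv_mem (mul_mem (h1 y) (h1 z))) (h1 (y * z))
    have h4 := σ.d2.ci_sq h3 (((d.rl_mul σ.d2 (m z).1 (m z).2 (h1 y) (h2 y) (h2 z)).inv.mul
      (h2 (y * z))).of_eq (by rw [coe_mul]; group))
    have := d.ps_mul (m x).1 (m x).2 (mul_mem (h1 y) (h1 z)) h3
    rwa [mul_inv_cancel_left, ps_one.2 (d.cm _ h3 h4 _ (m x).1 (m x).2).symm, mul_one,
      d.ps_mul (m x).1 (m x).2 (h1 y) (h1 z)] at this
  have sq := fun x : Om P1 => σ.rl_sq (m x).1 (m x).2 (h1 x) (h2 x)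
  have n : ∀ y : Om P1, y ≠ 1 → T y * T y ≠ 1 := fun y y1 e =>
    y1 (Subtype.ext (σ.ne1 (m y).1 (h1 y) e (h2 y)))
  have sym : ∀ x y : Om P1, ps (x : G) (T y) = ps (y : G) (T x) := fun x y => by
    have h3 := σ.rl_sq (mul_mem (m x).1 (m y).1) (m (x * y)).2 (mul_mem (h1 x) (h1 y))
      (d.rl_mul σ.d2 (m y).1 (m y).2 (h1 x) (h2 x) (h2 y))
    rw [d.ps_mul' (m y).1 (m y).2 (d.ci (m x).1 (m x).2) (mul_mem (h1 x) (h1 y)),
      d.ps_mul (m x).1 (m x).2 (h1 x) (h1 y), d.ps_mul (m y).1 (m y).2 (h1 x) (h1 y), sq, sq,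
      sq_mul (h.ab _ d.hP _ (h1 x) _ (h1 y)), mul_assoc, mul_right_inj, ← mul_assoc,
      mul_eq_right] at h3
    rw [eq_inv_of_mul_eq_one_left h3, inv_eq_of_mul_eq_one_right (k y x).2]
  refine Q4.of_one h d.hQ fun a ha b hb c hc ai bi ne c2 => ?_
  have := q4_alg (fun x => Subtype.ext (m x).2) (fun x => Subtype.ext (m' x).2)
    (fun x y => (⟨_, mem_Om' (k x y).1 (k x y).2⟩ : Om R)) (fun x y z => Subtype.ext (tm x y z))
    (fun x y => Subtype.ext (sym x y))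
    (fun x y x1 e => by
      by_contra y1
      exact x1 (Subtype.ext (d.eq1 (m x).1 (h1 y) (n y y1) (ps_one.1 (congrArg Subtype.val e)).symm)))
    (fun x y y1 => by
      obtain ⟨z, hz, z2, e⟩ := d.ps_surj (h1 y) (n y y1) (k x x).1 (k x x).2
      exact ⟨⟨z, mem_Om' hz z2⟩, Subtype.ext ((sym _ _).trans e)⟩)
    (fun x y z x1 y1 _ e => Subtype.ext ((sq z).trans (σ.key (m x).1
      ⟨fun e => x1 (Subtype.ext e), (m x).2⟩ (m z).1 (m z).2 (h1 x) (h1 y) (h1 z) (n y y1) (h2 x)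
      (h2 z) ((sym _ _).trans ((congrArg Subtype.val e).trans (sq x))))))
    (x := ⟨a, mem_Om' ha ai.2⟩) (y := ⟨b, mem_Om' hb bi.2⟩) (z := ⟨c, mem_Om' hc c2⟩)
    (fun e => ai.1 (congrArg Subtype.val e)) (fun e => bi.1 (congrArg Subtype.val e))
    fun e => ne (congrArg Subtype.val e)
  simp only [Subtype.ext_iff] at this
  exact this

theorem Ad.ps_eq (d : Ad F B P) (hx : x ∈ P) (x2 : x * x = 1) (hb : b ∈ B) (hc : c ∈ B)
    (e : b⁻¹ * c * (b⁻¹ * c) = 1) : ps x b = ps x c := by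
  have := d.ps_mul hx x2 hb (mul_mem (inv_mem hb) hc)
  rw [mul_inv_cancel_left, ps_one.2 (d.cm _ (mul_mem (inv_mem hb) hc) e x hx x2).symm, mul_one] at this
  exact this.symm

theorem TS.sq_eq' (h : TS F) (hP : P ∈ F) (hb : b ∈ P) (hc : c ∈ P) (e : b * b = c * c) :
    b⁻¹ * c * (b⁻¹ * c) = 1 := by
  rw [sq_mul (h.ab P hP _ (inv_mem hb) c hc), ← mul_inv_rev, e, inv_mul_cancel]

/-- two elements with independent squares -/
structure Bs (B : Subgroup G) (s t : G) : Prop where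
  hs : s ∈ B
  ht : t ∈ B
  s2 : s * s ≠ 1
  t2 : t * t ≠ 1
  ne : s * s ≠ t * t

theorem Ad.bs (d : Ad F B P) (hF : Full F) : ∃ s t, Bs B s t := by
  obtain ⟨k, hk⟩ := d.dg hF
  obtain ⟨s, hs, si⟩ := d.ts.e4 B d.hP
  refine ⟨s, _, hs, cmem hk.n1 hs, si.1, by rw [conj_sq]; exact conj_ne k si.1, fun e => si.1 ?_⟩
  rw [conj_sq] at e
  exact hk.f1 _ (mul_mem hs hs) (of_cj e.symm)

theorem Ad.cases (d : Ad F B P) (h4 : Q4 F) (β : Bs B s t) (hb : b ∈ B) :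
    b * b = 1 ∨ b * b = s * s ∨ b * b = t * t ∨ b * b = s * t * (s * t) := by
  rw [sq_mul (d.ts.ab B d.hP s β.hs t β.ht)]
  exact h4 B d.hP _ (mul_mem β.hs β.hs) _ (mul_mem β.ht β.ht) _ (mul_mem hb hb)
    ⟨β.s2, d.exp4 β.hs⟩ ⟨β.t2, d.exp4 β.ht⟩ β.ne (d.exp4 hb)

theorem Ad.cen_of (d : Ad F B P) (h4 : Q4 F) (β : Bs B s t) (h1 : CI g B) (h2 : g * s = s * g)
    (h3 : g * t = t * g) : g ∈ Cen B := cen.2 fun b hb => by
  have k : ∀ c ∈ B, g * c = c * g → b * b = c * c → g * b = b * g := fun c hc e1 e2 => by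
    have := (show Commute g c from e1).mul_right
      (h1 _ (mul_mem (inv_mem hc) hb) (d.ts.sq_eq' d.hP hc hb e2.symm))
    rw [mul_inv_cancel_left] at this
    exact this
  rcases d.cases h4 β hb with e | e | e | e
  exacts [h1 b hb e, k s β.hs h2 e, k t β.ht h3 e,
    k _ (mul_mem β.hs β.ht) ((show Commute g s from h2).mul_right h3) e]

theorem Ad.ps_other (d : Ad F B P) (hF : Full F) (h4 : Q4 F) (β : Bs B s t) (hx : x ∈ P)
    (x2 : x * x = 1) (e : ps x s = s * s) : ps x t = s * s * (t * t) := by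
  have x1 : x ≠ 1 := fun x1 => β.s2 (by rw [← e, x1]; exact ps_one.2 (by simp))
  have m := d.ps_mem hx x2 β.ht
  rcases h4 B d.hP _ (mul_mem β.hs β.hs) _ (mul_mem β.ht β.ht) _ m.1 ⟨β.s2, d.exp4 β.hs⟩
    ⟨β.t2, d.exp4 β.ht⟩ β.ne m.2 with e1 | e1 | e1 | e1
  · exact absurd (d.eq1 hx β.ht β.t2 (ps_one.1 e1).symm) x1
  · exact absurd (d.ts.sq_eq d.hP β.hs β.ht (d.ps_inj hx ⟨x1, x2⟩ β.hs β.ht (e.trans e1.symm))) β.ne
  · obtain ⟨k, hk⟩ := d.dg hF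
    have all : ∀ b ∈ B, ps x b = b * b := fun b hb => by
      rcases d.cases h4 β hb with e2 | e2 | e2 | e2
      · rw [e2]; exact ps_one.2 (d.cm b hb e2 x hx x2).symm
      · rw [e2, ← e]; exact d.ps_eq hx x2 hb β.hs (d.ts.sq_eq' d.hP hb β.hs e2)
      · rw [e2, ← e1]; exact d.ps_eq hx x2 hb β.ht (d.ts.sq_eq' d.hP hb β.ht e2)
      · rw [d.ps_eq hx x2 hb (mul_mem β.hs β.ht) (d.ts.sq_eq' d.hP hb (mul_mem β.hs β.ht) e2), e2,
          d.ps_mul hx x2 β.hs β.ht, e, e1, sq_mul (d.ts.ab B d.hP s β.hs t β.ht)]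
    have := ps_conj k x (k⁻¹ * s * k)
    rw [all _ (cmem' hk.n1 β.hs), ← conj_sq, show k * (k⁻¹ * s * k) * k⁻¹ = s by group, ← e] at this
    exact absurd (hk.f2 x hx (of_cj (d.ps_inj' (cmem hk.n2 hx) (conj_sq1 k x2) hx x2 β.hs β.s2
      this))) x1
  · exact e1

theorem Bs.symm (β : Bs B s t) : Bs B t s := ⟨β.ht, β.hs, β.t2, β.s2, β.ne.symm⟩

theorem Ad.cen_mul (d : Ad F B P) (d' : Ad F B Q) (hx : x ∈ P) (x2 : x * x = 1) (hy : y ∈ Q)
    (y2 : y * y = 1) (hb : b ∈ B) (e : ps x b = ps y b) : x * y * b = b * (x * y) :=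
  ps_one.1 (by rw [d'.ps_mul' hy y2 (d.ci hx x2) hb, e, (d'.ps_mem hy y2 hb).2])

/-- all neighbours induce the same automorphisms -/
theorem Ad.phi (d : Ad F B P) (d' : Ad F B Q) (hF : Full F) (h4 : Q4 F) (hx : x ∈ P)
    (x2 : x * x = 1) : ∃ y ∈ Q, y * y = 1 ∧ x * y ∈ Cen B := by
  have key : ∀ s t, Bs B s t → ∃ x ∈ P, x * x = 1 ∧ ps x s = s * s ∧ ∃ y ∈ Q, y * y = 1 ∧
      x * y ∈ Cen B := fun s t β => by
    obtain ⟨x, hx, x2, e⟩ := d.ps_surj β.hs β.s2 (mul_mem β.hs β.hs) (d.exp4 β.hs)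
    obtain ⟨y, hy, y2, e'⟩ := d'.ps_surj β.hs β.s2 (mul_mem β.hs β.hs) (d.exp4 β.hs)
    exact ⟨x, hx, x2, e, y, hy, y2, d.cen_of h4 β ((d.ci hx x2).mul (d'.ci hy y2))
      (d.cen_mul d' hx x2 hy y2 β.hs (e.trans e'.symm)) (d.cen_mul d' hx x2 hy y2 β.ht
        ((d.ps_other hF h4 β hx x2 e).trans (d'.ps_other hF h4 β hy y2 e').symm))⟩
  obtain ⟨s, t, β⟩ := d.bs hF
  obtain ⟨x1, h1, s1, e1, y1, k1, t1, c1⟩ := key s t β
  obtain ⟨x2', h2, s2, e2, y2, k2, t2, c2⟩ := key t s β.symm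
  have n : ∀ {x s : G}, s * s ≠ 1 → ps x s = s * s → x ≠ 1 := fun s2 e x1 =>
    s2 (by rw [← e, x1]; exact ps_one.2 (by simp))
  rcases h4 P d.hQ x1 h1 x2' h2 x hx ⟨n β.s2 e1, s1⟩ ⟨n β.t2 e2, s2⟩ (fun e => β.s2 (by
    have := d.ps_other hF h4 β h1 s1 e1
    rwa [e, e2, right_eq_mul] at this)) x2 with rfl | rfl | rfl | rfl
  · exact ⟨1, one_mem _, one_mul 1, by simp⟩
  · exact ⟨y1, k1, t1, c1⟩
  · exact ⟨y2, k2, t2, c2⟩
  · refine ⟨y2 * y1, mul_mem k2 k1, by rw [sq_mul (d.ts.ab Q d'.hQ _ k2 _ k1), t1, t2, one_mul],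
      mem_of_eq (mul_mem (cmem (mcen (d.nor h1 s1)) c2) c1) (by group)⟩

end H8.Ti
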