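import Cfsg.Agent.H8.Ti4

/-! Abelian TI-subgroups normal in a maximal 2-local subgroup: weak closure. -/

set_option autoImplicit false
set_option linter.unusedSectionVars false

namespace H8.Ti

open Cfsg Subgroup FT H4 H5 GW
open BS (Inv)
open H8.Sq (P2 p2_of_sq)
open scoped commutatorElement

variable {G : Type*} [Group G] [Finite G] {F : Set (Subgroup G)} {P Q R V P1 P2' B : Subgroup G}
  {a b c g k r s t w x y z : G}

theorem dih_two (a2 : a * a = 1) (b2 : b * b = 1) (h : P2 (a * b)) :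
    IsPGroup 2 (closure {a, b}) := by
  have n : zpowers a ≤ Nor (zpowers (a * b)) := zpowers_le.2 (mnor fun _ ⟨n, e⟩ => by
    refine mem_of_eq (inv_mem (zpow_mem (mem_zpowers (a * b)) n)) ?_
    rw [← e, ← conj_zpow, ← inv_zpow, mul_inv_rev, inv_eq_of_mul_eq_one_right b2, ← mul_assoc, a2,
      one_mul])
  refine (h.zp.to_sup_of_normal_left' (p2_of_sq a2).zp n).to_le ((closure_le _).2 ?_)
  rintro _ (rfl | rfl)
  · exact mem_sup_right (mem_zpowers _)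
  · exact mem_of_eq (mul_mem (inv_mem (mem_sup_right (mem_zpowers a)))
      (mem_sup_left (mem_zpowers _))) (by group)

theorem cm_swap (a2 : a * a = 1) (x2 : x * x = 1) (e : a * (x * a * x⁻¹) = x * a * x⁻¹ * a) :
    x * (a * x * a⁻¹) = a * x * a⁻¹ * x := by
  rw [inv_eq_of_mul_eq_one_right x2] at e
  rw [inv_eq_of_mul_eq_one_right a2]
  simpa only [mul_assoc] using e.symm

theorem p2_of_cm (a2 : a * a = 1) (x2 : x * x = 1) (e : x * (a * x * a⁻¹) = a * x * a⁻¹ * x) :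
    a * x * (a * x) * (a * x * (a * x)) = 1 := by
  have : a * x * (a * x) = a * x * a⁻¹ * x := by rw [inv_eq_of_mul_eq_one_right a2]; group
  rw [this, sq_mul e.symm, conj_sq1 a x2, x2, one_mul]

theorem p2_four (h : x * x * (x * x) = 1) : P2 x := ⟨2, by rw [← h, ← sq, ← sq, ← pow_mul]; rfl⟩

theorem TS.ca_conj (h : CA P Q) (g : G) : CA (conjS g P) (conjS g Q) := by
  rintro _ ⟨a, ha, rfl⟩ a2 _ ⟨x, hx, rfl⟩ x2
  exact conj_cm (h a ha (conj_eq_one_iff.1 ((conj_sq g a).symm.trans a2)) x hx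
    (conj_eq_one_iff.1 ((conj_sq g x).symm.trans x2))) g

theorem Cm.conj (h : Cm P Q) (g : G) : Cm (conjS g P) (conjS g Q) := by
  rintro _ ⟨a, ha, rfl⟩ _ ⟨x, hx, rfl⟩
  exact conj_cm (h a ha x hx) g

theorem Cm.le (h : Cm P Q) : Q ≤ Cen P := fun x hx => cen.2 fun a ha => (h a ha x hx).symm

theorem Cm.nor (h : Cm P Q) : Q ≤ Nor P := fun _ hx => mcnor (h.le hx)

theorem Cm.conj' (h : Cm P Q) (hg : g ∈ Nor P) : Cm P (conjS g Q) := by
  have := h.conj g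
  rwa [mem_normalizer_iff_conjS.1 hg] at this

theorem TS.cm_cen (h : TS F) (hP : P ∈ F) (hQ : Q ∈ F) (hx : x ∈ Q) (x1 : x ≠ 1) (e : x ∈ Cen P) :
    Cm P Q := (h.pair' hP hQ hx (mcnor e) x1).resolve_right fun d => x1 (d.eq1' hx e)

theorem Dg.cm (hk : Dg P Q k) (h1 : g ∈ Cen P) (h2 : g ∈ Cen Q) : k * g = g * k :=
  c1.1 (sup_le (cen_iff_le.1 h1) (cen_iff_le.1 h2) hk.mem)

/-- the normalizer of `B` is a maximal `2`-local subgroup of characteristic two -/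
structure Mx (F : Set (Subgroup G)) (B : Subgroup G) : Prop where
  ts : TS F
  hB : B ∈ F
  mx : ∀ T : Subgroup G, IsPGroup 2 T → T ≠ ⊥ → Nor B ≤ Nor T → Nor T ≤ Nor B
  ch : IsOfCharacteristicTwo (Nor B)

/-- the `2`-core of the normalizer -/
abbrev RR (B : Subgroup G) : Subgroup G := pCoreIn 2 (Nor B)

namespace Mx

variable (h : Mx F B)
include h

theorem chIn (hg : g ∈ Nor B) (e : g ∈ Cen (RR B)) : g ∈ RR B :=
  ⟨⟨g, hg⟩, h.ch (cen.2 fun x hx => Subtype.ext (cen.1 e x ⟨x, hx, rfl⟩)), rfl⟩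

theorem sq_mem (hP : P ∈ F) (hn : P ≤ Nor B) (hb : b ∈ P) : b * b ∈ RR B := by
  have := H7.sq_mem_pCore_of_ti h.ch (A := P.subgroupOf (Nor B)) (h.ts.two P hP).comap_subtype
    ⟨⟨fun x y => Subtype.ext (Subtype.ext (h.ts.ab P hP _ x.2 _ y.2))⟩⟩
    (fun g => or_iff_not_imp_right.2 fun ne => by
      obtain ⟨⟨x, h1, h2⟩, x1⟩ := ne_bot_iff_exists_ne_one.1 ne
      have := inv_mem (h.ts.nor (g := (g : G)⁻¹) hP (show (x : G) ∈ P from h2)
        (fun e => x1 (Subtype.ext (Subtype.ext e))) (by rw [inv_inv]; exact (mem_conjS (g := g)).1 h1))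
      rw [inv_inv] at this
      exact mem_normalizer_iff_conjS.1 (mnor fun y hy => cmem (K := P) this hy))
    (a := ⟨b, hn hb⟩) hb
  rw [sq] at this
  exact ⟨_, this, rfl⟩

theorem cmR (hQ : Q ∈ F) (hn : Q ≤ Nor B) (hx : x ∈ RR B) : Cm Q (conjS x Q) :=
  h.ts.cm_two ((isPGroup_pCoreIn 2 (Nor B)).to_sup_of_normal_left' (h.ts.two Q hQ)
    (hn.trans (le_normalizer_pCoreIn 2 _))) hQ (h.ts.conj Q hQ x) le_sup_right
    (conjS_eq_of_mem (mem_sup_left hx : x ∈ RR B ⊔ Q) ▸ conjS_mono x le_sup_right)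

theorem inv_mem (hQ : Q ∈ F) (hn : Q ≤ Nor B) (ha : a ∈ Q) (a2 : a * a = 1) : a ∈ RR B := by
  refine H6.baer_suzuki_in (hn ha) fun m hm => dih_two a2 (conj_sq1 m a2) (p2_four ?_)
  have hP := h.ts.conj Q hQ m
  obtain ⟨b, hb, bi⟩ := h.ts.e4 _ hP
  have hx := h.sq_mem hP (mem_normalizer_iff_conjS.1 (le_normalizer hm) ▸ conjS_mono m hn) hb
  have e := cm_swap a2 bi.2 (h.cmR hQ hn hx a ha _ (conj_mem_conjS ha))
  have c := h.ts.ca_of' hP (h.ts.conj _ hP a) (mul_mem hb hb) bi.1 (conj_mem_conjS (mul_mem hb hb))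
    (conj_ne a bi.1) e.symm
  exact p2_of_cm a2 (conj_sq1 m a2) (c _ (conj_mem_conjS ha) (conj_sq1 m a2) _
    (conj_mem_conjS (conj_mem_conjS ha)) (conj_sq1 a (conj_sq1 m a2)))

theorem ca_in (hP : P ∈ F) (hQ : Q ∈ F) (h1 : P ≤ Nor B) (h2 : Q ≤ Nor B) : CA P Q :=
  h.ts.lemS hP hQ fun _ ha ai => h.cmR hQ h2 (h.inv_mem hP h1 ha ai.2)

theorem alpha (hQ : Q ∈ F) (c : Cm B Q) (d : Ad F B P) : CA P Q := by
  by_contra hn
  obtain ⟨x, hx, xi, e⟩ : ∃ x ∈ P, Inv x ∧ ¬ Cm Q (conjS x Q) := by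
    by_contra! e
    exact hn (h.ts.lemS d.hQ hQ e)
  have xn := d.nor hx xi.2
  obtain ⟨R, σ⟩ := h.ts.sp d.hQ hn hx xi (h.ts.ad_of hQ (h.ts.conj Q hQ x)
    (h.ca_in hQ (h.ts.conj Q hQ x) c.nor (c.conj' xn).nor) e)
  obtain ⟨y, hy, yi⟩ := h.ts.ex_inv hQ
  have hR := σ.d1.hP
  have cR : Cm B R := by
    obtain ⟨t, ht, c1⟩ := σ.t1 x hx xi.2
    obtain ⟨a, ha, -, e1⟩ := σ.d2.rl_cj ht c1 hy yi.2
    refine h.ts.cm_cen h.hB hR ha (fun e2 => hn (h.ts.ca_of' d.hQ hQ hx xi.1 hy yi.1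
      (of_cj (by simpa [e2] using e1)))) (mem_of_eq (mul_mem (cmem' (mcen xn) (c.le hy))
        (Subgroup.inv_mem _ (c.le hy))) ?_)
    rw [← mul_right_inj x, ← e1]; group
  obtain ⟨t, ht, c2⟩ := σ.t2 y hy yi.2
  have yt := mul_mem (c.le hy) (cR.le ht)
  obtain ⟨a1, h1, s1, v⟩ := d.f2 yt c2
  have tt := mul_mem ht ht
  obtain ⟨a, ha, a2, z⟩ := d.f2 (cR.le tt) (σ.d1.symm.ci tt (σ.d1.exp4 ht))
  obtain ⟨k, hk⟩ := d.dg σ.full
  have cB : ∀ a ∈ B, a ∈ Cen B := fun a ha => (h.ts.cm_self h.hB).le ha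
  have k1 := cj_of (hk.cm (mul_mem yt (cB _ h1)) v)
  have k2 := cj_of (hk.cm (mul_mem (cR.le tt) (cB _ ha)) z)
  have t2 : t * t ≠ 1 := fun e => yi.1 (σ.symm.ne1 hy ht e c2)
  have e2 : k * (t * t) * k⁻¹ = t * t * a * (k * a * k⁻¹)⁻¹ := by rw [← k2]; group
  have c3 : Cm R (conjS k R) := h.ts.cm_cen hR (h.ts.conj R hR k) (conj_mem_conjS tt)
    (conj_ne k t2) (e2 ▸ mul_mem (mul_mem ((h.ts.cm_self hR).le tt) (cR.symm.le ha))
      (Subgroup.inv_mem _ (cR.symm.le (cmem hk.n1 ha))))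
  have c4 := h.ca_in hQ (h.ts.conj Q hQ k) c.nor (c.conj' hk.n1).nor y hy yi.2 _
    (conj_mem_conjS hy) (conj_sq1 k yi.2)
  have e3 : y * (k * y * k⁻¹) = t * a1 * (k * (t * a1) * k⁻¹)⁻¹ := by
    calc _ = t * a1 * (y * t * a1)⁻¹ * (y * y) * (k * (y * t * a1) * k⁻¹) *
          (k * (t * a1) * k⁻¹)⁻¹ := by group
      _ = _ := by rw [k1, yi.2]; group
  have e4 : t * a1 * (t * a1) = t * t := by rw [sq_mul (cR a1 h1 t ht).symm, s1, mul_one]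
  have e5 : Commute (t * a1) (k * (t * a1) * k⁻¹) := by
    have m1 := cmem hk.n1 h1
    rw [show k * (t * a1) * k⁻¹ = k * t * k⁻¹ * (k * a1 * k⁻¹) by group]
    exact Commute.mul_left (Commute.mul_right (c3 t ht _ (conj_mem_conjS ht)) (cR _ m1 t ht).symm)
      (Commute.mul_right (cR.conj' hk.n1 a1 h1 _ (conj_mem_conjS ht)) (h.ts.ab B h.hB _ h1 _ m1))
  have e6 := sq_mul c4
  rw [yi.2, conj_sq1 k yi.2, e3, sq_mul e5.inv_right.eq, ← mul_inv_rev, conj_sq, e4, e2, one_mul]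
    at e6
  have e7 : k * a * k⁻¹ = a := by
    calc _ = (t * t)⁻¹ * (t * t * (t * t * a * (k * a * k⁻¹)⁻¹)⁻¹) * (t * t) * a := by group
      _ = _ := by rw [e6]; group
  rw [hk.f1 a ha (of_cj e7), mul_one] at z
  exact t2 (σ.d1.symm.eq1' tt z)

theorem le_of (hQ : Q ∈ F) (e : ∀ P ∈ F, CA B P → CA Q P) : Q = B := by
  obtain ⟨g, rfl⟩ := h.ts.tr B h.hB Q hQ
  let S : Subgroup G → Set (Subgroup G) := fun Q => {P | P ∈ F ∧ CA Q P}
  have im : ∀ g, conjS g '' S B = S (conjS g B) := fun g => by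
    ext P
    refine ⟨?_, fun hP => ⟨conjS g⁻¹ P, ⟨h.ts.conj P hP.1 _, ?_⟩, conjS_conjS_inv g P⟩⟩
    · rintro ⟨P, hP, rfl⟩
      exact ⟨h.ts.conj P hP.1 g, TS.ca_conj hP.2 g⟩
    · simpa only [conjS_inv_conjS] using TS.ca_conj hP.2 g⁻¹
  have e1 : S B = S (conjS g B) := Set.eq_of_subset_of_ncard_le (fun P hP => ⟨hP.1, e P hP.1 hP.2⟩)
    (by rw [← im, Set.ncard_image_of_injective _ (conjS_injective g)])
  let K := closure {x | x * x = 1 ∧ ∃ P ∈ S B, x ∈ P}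
  have nK : ∀ g, S (conjS g B) = S B → g ∈ Nor K := fun g e => mnor fun x hx => by
    have : K ≤ K.comap (MulAut.conj g).toMonoidHom := (closure_le _).2 fun x ⟨x2, P, hP, hx⟩ =>
      subset_closure ⟨conj_sq1 g x2, conjS g P, e ▸ im g ▸ Set.mem_image_of_mem _ hP,
        conj_mem_conjS hx⟩
    exact this hx
  obtain ⟨a, ha, ai⟩ := h.ts.ex_inv h.hB
  have aK : a ∈ K := subset_closure ⟨ai.2, B, ⟨h.hB, (h.ts.cm_self h.hB).ca⟩, ha⟩
  have cK : K ≤ Cen1 a := (closure_le _).2 fun x ⟨x2, P, hP, hx⟩ =>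
    c1.2 (hP.2 a ha ai.2 x hx x2).symm
  have := le_pCoreIn (zpowers_le.2 aK) (fun x hx => mzp (cK hx)) (p2_of_sq ai.2).zp
  exact mem_normalizer_iff_conjS.1 (h.mx _ (isPGroup_pCoreIn 2 K)
    (W.ne_bot_of (this (mem_zpowers a)) ai.1)
    (fun m hm => normalizer_le_normalizer_pCoreIn 2 K (nK m (by
      rw [mem_normalizer_iff_conjS.1 hm]))) (normalizer_le_normalizer_pCoreIn 2 K (nK g e1.symm)))

theorem eq_B (hQ : Q ∈ F) (c : Cm B Q) : Q = B := h.le_of hQ fun P hP e => by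
  by_cases e1 : Cm B P
  · exact h.ca_in hQ hP c.nor e1.nor
  · exact (h.alpha hQ c (h.ts.ad_of h.hB hP e e1)).symm

theorem eq_of_cm (hP : P ∈ F) (hQ : Q ∈ F) (c : Cm P Q) : P = Q := by
  obtain ⟨g, e⟩ := h.ts.tr P hP B h.hB
  exact conjS_injective g (e.trans (h.eq_B (h.ts.conj Q hQ g) (e ▸ c.conj g)).symm)

theorem ad (hP : P ∈ F) (hQ : Q ∈ F) (ne : P ≠ Q) (c : CA P Q) : Ad F P Q :=
  h.ts.ad_of hP hQ c fun e => ne (h.eq_of_cm hP hQ e)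

theorem eq_cen (hP : P ∈ F) (hQ : Q ∈ F) (hx : x ∈ Q) (x1 : x ≠ 1) (e : x ∈ Cen P) : P = Q :=
  h.eq_of_cm hP hQ (h.ts.cm_cen hP hQ hx x1 e)

theorem eq_nor (hP : P ∈ F) (hn : P ≤ Nor B) : P = B := by
  obtain ⟨b, hb, bi⟩ := h.ts.e4 P hP
  refine ((h.ts.pair' h.hB hP (mul_mem hb hb) (hn (mul_mem hb hb)) bi.1).elim
    (h.eq_of_cm h.hB hP) fun d => absurd (d.sq_of hb (hn hb)) bi.1).symm

end Mx

end H8.Ti
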