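import Cfsg.Agent.H8.Ti5

/-! Abelian TI-subgroups normal in a maximal 2-local subgroup: existence of special pairs. -/

set_option autoImplicit false
set_option linter.unusedSectionVars false

namespace H8.Ti

open Cfsg Subgroup FT H4 H5 GW
open BS (Inv)
open H8.Sq (P2 p2_of_sq)
open scoped commutatorElement

variable {G : Type*} [Group G] [Finite G] {F : Set (Subgroup G)} {P Q R V P1 P2' B : Subgroup G}
  {a b c g k m r s t w x y z : G}

theorem cop (hg : Odd (orderOf g)) (hz : P2 (ps g r)) (e : g * ps g r = ps g r * g) :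
    g * r = r * g := by
  have k : ∀ n : ℕ, g ^ n * r * (g ^ n)⁻¹ = r * ps g r ^ n := fun n => by
    induction n with
    | zero => simp
    | succ n ih =>
      calc _ = g * (g ^ n * r * (g ^ n)⁻¹) * g⁻¹ := by rw [pow_succ']; group
        _ = g * r * g⁻¹ * (g * ps g r ^ n * g⁻¹) := by rw [ih]; group
        _ = _ := by
          rw [cj_of ((show Commute g (ps g r) from e).pow_right n).eq, ps_cj, pow_succ', mul_assoc]
  have := k (orderOf g)
  rw [pow_orderOf_eq_one, one_mul, inv_one, mul_one, left_eq_mul] at this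
  exact ps_one.1 (hz.eq_one (hg.of_dvd_nat (orderOf_dvd_of_pow_eq_one this)))

theorem dih_four (x2 : x * x = 1) (y2 : y * y = 1) (h : P2 (x * y)) (ne : x * y ≠ y * x) :
    ∃ m ∈ zpowers (x * y), ∃ z, (z = m * x * m⁻¹ ∨ z = m * y * m⁻¹) ∧
      x * z * (x * z) * (x * z * (x * z)) = 1 ∧ x * z ≠ z * x := by
  have h1 : x * y * (x * y) ≠ 1 := fun e => ne (by
    rw [← inv_eq_of_mul_eq_one_right e, mul_inv_rev, inv_eq_of_mul_eq_one_right x2,
      inv_eq_of_mul_eq_one_right y2])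
  obtain ⟨n, e⟩ := (P2.of_mem h.zp (mul_mem (mem_zpowers _) (mem_zpowers _))).exists_inv h1
  rw [(Commute.refl (x * y)).mul_pow] at e
  obtain ⟨j, e1⟩ := SF.dihedral_conj x2 y2 n
  have e2 : x * (x * (x * y) ^ n) = (x * y) ^ n := by rw [← mul_assoc, x2, one_mul]
  have z2 : x * (x * y) ^ n * (x * (x * y) ^ n) = 1 := by
    rcases e1 with e1 | e1 <;> rw [e1]
    exacts [by simpa using conj_sq1 ((x * y) ^ j)⁻¹ x2, by simpa using conj_sq1 ((x * y) ^ j)⁻¹ y2]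
  refine ⟨((x * y) ^ j)⁻¹, inv_mem (pow_mem (mem_zpowers _) j), x * (x * y) ^ n,
    by simpa using e1, by rw [e2, e.2], fun c => e.1 ?_⟩
  rw [← e2, sq_mul c, x2, z2, one_mul]

/-- an involution of a neighbour -/
def Pt (F : Set (Subgroup G)) (B : Subgroup G) (x : G) : Prop :=
  x * x = 1 ∧ ∃ P, Ad F B P ∧ x ∈ P

theorem Pt.nor (p : Pt F B x) : x ∈ Nor B := let ⟨x2, _, d, hx⟩ := p; d.nor hx x2

theorem Pt.ci (p : Pt F B x) : CI x B := let ⟨x2, _, d, hx⟩ := p; d.ci hx x2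

theorem Pt.conj (p : Pt F B x) (hm : m ∈ Nor B) : Pt F B (m * x * m⁻¹) :=
  let ⟨x2, _, d, hx⟩ := p; ⟨conj_sq1 m x2, _, d.conj' hm, conj_mem_conjS hx⟩

/-- the subgroup generated by the involutions of the neighbours -/
def II (F : Set (Subgroup G)) (B : Subgroup G) : Subgroup G := closure {x | Pt F B x}

theorem Pt.mem (p : Pt F B x) : x ∈ II F B := subset_closure p

theorem II_le : II F B ≤ Nor B := (closure_le _).2 fun _ p => p.nor

theorem II_nor : Nor B ≤ Nor (II F B) := fun m hm => mnor fun _ hx =>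
  (show II F B ≤ (II F B).comap (MulAut.conj m).toMonoidHom from
    (closure_le _).2 fun _ p => (p.conj hm).mem) hx

theorem Ad.comm_cen (d : Ad F B P) (d' : Ad F B Q) (hx : x ∈ P) (x2 : x * x = 1) (hy : y ∈ Q)
    (y2 : y * y = 1) : (y * x)⁻¹ * (x * y) ∈ Cen B := cen.2 fun b hb => of_cj (by
  have e : ps (x * y) b = ps (y * x) b := by
    rw [d'.ps_mul' hy y2 (d.ci hx x2) hb, d.ps_mul' hx x2 (d'.ci hy y2) hb,
      d.ts.ab B d.hP _ (d.ps_mem hx x2 hb).1 _ (d'.ps_mem hy y2 hb).1]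
  calc _ = (y * x)⁻¹ * (x * y * b * (x * y)⁻¹) * (y * x) := by group
    _ = _ := by rw [ps_cj, e, ← ps_cj]; group)

theorem Ad.ci_of (d : Ad F B P) (hc : c ∈ Cen B) (hn : c ∈ Nor P) : CI c P := fun x hx x2 =>
  mul_inv_eq_one.1 (d.eq1' (mem_of_eq (mul_mem (cmem hn hx) (inv_mem hx)) (by group))
    (mem_of_eq (mul_mem hc (cmem (mcen (d.nor hx x2)) (inv_mem hc))) (by group)))

theorem TS.le_cen (h : TS F) (hP : P ∈ F) : P ≤ Cen P := (h.cm_self hP).le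

namespace Mx

variable (h : Mx F B)
include h

theorem le_R : B ≤ RR B := le_pCoreIn le_normalizer le_rfl (h.ts.two B h.hB)

theorem ps_R (hg : g ∈ Nor B) (hr : r ∈ RR B) : ps g r ∈ RR B :=
  mul_mem (Subgroup.inv_mem _ hr) (cmem (le_normalizer_pCoreIn 2 _ hg) hr)

theorem odd_one (hg : g ∈ Nor B) (ho : Odd (orderOf g)) (e : g ∈ Cen (RR B ⊓ Cen B)) : g = 1 := by
  have c : g ∈ Cen B := cen.2 fun b hb => cen.1 e b ⟨h.le_R hb, h.ts.le_cen h.hB hb⟩
  refine (P2.of_mem (isPGroup_pCoreIn 2 _) (h.chIn hg (cen.2 fun q hq => cop ho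
    (P2.of_mem (isPGroup_pCoreIn 2 _) (h.ps_R hg hq)) (cen.1 e _ ⟨h.ps_R hg hq, ?_⟩)))).eq_one ho
  exact mem_of_eq (mul_mem (cmem' (mcen (pCoreIn_le 2 _ hq)) c) (Subgroup.inv_mem _ c))
    (by rw [ps]; group)

theorem two_I (H : ∀ r ∈ RR B, r ∈ Cen B → ∀ x y, Pt F B x → Pt F B y →
    y * ps x r = ps x r * y) : IsPGroup 2 (II F B) := by
  have k : ∀ r ∈ RR B, r ∈ Cen B → ∀ g ∈ II F B, ps g r ∈ Cen (II F B) := fun r h1 h2 g hg => by
    induction hg using closure_induction with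
    | mem x hx => exact cen_iff_le.2 ((closure_le _).2 fun y hy => c1.2 (H r h1 h2 x y hx hy))
    | one => simp [ps]
    | mul x y hx _ e1 e2 =>
      refine mem_of_eq (mul_mem e1 e2) (ps_of ?_).symm
      calc _ = x * (y * r * y⁻¹) * x⁻¹ := by group
        _ = x * r * x⁻¹ * (x * ps y r * x⁻¹) := by rw [ps_cj y]; group
        _ = _ := by rw [cj_of (cen.1 e2 x hx).symm, ps_cj, mul_assoc]
    | inv x hx e =>
      refine mem_of_eq (Subgroup.inv_mem _ e) ?_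
      calc _ = x⁻¹ * (ps x r)⁻¹ * x := by
            rw [mul_assoc, cen.1 (Subgroup.inv_mem _ e) x hx, inv_mul_cancel_left]
        _ = _ := by rw [ps, ps]; group
  refine H5.isPGroup_of_forall_prime fun g hg ho => ?_
  have ho := Nat.coprime_two_right.1 ho
  exact h.odd_one (II_le hg) ho (cen.2 fun r hr => cop ho (P2.of_mem (isPGroup_pCoreIn 2 _)
    (h.ps_R (II_le hg) hr.1)) (cen.1 (k r hr.1 hr.2 g hg) g hg).symm)

theorem tp (d : Ad F B P) (r2 : r * r = 1) (hr : r ∈ Cen B) (c : CA P (conjS r P)) : CI r P := by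
  by_cases e : P = conjS r P
  · exact d.ci_of hr (mem_normalizer_iff_conjS.2 e.symm)
  obtain ⟨R, hR, t, ht, t2, -, ⟨x, hx, x2, x1, m⟩, hc⟩ :=
    (h.ad d.hQ (h.ts.conj P d.hQ r) e c).lemT r2
  obtain rfl := h.eq_cen h.hB hR m x1 (mem_of_eq (mul_mem (cmem (mcen (d.nor hx x2)) hr)
    (Subgroup.inv_mem _ hr)) (by rw [inv_eq_of_mul_eq_one_right x2]; group))
  obtain ⟨a, ha, a2, e1⟩ := d.f2 (mul_mem hr (h.ts.le_cen h.hB ht)) (hc (CI.of_cen hr))
  refine absurd (d.symm.eq1' (mul_mem ht ht) (mem_of_eq (mul_mem e1 e1) ?_)) t2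
  rw [sq_mul (cen.1 (mul_mem hr (h.ts.le_cen h.hB ht)) a ha), sq_mul (cen.1 hr t ht), r2, a2,
    one_mul, mul_one]

theorem sp_of (d : Ad F B P) (d' : Ad F B Q) (hx : x ∈ P) (x2 : x * x = 1) (hy : y ∈ Q)
    (y2 : y * y = 1) (e : x * y * (x * y) * (x * y * (x * y)) = 1) (ne : x * y ≠ y * x) :
    Sp F P Q B := by
  have hn : ¬ CA P Q := fun c => ne (c x hx x2 y hy y2)
  have x1 : x ≠ 1 := fun e => ne (by simp [e])
  have y1 : y ≠ 1 := fun e => ne (by simp [e])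
  have e1 : x * y * x⁻¹ * y = y * (x * y * x⁻¹) := by
    rw [← inv_eq_of_mul_eq_one_right (show x * y * x⁻¹ * y * (x * y * x⁻¹ * y) = 1 by
      rw [inv_eq_of_mul_eq_one_right x2, ← e]; group), mul_inv_rev, inv_eq_of_mul_eq_one_right y2,
      inv_eq_of_mul_eq_one_right (conj_sq1 x y2)]
  obtain ⟨R, σ⟩ := h.ts.sp d.hQ hn hx ⟨x1, x2⟩ (h.ad d'.hQ (h.ts.conj Q d'.hQ x)
    (fun e => hn (h.ts.ca_of d'.hQ d.hQ hx (mem_normalizer_iff_conjS.2 e.symm) x1).symm)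
    (h.ts.ca_of' d'.hQ (h.ts.conj Q d'.hQ x) hy y1 (conj_mem_conjS hy) (conj_ne x y1) e1))
  obtain ⟨t, ht, c1⟩ := σ.t1 x hx x2
  obtain ⟨a, ha, a2, e2⟩ := σ.d2.rl_cj ht c1 hy y2
  refine h.eq_cen h.hB σ.d1.hP ha (fun e => ne (of_cj (by simpa [e] using e2)).symm)
    (mem_of_eq (Subgroup.inv_mem _ (d.comm_cen d' hx x2 hy y2)) ?_) ▸ σ
  calc _ = y⁻¹ * (x⁻¹ * (y * x * y⁻¹)) * y := by group
    _ = a := by rw [e2, inv_mul_cancel_left, mul_assoc, σ.d2.cm a ha a2 y hy y2, inv_mul_cancel_left]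

theorem ex_sp (d : Ad F B P) : ∃ P1 P2, Sp F P1 P2 B := by
  by_contra! hn
  have k : ∀ x y, Pt F B x → Pt F B y → P2 (x * y) → x * y = y * x := fun x y px py e => by
    by_contra ne
    obtain ⟨m, hm, z, hz, e1, e2⟩ := dih_four px.1 py.1 e ne
    have mn := zpowers_le.2 (mul_mem px.nor py.nor) hm
    obtain ⟨z2, Q, d', hz⟩ : Pt F B z := hz.elim (fun e => e ▸ px.conj mn) fun e => e ▸ py.conj mn
    obtain ⟨x2, P, d, hx⟩ := px
    exact hn _ _ (h.sp_of d d' hx x2 hz z2 e1 e2)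
  have k' : ∀ r ∈ RR B, ∀ x, Pt F B x → r * x * r⁻¹ * x = x * (r * x * r⁻¹) := fun r hr x px =>
    k _ _ (px.conj (pCoreIn_le 2 _ hr)) px (P2.of_mem (isPGroup_pCoreIn 2 _) (mem_of_eq (mul_mem hr
      (cmem (le_normalizer_pCoreIn 2 _ px.nor) (Subgroup.inv_mem _ hr)))
      (by rw [inv_eq_of_mul_eq_one_right px.1]; group)))
  have two := h.two_I fun r h1 h2 x y px ⟨y2, Q, d', hy⟩ => by
    by_cases y1 : y = 1
    · simp [y1]
    have e : ps x r = r⁻¹ * x * r⁻¹⁻¹ * x := by rw [ps, inv_eq_of_mul_eq_one_right px.1]; group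
    exact (h.tp (r := ps x r) d' (by rw [e, sq_mul (k' _ (Subgroup.inv_mem _ h1) x px), conj_sq1 _ px.1, px.1,
      one_mul]) (mul_mem (Subgroup.inv_mem _ h2) (cmem (mcen px.nor) h2))
      (h.ts.ca_of' d'.hQ (h.ts.conj Q d'.hQ _) hy y1 (conj_mem_conjS hy) (conj_ne _ y1)
        (k' _ (h.ps_R px.nor h1) y ⟨y2, Q, d', hy⟩)) y hy y2).symm
  refine d.ne (h.le_of d.hQ fun Q hQ c => ?_).symm
  by_cases e : B = Q
  · exact e ▸ d.ca.symm
  exact fun x hx x2 y hy y2 => k x y ⟨x2, P, d, hx⟩ ⟨y2, Q, h.ad h.hB hQ e c, hy⟩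
    (P2.of_mem two (mul_mem (Pt.mem ⟨x2, P, d, hx⟩) (Pt.mem ⟨y2, Q, h.ad h.hB hQ e c, hy⟩)))

end Mx

end H8.Ti
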