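import Cfsg.Agent.H8.Ti6

/-! Abelian TI-subgroups normal in a maximal 2-local subgroup: the special configuration. -/

set_option autoImplicit false
set_option linter.unusedSectionVars false

namespace H8.Ti

open Cfsg Subgroup FT H4 H5 GW
open BS (Inv)
open H8.Sq (P2 p2_of_sq)
open scoped commutatorElement

variable {G : Type*} [Group G] [Finite G] {F : Set (Subgroup G)} {P Q R V P1 P3 B : Subgroup G}
  {a b c g k m r s t u v w x y z : G}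

/-- the product of a member with the involutions of a neighbour -/
abbrev TT (B P : Subgroup G) : Subgroup G := B ⊔ Om P

namespace Ad

variable (d : Ad F B P)
include d

theorem om_nor : Om P ≤ Nor B := fun _ hx =>
  have := (d.ts.mem_Om d.hQ).1 hx
  d.nor this.1 this.2

theorem mem_T : u ∈ TT B P ↔ ∃ b ∈ B, ∃ x, (x ∈ P ∧ x * x = 1) ∧ b * x = u := by
  simp only [mem_sup_left_iff d.om_nor, d.ts.mem_Om d.hQ]

theorem two_T : IsPGroup 2 (TT B P) :=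
  (d.ts.two B d.hP).to_sup_of_normal_left' ((d.ts.two P d.hQ).to_le Om_le) d.om_nor

theorem T_nor : TT B P ≤ Nor B := sup_le le_normalizer d.om_nor

theorem ca_cj (hb : b ∈ B) : CA P (conjS b P) := by
  rintro a ha a2 _ ⟨x, hx, rfl⟩ x2
  have x2 := conj_eq_one_iff.1 ((conj_sq b x).symm.trans x2)
  have := d.ps_mem hx x2 hb
  exact ((d.ps_swap hx x2 hb).symm ▸ ((d.symm.ci this.1 this.2).mul (d.ts.ci_self d.hQ hx)) a ha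
    a2 : b * x * b⁻¹ * a = a * (b * x * b⁻¹)).symm

theorem ps_same (d' : Ad F B Q) (hy : y ∈ Q) (y2 : y * y = 1) (hx : CI x B) (e : x * y ∈ Cen B)
    (hb : b ∈ B) : ps x b = ps y b := by
  have := ps_one.2 (cen.1 e b hb)
  rw [d'.ps_mul' hy y2 hx hb] at this
  rw [eq_inv_of_mul_eq_one_left this, inv_eq_of_mul_eq_one_right (d'.ps_mem hy y2 hb).2]

theorem ci_of' (hc : CI g B) (hn : g ∈ Nor P) : CI g P := fun x hx x2 => by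
  obtain ⟨s, hs, si⟩ := d.ts.e4 B d.hP
  have m := cmem (d.ts.ci_nor d.hP hc) hs
  have p := d.ps_mem hx x2 hs
  refine of_cj (d.ps_inj' (cmem hn hx) (conj_sq1 g x2) hx x2 hs si.1 ?_)
  rw [d.ps_eq (cmem hn hx) (conj_sq1 g x2) hs m (d.ts.sq_eq' d.hP hs m
    (by rw [conj_sq, cj_of (hc _ (mul_mem hs hs) si.2)])), ps_conj, cj_of (hc _ p.1 p.2)]

theorem fT (hk : Dg B P k) (hu : u ∈ TT B P) (e : k * u = u * k) : u = 1 := by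
  obtain ⟨b, hb, y, hy, rfl⟩ := d.mem_T.1 hu
  have : y = 1 := hk.f2 y hy.1 (mul_inv_eq_one.1 (d.ts.one d.hP d.hQ d.ne
    (mem_of_eq (mul_mem (inv_mem (cmem hk.n1 hb)) hb) (by
      calc _ = (k * b * k⁻¹)⁻¹ * (b * y * k) * (y * k)⁻¹ := by group
        _ = _ := by rw [← e]; group))
    (mem_of_eq (mul_mem (cmem hk.n2 hy.1) (inv_mem hy.1)) (by group))))
  rw [this, mul_one] at e ⊢
  exact hk.f1 b hb e

theorem T_cm (hu : u ∈ TT B P) (h1 : g ∈ Cen B) (h2 : CI g P) : g * u = u * g := by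
  obtain ⟨b, hb, y, hy, rfl⟩ := d.mem_T.1 hu
  exact (show Commute g b from cen.1 h1 b hb).mul_right (h2 y hy.1 hy.2)

theorem T_conj (h1 : k ∈ Nor B) (h2 : k ∈ Nor P) (hu : u ∈ TT B P) : k * u * k⁻¹ ∈ TT B P := by
  obtain ⟨b, hb, y, hy, rfl⟩ := d.mem_T.1 hu
  exact d.mem_T.2 ⟨_, cmem h1 hb, _, ⟨cmem h2 hy.1, conj_sq1 k hy.2⟩, by group⟩

theorem same_eq (hx : x ∈ P) (hy : y ∈ P) (e : x * y⁻¹ ∈ Cen B) : x = y :=
  mul_inv_eq_one.1 (d.eq1' (mul_mem hx (inv_mem hy)) e)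

theorem inv_of (hb : b ∈ B) (x2 : x * x = 1) (e : b * x * (b * x) = 1) : ps x b = b * b :=
  (d.ps_inv hb).2 (eq_inv_of_mul_eq_one_right (by
    rw [← e, inv_eq_of_mul_eq_one_right x2]; group))

end Ad

theorem Sp.inv_unique (σ : Sp F P Q R) (hx : x ∈ P) (x2 : x * x = 1) (hs : s ∈ R)
    (s2 : s * s ≠ 1) (e : ps x s = s * s) : CI (x * s) Q ∧ CI (s * x) Q := by
  obtain ⟨v, hv, v2, c⟩ := σ.onto hs
  obtain rfl := σ.d1.ps_inj' hv v2 hx x2 hs s2 (by rw [σ.rl_sq hv v2 hs c, e])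
  exact ⟨c, ((σ.d2.symm.ci (mul_mem hs hs) (σ.d1.exp4 hs)).mul c.inv).of_eq
    (by rw [mul_inv_rev, inv_eq_of_mul_eq_one_right v2]; group)⟩

theorem cen_conj (h1 : g ∈ Cen B) (hb : b ∈ B) (h2 : g ∈ Cen P) : g ∈ Cen (conjS b P) :=
  cen.2 fun x hx => by
    have := conj_cm (cen.1 h2 _ (mem_conjS.1 hx)) b
    rw [cj_of (cen.1 h1 b hb).symm] at this
    simpa [mul_assoc] using this

theorem Mx.line (h : Mx F B) (hF : Full F) (h4 : Q4 F) (d : Ad F B P) (d' : Ad F B Q)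
    (c : CA P Q) : ∃ b ∈ B, conjS b P = Q := by
  obtain ⟨y, hy, yi⟩ := h.ts.ex_inv d'.hQ
  obtain ⟨x, hx, x2, e⟩ := d'.phi d hF h4 hy yi.2
  have x1 : x ≠ 1 := fun e1 => yi.1 (d'.eq1' hy (by simpa [e1] using e))
  obtain ⟨a, ha, a2, e1⟩ := d.f2 e ((c.symm.ci hy yi.2).mul (h.ts.ci_self d.hQ hx))
  obtain ⟨b, hb, e2⟩ := hF B P d x hx ⟨x1, x2⟩ a ha a2
  have hP := h.ts.conj P d.hQ b
  refine ⟨b, hb, h.eq_cen hP d'.hQ hy yi.1 (mem_of_eq (mul_mem (?_ : y * x * a ∈ _)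
    (h.ts.le_cen hP (conj_mem_conjS hx))) ?_)⟩
  · exact cen_conj (mul_mem e (h.ts.le_cen h.hB ha)) hb e1
  · rw [d.ps_swap hx x2 hb, e2, mul_assoc, mul_assoc, ← mul_assoc a, a2, one_mul, x2, mul_one]

/-- the special configuration -/
structure Sc (F : Set (Subgroup G)) (B P Q : Subgroup G) : Prop where
  mx : Mx F B
  sp : Sp F P Q B

namespace Sc

variable (σ : Sc F B P Q)
include σ

theorem symm : Sc F B Q P := ⟨σ.mx, σ.sp.symm⟩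

theorem ts : TS F := σ.mx.ts

theorem d1 : Ad F B P := σ.sp.d1

theorem d2 : Ad F B Q := σ.sp.d2

theorem cB (hb : b ∈ B) : b ∈ Cen B := σ.ts.le_cen σ.mx.hB hb

theorem line (d : Ad F B P1) (d' : Ad F B P3) (c : CA P1 P3) : ∃ b ∈ B, conjS b P1 = P3 :=
  σ.mx.line σ.sp.full σ.sp.q4 d d' c

theorem phi (d : Ad F B P1) (d' : Ad F B P3) (hx : x ∈ P1) (x2 : x * x = 1) :
    ∃ y ∈ P3, y * y = 1 ∧ x * y ∈ Cen B := d.phi d' σ.sp.full σ.sp.q4 hx x2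

theorem trans (d : Ad F B P1) (d' : Ad F B P3) (d'' : Ad F B R) (c : CA P1 P3) (c' : CA P3 R) :
    CA P1 R := by
  obtain ⟨b, hb, rfl⟩ := σ.line d d' c
  obtain ⟨b', hb', rfl⟩ := σ.line d' d'' c'
  rw [conjS_conjS]
  exact d.ca_cj (mul_mem hb' hb)

theorem dec (hx : x ∈ P) (xi : Inv x) : ∃ y ∈ Q, Inv y ∧ ∃ t ∈ B, t * t ≠ 1 ∧ ps y t = t * t ∧
    ∃ a ∈ B, a * a = 1 ∧ x * t * y * a ∈ Cen B ⊓ Cen Q := by
  obtain ⟨y, hy, y2, e⟩ := σ.phi σ.d1 σ.d2 hx xi.2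
  obtain ⟨t, ht, c⟩ := σ.sp.t1 x hx xi.2
  have e1 : x * t * y ∈ Cen B := mem_of_eq (mul_mem (σ.cB (cmem (σ.d1.nor hx xi.2) ht)) e) (by group)
  obtain ⟨a, ha, a2, e2⟩ := σ.d2.f2 e1 (c.mul (σ.ts.ci_self σ.d2.hQ hy))
  exact ⟨y, hy, ⟨fun e1 => xi.1 (σ.d1.eq1' hx (by simpa [e1] using e)), y2⟩, t, ht,
    fun e => xi.1 (σ.sp.ne1 hx ht e c), by rw [← σ.d1.ps_same σ.d2 hy y2 (σ.d1.ci hx xi.2) e ht,
      σ.sp.rl_sq hx xi.2 ht c], a, ha, a2, mul_mem e1 (σ.cB ha), e2⟩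

theorem ca_k (hk : Dg B Q k) : CA P (conjS k P) := by
  obtain ⟨x, hx, xi⟩ := σ.ts.ex_inv σ.d1.hQ
  obtain ⟨y, hy, yi, t, ht, t2, e, a, ha, a2, f⟩ := σ.dec hx xi
  have c1 := (σ.sp.symm.inv_unique hy yi.2 ht t2 e).2
  have c2 := (σ.sp.symm.inv_unique (cmem hk.n2 hy) (conj_sq1 k yi.2) (cmem hk.n1 ht)
    (by rw [conj_sq]; exact conj_ne k t2) (by rw [ps_conj, e, conj_sq])).2
  refine (σ.ts.ca_ci (σ.ts.conj P σ.d1.hQ k) σ.d1.hQ (conj_mem_conjS hx) (conj_ne k xi.1)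
    (((((σ.ts.ci_self σ.d1.hQ hx).mul c1).mul (σ.d1.symm.ci ha a2)).mul
      (c2.mul (σ.d1.symm.ci (cmem hk.n1 ha) (conj_sq1 k a2))).inv).of_eq ?_)).symm
  rw [show x * (t * y) * a = x * t * y * a by group, ← cj_of (hk.cm f.1 f.2)]
  group

theorem le_T (hx : x ∈ P) (x2 : x * x = 1) : x ∈ TT B Q := by
  obtain ⟨k, hk⟩ := σ.d2.dg σ.sp.full
  have dc : ∀ v ∈ VV B P, ∃ u ∈ TT B Q, ∃ f ∈ Cen B ⊓ Cen Q, v = u * f ∧
      (u = 1 → v = 1) := fun v hv => by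
    obtain ⟨a', ha', x, hx, rfl⟩ := σ.d1.mem_V.1 hv
    by_cases x1 : x = 1
    · exact ⟨a', mem_sup_left ha'.1, 1, one_mem _, by rw [x1], fun e => by rw [e, x1, mul_one]⟩
    obtain ⟨y, hy, yi, t, ht, t2, e, a, ha, a2, f⟩ := σ.dec hx.1 ⟨x1, hx.2⟩
    have m : t * y * a ∈ TT B Q := mul_mem (mul_mem (mem_sup_left ht)
      (mem_sup_right (mem_Om' hy yi.2))) (mem_sup_left ha)
    refine ⟨a' * (t * y * a)⁻¹, mul_mem (mem_sup_left ha'.1) (inv_mem m), _, f, ?_, fun e => ?_⟩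
    · rw [mul_assoc a' _⁻¹, ← σ.d2.T_cm (inv_mem m) f.1 (CI.of_cen f.2)]; group
    · refine absurd (σ.ts.one σ.d2.hP σ.d2.hQ σ.d2.ne (mem_of_eq (mul_mem (mul_mem (inv_mem ht)
        ha'.1) (inv_mem ha)) ?_) hy) yi.1
      rw [mul_inv_eq_one.1 e]; group
  obtain ⟨β, hβ, e⟩ := σ.line σ.d1 (σ.d1.conj' hk.n1) (σ.ca_k hk)
  have kn : k ∈ Nor (VV B P) := mnor fun v hv => by
    obtain ⟨a, ha, x, hx, rfl⟩ := σ.d1.mem_V.1 hv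
    obtain ⟨x', hx', e1⟩ : k * x * k⁻¹ ∈ conjS β P := e ▸ conj_mem_conjS hx.1
    have e1 : β * x' * β⁻¹ = k * x * k⁻¹ := e1
    have x2 : x' * x' = 1 := conj_eq_one_iff.1 ((conj_sq β x').symm.trans (e1 ▸ conj_sq1 k hx.2))
    have p := σ.d1.ps_mem hx' x2 hβ
    refine mem_of_eq (mul_mem (σ.d1.mV1 (cmem hk.n1 ha.1) (conj_sq1 k ha.2))
      (mul_mem (σ.d1.mV1 p.1 p.2) (σ.d1.mV2 hx' x2))) ?_
    rw [← σ.d1.ps_swap hx' x2 hβ, e1]; group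
  obtain ⟨v, hv, e1⟩ := H8.Sq.fpf_surj kn (fun v hv e => by
    obtain ⟨u, hu, f, hf, rfl, e1⟩ := dc v hv
    refine e1 (σ.d2.fT hk hu (mul_right_cancel (b := f) ?_))
    rw [mul_assoc, e, mul_assoc, mul_assoc, hk.cm hf.1 hf.2]) (σ.d1.mV2 hx x2)
  obtain ⟨u, hu, f, hf, rfl, -⟩ := dc v hv
  refine mem_of_eq (mul_mem (σ.d2.T_conj hk.n1 hk.n2 hu) (inv_mem hu)) ?_
  rw [← e1, ← cj_of (hk.cm hf.1 hf.2)]
  calc _ = k * u * (k * f * k⁻¹) * (k * f * k⁻¹)⁻¹ * k⁻¹ * u⁻¹ := by group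
    _ = k * u * (k * f * k⁻¹) * k⁻¹ * (k * f * k⁻¹)⁻¹ * u⁻¹ := by
      rw [cj_of (hk.cm hf.1 hf.2), mul_assoc _ f⁻¹, mul_assoc _ k⁻¹,
        (show Commute k f from hk.cm hf.1 hf.2).inv_inv.eq]
    _ = _ := by group

theorem T_eq : TT B P = TT B Q := by
  have k : ∀ {P Q}, Sc F B P Q → TT B P ≤ TT B Q := fun σ => sup_le le_sup_left fun x hx =>
    have := (σ.ts.mem_Om σ.d1.hQ).1 hx
    σ.le_T this.1 this.2
  exact le_antisymm (k σ) (k σ.symm)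

/-- the partner of an involution -/
theorem part (hx : x ∈ P) (xi : Inv x) (hy : y ∈ Q) (y2 : y * y = 1) (e : y * x⁻¹ ∈ Cen B) :
    ∃ b ∈ B, b * b ≠ 1 ∧ ps x b = b * b ∧ y = b * x := by
  obtain ⟨b, hb, x', hx', rfl⟩ := σ.d1.mem_T.1 (σ.symm.le_T hy y2)
  obtain rfl := σ.d1.same_eq hx'.1 hx (mem_of_eq (mul_mem (inv_mem (σ.cB hb)) e) (by group))
  refine ⟨b, hb, fun b2 => σ.sp.nc (σ.ts.ca_ci σ.d2.hQ σ.d1.hQ hy (fun e => xi.1 ?_)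
    ((σ.d1.symm.ci hb b2).mul (σ.ts.ci_self σ.d1.hQ hx))).symm, σ.d1.inv_of hb xi.2 y2, rfl⟩
  exact σ.ts.one σ.d1.hP σ.d1.hQ σ.d1.ne (eq_inv_of_mul_eq_one_right e ▸ inv_mem hb) hx

theorem no_swap (hr : r ∈ Cen B) (e : conjS r P = Q) : False := by
  have k : ∀ x ∈ P, Inv x → ∃ b ∈ B, b * b ≠ 1 ∧ ps x b = b * b ∧
      r * r * x * (r * r)⁻¹ = b * b * x := fun x hx xi => by
    obtain ⟨b, hb, b2, e1, e2⟩ := σ.part hx xi (e ▸ conj_mem_conjS hx) (conj_sq1 r xi.2)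
      (mem_of_eq (mul_mem hr (cmem (mcen (σ.d1.nor hx xi.2)) (inv_mem hr))) (by group))
    refine ⟨b, hb, b2, e1, ?_⟩
    calc _ = r * (r * x * r⁻¹) * r⁻¹ := by group
      _ = r * (b * x) * r⁻¹ := by rw [e2]
      _ = r * b * r⁻¹ * (r * x * r⁻¹) := by group
      _ = _ := by rw [e2, cj_of (cen.1 hr b hb), mul_assoc]
  obtain ⟨x, hx, y, hy, xi, yi, ne⟩ := σ.ts.rk P σ.d1.hQ
  obtain ⟨b, hb, b2, e1, e2⟩ := k x hx xi
  obtain ⟨c, hc, -, e3, e4⟩ := k y hy yi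
  have := σ.d1.f1 (mul_mem (inv_mem (σ.cB hb)) (mul_mem hr hr)) hx xi.1 (of_cj (by
    calc _ = b⁻¹ * (r * r * x * (r * r)⁻¹) * b := by group
      _ = _ := by rw [e2, ← e1, ← σ.d1.ps_swap hx xi.2 hb]; group)) hy yi.2
  have e5 : ps y c = ps y b := mul_right_cancel (b := y) (by
    rw [e3, ← e4, ← σ.d1.ps_swap hy yi.2 hb]
    calc _ = b * (b⁻¹ * (r * r) * y * (b⁻¹ * (r * r))⁻¹) * b⁻¹ := by group
      _ = _ := by rw [cj_of this])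
  exact ne (σ.d1.ps_inj' hx xi.2 hy yi.2 hb b2 (by
    rw [e1, ← e5, e3, σ.ts.sq_eq σ.d1.hP hc hb (σ.d1.ps_inj hy yi hc hb e5)]))

theorem ca_R (d : Ad F B R) (h1 : r ∈ RR B) (h2 : r ∈ Cen B) : CA R (conjS r R) := by
  obtain ⟨x, hx, xi⟩ := σ.ts.ex_inv d.hQ
  have xn := d.nor hx xi.2
  refine σ.ts.ca_of' d.hQ (σ.ts.conj R d.hQ r) hx xi.1 (conj_mem_conjS hx) (conj_ne r xi.1)
    (Eq.symm ?_)
  by_contra ne
  have e : x * (r * x * r⁻¹) = x * r * x⁻¹ * r⁻¹ := by rw [xi.inv]; group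
  obtain ⟨m, hm, z, hz, e1, e2⟩ := dih_four xi.2 (conj_sq1 r xi.2) (P2.of_mem (isPGroup_pCoreIn 2 _)
    (e ▸ mul_mem (cmem (le_normalizer_pCoreIn 2 _ xn) h1) (inv_mem h1))) ne
  have mc : m ∈ Cen B := zpowers_le.2 (e ▸ mul_mem (cmem (mcen xn) h2) (inv_mem h2)) hm
  obtain ⟨s, hs, rfl⟩ : ∃ s ∈ Cen B, z = s * x * s⁻¹ :=
    hz.elim (fun e => ⟨m, mc, e⟩) fun e => ⟨m * r, mul_mem mc h2, by rw [e]; group⟩
  exact Sc.no_swap ⟨σ.mx, σ.mx.sp_of d (d.conj' (mcnor hs)) hx xi.2 (conj_mem_conjS hx)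
    (conj_sq1 s xi.2) e1 e2⟩ hs rfl

theorem two_I : IsPGroup 2 (II F B) := σ.mx.two_I fun r h1 h2 x y ⟨x2, R, d, hx⟩ py => by
  obtain ⟨b, hb, e⟩ := σ.line d (d.conj' (mcnor (inv_mem h2))) (σ.ca_R d (inv_mem h1) (inv_mem h2))
  obtain ⟨x', hx', e1⟩ : r⁻¹ * x * r⁻¹⁻¹ ∈ conjS b R := e ▸ conj_mem_conjS hx
  have e1 : b * x' * b⁻¹ = r⁻¹ * x * r⁻¹⁻¹ := e1
  have s2 : x' * x' = 1 := conj_eq_one_iff.1 ((conj_sq b x').symm.trans (e1 ▸ conj_sq1 _ x2))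
  have p := d.ps_mem hx' s2 hb
  rw [d.ps_swap hx' s2 hb] at e1
  have e2 : ps x r = ps x' b * (x' * x⁻¹) := by rw [← mul_assoc, e1, ps]; group
  obtain rfl := d.same_eq hx' hx (mem_of_eq (mul_mem (inv_mem (σ.cB p.1))
    (mul_mem (inv_mem h2) (cmem (mcen (d.nor hx x2)) h2) : ps x r ∈ _)) (inv_mul_eq_iff_eq_mul.2 e2))
  rw [e2, mul_inv_cancel, mul_one]
  exact py.ci _ p.1 p.2

theorem sp_of (d : Ad F B P1) (d' : Ad F B R) (hn : ¬ CA P1 R) : Sc F B P1 R := by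
  obtain ⟨x, hx, xi⟩ := σ.ts.ex_inv d.hQ
  obtain ⟨y, hy, y2, e⟩ := σ.phi d d' hx xi.2
  have m := le_pCoreIn II_le II_nor σ.two_I (mul_mem (Pt.mem ⟨xi.2, _, d, hx⟩) (Pt.mem ⟨y2, _, d', hy⟩))
  have c := σ.ca_R d m e x hx xi.2 _ (conj_mem_conjS hx) (conj_sq1 _ xi.2)
  refine ⟨σ.mx, σ.mx.sp_of d d' hx xi.2 hy y2 (p2_of_cm xi.2 y2 (cm_swap xi.2 y2 ?_))
    fun e1 => hn (σ.ts.ca_of' d.hQ d'.hQ hx xi.1 hy (fun e2 => xi.1 (d.eq1' hx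
      (by simpa [e2] using e))) e1.symm)⟩
  simpa [mul_assoc] using conj_cm c x⁻¹

theorem two (d : Ad F B R) : CA P R ∨ CA Q R := or_iff_not_imp_left.2 fun hn => by
  obtain ⟨x, hx, xi⟩ := σ.ts.ex_inv σ.d1.hQ
  obtain ⟨y, hy, y2, e⟩ := σ.phi σ.d1 d hx xi.2
  obtain ⟨b, hb, b2, e1, rfl⟩ := (σ.sp_of σ.d1 d hn).part hx xi hy y2 (mem_of_eq (inv_mem e)
    (by rw [mul_inv_rev, inv_eq_of_mul_eq_one_right y2]))
  exact (σ.ts.ca_ci d.hQ σ.d2.hQ hy (fun e2 => xi.1 (σ.d1.eq1' hx (by simpa [e2] using e)))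
    (σ.sp.inv_unique hx xi.2 hb b2 e1).2).symm

end Sc

end H8.Ti
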