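import Cfsg.Agent.H8.Ti7

/-! Abelian TI-subgroups normal in a maximal 2-local subgroup: local structure. -/

set_option autoImplicit false
set_option linter.unusedSectionVars false

namespace H8.Ti

open Cfsg Subgroup FT H4 H5 GW
open BS (Inv)
open H8.Sq (P2 p2_of_sq)
open scoped commutatorElement

variable {G : Type*} [Group G] [Finite G] {F : Set (Subgroup G)} {P Q R V P1 P3 B : Subgroup G}
  {a b c g k m n r s t u v w x y z : G}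

theorem ca_unconj (h : CA (conjS g P) (conjS g Q)) : CA P Q := by
  simpa only [conjS_inv_conjS] using TS.ca_conj h g⁻¹

theorem nor_of_conj (e : conjS b P = conjS g P) : b⁻¹ * g ∈ Nor P :=
  mem_normalizer_iff_conjS.2 (by rw [← conjS_conjS, ← e, conjS_inv_conjS])

theorem Q4.act (h4 : Q4 F) (hB : B ∈ F) (hg : g ∈ Nor B) (ha : a ∈ B) (ai : Inv a)
    (e : g * a = a * g) (hn : ¬ CI g B) (hc : c ∈ B) (c2 : c * c = 1) (c1 : c ≠ 1) (ca : c ≠ a) :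
    g * c * g⁻¹ = a * c := by
  obtain ⟨u, hu, u2, ne⟩ : ∃ u ∈ B, u * u = 1 ∧ g * u ≠ u * g := by
    by_contra! h; exact hn h
  have u1 : u ≠ 1 := fun e => ne (by simp [e])
  have ua : a ≠ u := fun e1 => ne (e1 ▸ e)
  have e1 : g * u * g⁻¹ = a * u := by
    rcases h4 B hB a ha u hu _ (cmem hg hu) ai ⟨u1, u2⟩ ua (conj_sq1 g u2) with h | h | h | h
    · exact absurd h (conj_ne g u1)
    · exact absurd ((MulAut.conj g).injective ((cj_of e).trans h.symm)) ua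
    · exact absurd (of_cj h) ne
    · exact h
  rcases h4 B hB a ha u hu c hc ai ⟨u1, u2⟩ ua c2 with h | h | rfl | rfl
  · exact absurd h c1
  · exact absurd h ca
  · exact e1
  · rw [show g * (a * u) * g⁻¹ = g * a * g⁻¹ * (g * u * g⁻¹) by group, e1, cj_of e]

theorem Q4.par (h4 : Q4 F) (hB : B ∈ F) (hx : x ∈ Nor B) (hy : y ∈ Nor B) (ha : a ∈ B)
    (ai : Inv a) (e1 : x * a = a * x) (e2 : y * a = a * y) (n1 : ¬ CI x B) (n2 : ¬ CI y B) :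
    CI (x * y) B := fun c hc c2 => by
  by_cases c1 : c = 1
  · simp [c1]
  by_cases ca : c = a
  · exact ca ▸ ((show Commute x a from e1).mul_left e2).eq
  refine of_cj ?_
  calc _ = x * (y * c * y⁻¹) * x⁻¹ := by group
    _ = x * (a * c) * x⁻¹ := by rw [h4.act hB hy ha ai e2 n2 hc c2 c1 ca]
    _ = x * a * x⁻¹ * (x * c * x⁻¹) := by group
    _ = _ := by rw [h4.act hB hx ha ai e1 n1 hc c2 c1 ca, cj_of e1, ← mul_assoc, ai.2, one_mul]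

theorem Ad.V_pt (d : Ad F B P) (hF : Full F) (hv : v ∈ VV B P) :
    v ∈ B ∨ ∃ b ∈ B, v ∈ conjS b P := by
  obtain ⟨a, ha, x, hx, rfl⟩ := d.mem_V.1 hv
  by_cases x1 : x = 1
  · exact Or.inl (by simpa [x1] using ha.1)
  obtain ⟨b, hb, e⟩ := hF B P d x hx.1 ⟨x1, hx.2⟩ a ha.1 ha.2
  exact Or.inr ⟨b, hb, by rw [← e, ← d.ps_swap hx.1 hx.2 hb]; exact conj_mem_conjS hx.1⟩

theorem Ad.V_le (d : Ad F B P) : VV B P ≤ TT B P := fun _ hv =>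
  let ⟨a, ha, x, hx, e⟩ := d.mem_V.1 hv
  d.mem_T.2 ⟨a, ha.1, x, hx, e⟩

theorem Ad.cj_V (d : Ad F B P) (hb : b ∈ B) (hx : x ∈ conjS b P) (x2 : x * x = 1) :
    x ∈ VV B P := by
  obtain ⟨y, hy, rfl⟩ := hx
  have y2 := conj_eq_one_iff.1 ((conj_sq b y).symm.trans x2)
  have p := d.ps_mem hy y2 hb
  exact mem_of_eq (mul_mem (d.mV1 p.1 p.2) (d.mV2 hy y2)) (d.ps_swap hy y2 hb).symm

namespace Sc

variable (σ : Sc F B P Q)
include σ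

theorem flip (hm : m ∈ Nor B) (hn : ¬ CA P (conjS m P)) : CA Q (conjS m P) :=
  (σ.two (σ.d1.conj' hm)).resolve_left hn

theorem fix2 (hm : m ∈ Nor B) (c : CA P (conjS m P)) : CA Q (conjS m Q) :=
  (σ.two (σ.d2.conj' hm)).resolve_left fun e => σ.sp.nc (ca_unconj
    (σ.trans (σ.d1.conj' hm) σ.d1 (σ.d2.conj' hm) c.symm e))

theorem flip2 (hm : m ∈ Nor B) (hn : ¬ CA P (conjS m P)) : CA P (conjS m Q) :=
  (σ.two (σ.d2.conj' hm)).resolve_right fun e => hn (σ.symm.fix2 hm e)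

theorem par (hm : m ∈ Nor B) (hn : n ∈ Nor B) (h1 : ¬ CA P (conjS m P))
    (h2 : ¬ CA P (conjS n P)) : CA P (conjS (m * n) P) :=
  σ.trans σ.d1 (σ.d2.conj' hm) (σ.d1.conj' (mul_mem hm hn)) (σ.flip2 hm h1)
    (conjS_conjS m n P ▸ TS.ca_conj (σ.flip hn h2) m)

theorem fix_mul (hm : m ∈ Nor B) (hn : n ∈ Nor B) (h1 : CA P (conjS m P))
    (h2 : CA P (conjS n P)) : CA P (conjS (m * n) P) :=
  σ.trans σ.d1 (σ.d1.conj' hm) (σ.d1.conj' (mul_mem hm hn)) h1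
    (conjS_conjS m n P ▸ TS.ca_conj h2 m)

theorem fix_sq (hm : m ∈ Nor B) : CA P (conjS (m * m) P) :=
  (em _).elim (fun e => σ.fix_mul hm hm e e) fun e => σ.par hm hm e e

theorem cen_dec (hc : c ∈ Cen B) : ∃ b ∈ B, ∀ R, Ad F B R → b * c ∈ Cen R := by
  have d' := σ.d1.conj' (mcnor hc)
  obtain ⟨b, hb, e⟩ := σ.line σ.d1 d' (by_contra fun hn => (σ.sp_of σ.d1 d' hn).no_swap hc rfl)
  have h1 := mul_mem (inv_mem (σ.cB hb)) hc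
  obtain ⟨a, ha, -, h2⟩ := σ.d1.f2 h1 (σ.d1.ci_of h1 (nor_of_conj e))
  have h3 := mul_mem h1 (σ.cB ha)
  obtain ⟨a', ha', -, h4⟩ := σ.d2.f2 h3 fun y hy y2 =>
    σ.d1.T_cm (σ.symm.le_T hy y2) h3 (CI.of_cen h2)
  obtain ⟨k, hk⟩ := σ.d2.dg σ.sp.full
  obtain ⟨β, hβ, e1⟩ := σ.line σ.d1 (σ.d1.conj' hk.n1) (σ.ca_k hk)
  have h5 : k * (b⁻¹ * c * a) * k⁻¹ ∈ Cen (conjS k P) := cen.2 fun x hx => by
    simpa [mul_assoc] using conj_cm (cen.1 h2 _ (mem_conjS.1 hx)) k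
  have h6 := (σ.d1.conj' hk.n1).symm.eq1' (mul_mem ha' (inv_mem (cmem hk.n1 ha')))
    (mem_of_eq (mul_mem (inv_mem (e1 ▸ cen_conj h3 hβ h2)) h5) (by
      rw [inv_mul_eq_iff_eq_mul, ← mul_assoc _ a', ← cj_of (hk.cm (mul_mem h3 (σ.cB ha')) h4)]
      group))
  rw [hk.f1 a' ha' (of_cj (mul_inv_eq_one.1 h6).symm), mul_one] at h4
  refine ⟨b⁻¹ * a, mul_mem (inv_mem hb) ha, fun R d => ?_⟩
  rw [mul_assoc, ← cen.1 hc a ha, ← mul_assoc]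
  rcases σ.two d with e | e
  · obtain ⟨b, hb, rfl⟩ := σ.line σ.d1 d e
    exact cen_conj h3 hb h2
  · obtain ⟨b, hb, rfl⟩ := σ.line σ.d2 d e
    exact cen_conj h3 hb h4

theorem cenB : Cen B ≤ B := by
  let K := closure {x | ∃ R, Ad F B R ∧ x ∈ R}
  have nK : Nor B ≤ Nor K := fun m hm => mnor fun _ hx =>
    (show K ≤ K.comap (MulAut.conj m).toMonoidHom from (closure_le _).2 fun _ ⟨_, d, hx⟩ =>
      subset_closure ⟨_, d.conj' hm, conj_mem_conjS hx⟩) hx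
  have h0 : RR B ⊓ Cen K = ⊥ := by_contra fun hn => σ.d1.ne (σ.mx.eq_nor σ.d1.hQ
    (le_trans (b := Nor (RR B ⊓ Cen K)) (fun x hx => mcnor (cen.2 fun y hy =>
      (cen.1 hy.2 x (subset_closure ⟨P, σ.d1, hx⟩)).symm))
    (σ.mx.mx _ (isPGroup_pCoreIn 2 _).to_inf_left hn
      (H4.le_normalizer_inf (le_normalizer_pCoreIn 2 _) (ncen nK))))).symm
  have h1 : RR B ⊓ Cen B ≤ B := fun r hr => by
    obtain ⟨b, hb, e⟩ := σ.cen_dec hr.2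
    have : b * r ∈ RR B ⊓ Cen K := ⟨mul_mem (σ.mx.le_R hb) hr.1,
      cen_iff_le.2 ((closure_le _).2 fun x ⟨R, d, hx⟩ => cen_iff_le.1 (e R d) hx)⟩
    rw [h0, mem_bot] at this
    exact eq_inv_of_mul_eq_one_right this ▸ inv_mem hb
  exact le_trans (le_inf (le_pCoreIn (fun _ => mcnor) (ncen le_rfl)
    (H5.isPGroup_of_forall_prime fun g hg ho => σ.mx.odd_one (mcnor hg)
      (Nat.coprime_two_right.1 ho) (cen.2 fun x hx => cen.1 hg x (h1 hx)))) le_rfl) h1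

theorem gen (h1 : CI c P) (h2 : CI c Q) (h3 : CI c B) : c ∈ B := σ.cenB (cen.2 fun b hb => by
  obtain ⟨x, hx, x2, e⟩ := σ.sp.onto hb
  by_cases x1 : x = 1
  · exact h3 b hb (σ.d2.ci_sq hb (by simpa [x1] using e))
  obtain ⟨y, hy, y2, e1⟩ := σ.phi σ.d1 σ.d2 hx x2
  obtain ⟨b', hb', -, -, e2⟩ := σ.part hx ⟨x1, x2⟩ hy y2 (mem_of_eq (inv_mem e1)
    (by rw [mul_inv_rev, inv_eq_of_mul_eq_one_right y2]))
  have e3 : y * (x * b) = b' * b := by rw [e2, mul_assoc, ← mul_assoc x, x2, one_mul]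
  have h4 := h3 _ (mul_mem hb' hb) (σ.d2.ci_sq (mul_mem hb' hb)
    (((σ.ts.ci_self σ.d2.hQ hy).mul e).of_eq e3))
  have := (show Commute c x from h1 x hx x2).inv_right.mul_right
    ((show Commute c y from h2 y hy y2).inv_right.mul_right h4)
  rw [← e3, inv_mul_cancel_left, inv_mul_cancel_left] at this
  exact this)

theorem mem_T (h1 : CI g B) (h2 : CA P (conjS g P)) : g ∈ TT B P := by
  have hg := σ.ts.ci_nor σ.mx.hB h1
  obtain ⟨b, hb, e⟩ := σ.line σ.d1 (σ.d1.conj' hg) h2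
  have c1 := (σ.ts.ci_self σ.mx.hB (inv_mem hb)).mul h1
  have n1 := nor_of_conj e
  have n2 := σ.ts.ci_nor σ.mx.hB c1
  obtain ⟨β, hβ, e1⟩ := σ.line σ.d2 (σ.d2.conj' n2) (σ.fix2 n2 (by
    rw [mem_normalizer_iff_conjS.1 n1]; exact (σ.ts.cm_self σ.d1.hQ).ca))
  obtain ⟨x, hx, x2, c2⟩ := σ.sp.onto hβ
  have := σ.gen ((σ.ts.ci_self σ.d1.hQ hx).mul (σ.d1.ci_of' c1 n1))
    ((c2.mul (σ.d2.ci_of' ((σ.ts.ci_self σ.mx.hB (inv_mem hβ)).mul c1) (nor_of_conj e1))).of_eq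
      (by group)) ((σ.d1.ci hx x2).mul c1)
  exact mem_of_eq (mul_mem (mem_sup_left hb) (mul_mem (inv_mem (mem_sup_right (mem_Om' hx x2)))
    (mem_sup_left this))) (by group)

theorem pt_V (hR : R ∈ F) (hx : x ∈ R) (x2 : x * x = 1) (xn : x ∈ Nor B) :
    x ∈ VV B P ∨ x ∈ VV B Q := by
  by_cases x1 : x = 1
  · exact Or.inl (x1 ▸ one_mem _)
  rcases σ.ts.pair' σ.mx.hB hR hx xn x1 with c | d
  · exact Or.inl (σ.d1.mV1 (σ.mx.eq_B hR c ▸ hx) x2)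
  refine (σ.two d).imp (fun e => ?_) fun e => ?_
  · obtain ⟨b, hb, rfl⟩ := σ.line σ.d1 d e
    exact σ.d1.cj_V hb hx x2
  · obtain ⟨b, hb, rfl⟩ := σ.line σ.d2 d e
    exact σ.d2.cj_V hb hx x2

theorem pt_T (hR : R ∈ F) (hx : x ∈ R) (x2 : x * x = 1) (xn : x ∈ Nor B) : x ∈ TT B P :=
  (σ.pt_V hR hx x2 xn).elim (σ.d1.V_le ·) fun e => σ.T_eq ▸ σ.d2.V_le e

theorem inv_T (hu : u ∈ TT B P) (u2 : u * u = 1) : u ∈ VV B P ∨ u ∈ VV B Q := by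
  obtain ⟨b, hb, x, hx, rfl⟩ := σ.d1.mem_T.1 hu
  by_cases b2 : b * b = 1
  · exact Or.inl (mul_mem (σ.d1.mV1 hb b2) (σ.d1.mV2 hx.1 hx.2))
  obtain ⟨b', hb', y, hy, e⟩ := σ.d2.mem_T.1 (σ.T_eq ▸ hu)
  have c := (σ.sp.inv_unique hx.1 hx.2 hb b2 (σ.d1.inv_of hb hx.2 u2)).2
  exact Or.inr (e ▸ mul_mem (σ.d2.mV1 hb' (σ.d2.ci_sq hb' ((c.mul
    (σ.ts.ci_self σ.d2.hQ (inv_mem hy.1))).of_eq (by rw [← e]; group)))) (σ.d2.mV2 hy.1 hy.2))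

theorem T_pt (hu : u ∈ TT B P) (u2 : u * u = 1) : ∃ R ∈ F, u ∈ R := by
  have k : ∀ {P}, Ad F B P → u ∈ VV B P → ∃ R ∈ F, u ∈ R := fun d hv =>
    (d.V_pt σ.sp.full hv).elim (fun e => ⟨B, d.hP, e⟩) fun ⟨b, _, e⟩ => ⟨_, σ.ts.conj _ d.hQ b, e⟩
  exact (σ.inv_T hu u2).elim (k σ.d1) (k σ.d2)

theorem T_fix (hu : u ∈ TT B P) : CI u B ∧ CA P (conjS u P) := by
  obtain ⟨b, hb, x, hx, rfl⟩ := σ.d1.mem_T.1 hu
  exact ⟨(σ.ts.ci_self σ.mx.hB hb).mul (σ.d1.ci hx.1 hx.2), by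
    rw [← conjS_conjS, conjS_eq_of_mem hx.1]; exact σ.d1.ca_cj hb⟩

theorem two_cen (hR : R ∈ F) (ha : a ∈ R) (ai : Inv a) : IsPGroup 2 (Cen1 a) := by
  have k : ∀ a ∈ B, Inv a → ∀ g, g * a = a * g → P2 g := fun a ha ai g e => by
    have hg := σ.ts.cnr σ.mx.hB ha ai.1 e
    have c : CI (g * g) B := (em _).elim (fun c => CI.mul c c) fun c =>
      σ.sp.q4.par σ.mx.hB hg hg ha ai e e c c
    obtain ⟨n, e⟩ := P2.of_mem σ.d1.two_T (σ.mem_T (c.mul c) (σ.fix_sq (mul_mem hg hg)))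
    exact ⟨2 + n, by rw [pow_add, pow_mul, ← e, ← sq, ← sq, ← pow_mul g 2 2]; rfl⟩
  obtain ⟨g, rfl⟩ := σ.ts.tr R hR B σ.mx.hB
  refine isPGroup_iff_forall.2 fun x hx => (?_ : P2 x)
  simpa [mul_assoc] using (k _ (conj_mem_conjS ha) ⟨conj_ne g ai.1, conj_sq1 g ai.2⟩ _
    (conj_cm (c1.1 hx) g)).conj g⁻¹

theorem pair_T (d : Ad F B P1) (d' : Ad F B P3) (c : CA P P1) (c' : CA Q P3) :
    ∃ u ∈ TT B P, conjS u P1 = P ∧ conjS u P3 = Q := by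
  obtain ⟨b, hb, rfl⟩ := σ.line σ.d1 d c
  have d3 := d'.conj' (le_normalizer (inv_mem hb))
  obtain ⟨β, hβ, e⟩ := σ.line σ.d2 d3 (σ.trans σ.d2 d' d3 c' (d'.ca_cj (inv_mem hb)))
  obtain ⟨x, hx, x2, c2⟩ := σ.sp.onto hβ
  exact ⟨x * b⁻¹, mul_mem (mem_sup_right (mem_Om' hx x2)) (mem_sup_left (inv_mem hb)),
    by rw [← conjS_conjS, conjS_inv_conjS, conjS_eq_of_mem hx],
    by rw [← conjS_conjS, ← e, conjS_conjS, mem_normalizer_iff_conjS.1 (σ.ts.ci_nor σ.d2.hQ c2)]⟩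

theorem stab (hs : s ∈ Nor B) : ∃ u ∈ TT B P, conjS (u * s) P = P ∧ conjS (u * s) Q = Q ∨
    conjS (u * s) Q = P ∧ conjS (u * s) P = Q := by
  simp only [← conjS_conjS]
  by_cases c : CA P (conjS s P)
  · exact (σ.pair_T (σ.d1.conj' hs) (σ.d2.conj' hs) c (σ.fix2 hs c)).imp fun _ =>
      And.imp_right Or.inl
  · exact (σ.pair_T (σ.d2.conj' hs) (σ.d1.conj' hs) (σ.flip2 hs c) (σ.flip hs c)).imp fun _ =>
      And.imp_right Or.inr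

theorem stab_T (c : CI u B) (h1 : conjS u P = P) (h2 : conjS u Q = Q) : u ∈ B ∧ u * u = 1 := by
  obtain ⟨b, hb, x, hx, rfl⟩ := σ.d1.mem_T.1 (σ.mem_T c (h1.symm ▸ (σ.ts.cm_self σ.d1.hQ).ca))
  have b2 := σ.d1.symm.sq_of hb (mem_of_eq (mul_mem (mem_normalizer_iff_conjS.2 h1)
    (le_normalizer (inv_mem hx.1))) (by group))
  obtain rfl : x = 1 := by_contra fun x1 => σ.sp.nc (σ.ts.ca_of σ.d2.hQ σ.d1.hQ hx.1
    (mem_of_eq (mul_mem (inv_mem (σ.d2.symm.nor hb b2)) (mem_normalizer_iff_conjS.2 h2))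
      (by group)) x1).symm
  simpa using ⟨hb, b2⟩

end Sc

end H8.Ti
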