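import Cfsg.Agent.H8.Ti8
import Cfsg.Agent.TW.Trf
import Cfsg.Agent.CIT.B4
import Cfsg.Agent.H2.Psl34
import Cfsg.Agent.S1325

/-! Abelian TI-subgroups normal in a maximal 2-local subgroup: identification of `L₃(4)`. -/

set_option autoImplicit false
set_option linter.unusedSectionVars false

namespace H8.Ti

open Cfsg Subgroup FT H4 H5 GW
open BS (Inv)
open H8.Sq (P2 p2_of_sq)
open scoped commutatorElement

variable {G : Type*} [Group G] [Finite G] {F : Set (Subgroup G)} {P Q R V W X S M B : Subgroup G}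
  {a b c g k m n r s t u v w x y z : G}

theorem syl_top (h : IsSylowOf 2 S X) : IsSylowOf 2 (S.subgroupOf X) ⊤ := by
  simpa using h.subgroupOf le_rfl

theorem gtr_in (hp : ⁅X, X⁆ = X) (hS : IsSylowOf 2 S X) (hM : M ≤ S)
    (h : ∀ x ∈ S, ∀ y ∈ S, x ∉ M → y ∉ M → x * y ∈ M) (tt : t * t = 1) (tS : t ∈ S) (zS : z ∈ S)
    (e : z * t = t * z) : ∃ g, g⁻¹ * t * g ∈ M ∧ g⁻¹ * z * g ∈ S := by
  haveI := isPerfect_iff.2 hp
  obtain ⟨g, h1, h2⟩ := TW.gtr2 (syl_top hS) (M := M.subgroupOf X) (comap_mono hM)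
    (fun x hx y hy => h x hx y hy) (t := ⟨t, hS.le tS⟩) (Subtype.ext tt) tS
    (P := zpowers ⟨z, hS.le zS⟩) (zpowers_le.2 zS) (zpowers_le.2 (c1.2 (Subtype.ext e)))
  exact ⟨g, h1, h2 _ (mem_zpowers _)⟩

theorem vx_of {Γ : Type*} [Group Γ] [Finite Γ] {V W : Subgroup Γ} (e1 : ∀ x ∈ V, x * x = 1)
    (e2 : ∀ x ∈ W, x * x = 1) (c : Cen V = V) (n : W ≤ Nor V) (s : IsSylowOf 2 (V ⊔ W) ⊤)
    (ne : V ≠ ⊥) (cv : ∀ v ∈ V, ∃ h ∈ Nor V, h * v * h⁻¹ ∈ W) : CIT.Vx V := by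
  refine ⟨e1, fun x a _ _ => c ▸ a, fun x hx => cen.2 fun v hv => ?_, ne⟩
  obtain ⟨g, hg, e⟩ := cv v hv
  have l : V ⊔ W ≤ Nor V := sup_le le_normalizer n
  have m := (s.of_le l le_top).le_of_le_normalizer (isPGroup_pCoreIn _ _) (pCoreIn_le _ _)
    (l.trans (le_normalizer_pCoreIn _ _)) (cmem (le_normalizer_pCoreIn _ _ hg) hx)
  have : V ⊔ W ≤ Cen1 (g * v * g⁻¹) := sup_le (fun y hy => c1.2 (el_comm e1 hy (cmem hg hv)))
    fun y hy => c1.2 (el_comm e2 hy e)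
  simpa using c1.1 (this m)

theorem vx_in (hV : V ≤ X) (hW : W ≤ X) (e1 : ∀ x ∈ V, x * x = 1) (e2 : ∀ x ∈ W, x * x = 1)
    (c : Cen V ≤ V) (n : W ≤ Nor V) (s : IsSylowOf 2 (V ⊔ W) X) (ne : ¬ V ≤ W)
    (cv : ∀ v ∈ V, ∃ h ∈ X, h ∈ Nor V ∧ h * v * h⁻¹ ∈ W) : CIT.Vx (V.subgroupOf X) ∧
      W.subgroupOf X ≤ Nor (V.subgroupOf X) ∧ Cen (V.subgroupOf X) = V.subgroupOf X ∧
      IsSylowOf 2 (V.subgroupOf X ⊔ W.subgroupOf X) ⊤ := by
  have h1 : Cen (V.subgroupOf X) = V.subgroupOf X := le_antisymm (fun x hx => c (cen.2 fun v hv =>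
    congrArg Subtype.val (cen.1 hx ⟨v, hV hv⟩ hv))) fun x hx => cen.2 fun y hy =>
      Subtype.ext (el_comm e1 hx hy)
  have h2 : W.subgroupOf X ≤ Nor (V.subgroupOf X) := fun x hx => mnor fun y hy =>
    cmem (K := V) (n hx) hy
  have h3 : IsSylowOf 2 (V.subgroupOf X ⊔ W.subgroupOf X) ⊤ := by
    rw [← subgroupOf_sup hV hW]; exact syl_top s
  refine ⟨vx_of (fun x hx => Subtype.ext (e1 x hx)) (fun x hx => Subtype.ext (e2 x hx)) h1 h2 h3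
    (fun e => ne fun v hv => ?_) fun v hv => ?_, h2, h1, h3⟩
  · have : (⟨v, hV hv⟩ : X) ∈ V.subgroupOf X := hv
    rw [e, mem_bot, Subtype.ext_iff] at this
    exact (show v = 1 from this) ▸ one_mem W
  · obtain ⟨h, h4, h5, h6⟩ := cv v hv
    exact ⟨⟨h, h4⟩, mnor fun y hy => cmem (K := V) h5 hy, h6⟩

theorem CI.conj (h : CI t B) (hg : g ∈ Nor B) : CI (g * t * g⁻¹) B := fun a ha a2 => by
  simpa [mul_assoc] using conj_cm (h _ (cmem' hg ha) (by simpa using conj_sq1 g⁻¹ a2)) g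

/-- the normal closure of the class -/
abbrev XX (B : Subgroup G) : Subgroup G := normalClosure (B : Set G)

theorem TS.le_X (h : TS F) (hB : B ∈ F) (hR : R ∈ F) : R ≤ XX B := by
  obtain ⟨g, rfl⟩ := h.tr B hB R hR
  exact conjS_eq_of_normal g (XX B) ▸ conjS_mono g le_normalClosure

theorem Ad.T_le (d : Ad F B P) : TT B P ≤ XX B :=
  sup_le le_normalClosure (Om_le.trans (d.ts.le_X d.hP d.hQ))

theorem Ad.T_norV (d : Ad F B P) : TT B P ≤ Nor (VV B P) :=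
  sup_le (fun _ hb => d.pre.norV hb (d.symm.nor (mul_mem hb hb) (d.exp4 hb))) fun _ hx =>
    have := (d.ts.mem_Om d.hQ).1 hx
    le_normalizer (d.mV2 this.1 this.2)

theorem Ad.perf (d : Ad F B P) (hF : Full F) : ⁅XX B, XX B⁆ = XX B := by
  refine le_antisymm (commutator_le_left _ _) (normalClosure_le_normal fun b hb => ?_)
  obtain ⟨k, hk⟩ := d.dg hF
  obtain ⟨a, ha, rfl⟩ := H8.Sq.fpf_surj hk.n1 hk.f1 hb
  exact commutator_mem_commutator (sup_le le_normalClosure (d.ts.le_X d.hP d.hQ) hk.mem)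
    (le_normalClosure ha)

theorem Mx.S_nor (h : Mx F B) (hS : IsPGroup 2 S) (hB : B ≤ S) : S ≤ Nor B := fun s hs =>
  mem_normalizer_iff_conjS.2 (h.eq_B (h.ts.conj B h.hB s) (h.ts.cm_two hS h.hB
    (h.ts.conj B h.hB s) hB (conjS_eq_of_mem hs ▸ conjS_mono s hB)))

theorem Ad.iso (d : Ad F B P) (hF : Full F) (h4 : Q4 F) :
    Nonempty (B ≃* Multiplicative (ZMod 4) × Multiplicative (ZMod 4)) := by
  classical
  obtain ⟨s, t, β⟩ := d.bs hF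
  have k : ∀ s ∈ B, s * s ≠ 1 → ∃ f : Multiplicative (ZMod 4) →* G, Function.Injective f ∧
      f.range = zpowers s ∧ ∀ x ∈ zpowers s, x ≠ 1 → x * x = 1 → x = s * s := fun s hs s2 => by
    have o : orderOf s = 2 ^ (1 + 1) := orderOf_eq_prime_pow (by rwa [pow_one, pow_two])
      (by rw [← d.exp4 hs, ← pow_two, ← pow_two, ← pow_mul]; rfl)
    obtain ⟨g, hg⟩ := IsCyclic.exists_generator (α := zpowers s)
    let e := zmodMulEquivOfGenerator hg (n := 4) (by rw [Nat.card_zpowers, o]; rfl)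
    refine ⟨(zpowers s).subtype.comp e.toMonoidHom, (zpowers s).subtype_injective.comp e.injective,
      by rw [MonoidHom.range_comp, (MonoidHom.range_eq_top (f := e.toMonoidHom)).2 e.surjective, ← MonoidHom.range_eq_map,
        range_subtype], fun x hx x1 x2 => ?_⟩
    rw [mem_zpowers_iff_mem_range_orderOf, o] at hx
    obtain ⟨i, hi, rfl⟩ := Finset.mem_image.1 hx
    have hi : i < 4 := Finset.mem_range.1 hi
    interval_cases i
    · exact absurd (pow_zero s) x1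
    · exact absurd (by simpa using x2) s2
    · exact pow_two s
    · refine absurd ?_ s2
      rw [← x2, ← mul_one (s * s), ← d.exp4 hs]
      simp only [pow_succ, pow_zero, one_mul, mul_assoc]
  obtain ⟨f, f1, f2, f3⟩ := k s β.hs β.s2
  obtain ⟨g, g1, g2, g3⟩ := k t β.ht β.t2
  have c : ∀ x y, Commute (f x) (g y) := fun x y => d.ts.ab B d.hP _
    (zpowers_le.2 β.hs (f2 ▸ ⟨x, rfl⟩)) _ (zpowers_le.2 β.ht (g2 ▸ ⟨y, rfl⟩))
  have i := (MonoidHom.noncommCoprod_injective f g c).2 ⟨f1, g1, by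
    rw [f2, g2, disjoint_iff, eq_bot_iff]
    intro x hx
    by_contra x1
    obtain ⟨n, e⟩ := (P2.of_mem (d.ts.two B d.hP) (zpowers_le.2 β.hs hx.1)).exists_inv x1
    exact β.ne ((f3 _ (pow_mem hx.1 n) e.1 e.2).symm.trans (g3 _ (pow_mem hx.2 n) e.1 e.2))⟩
  refine ⟨(MulEquiv.subgroupCongr ?_).trans (MonoidHom.ofInjective i).symm⟩
  rw [MonoidHom.noncommCoprod_range, f2, g2]
  refine le_antisymm (fun b hb => ?_) (sup_le (zpowers_le.2 β.hs) (zpowers_le.2 β.ht))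
  have m1 : s ∈ zpowers s ⊔ zpowers t := mem_sup_left (mem_zpowers s)
  have m2 : t ∈ zpowers s ⊔ zpowers t := mem_sup_right (mem_zpowers t)
  have k1 : ∀ a ∈ B, a * a = 1 → a ∈ zpowers s ⊔ zpowers t := fun a ha a2 => by
    rcases h4 B d.hP _ (mul_mem β.hs β.hs) _ (mul_mem β.ht β.ht) a ha ⟨β.s2, d.exp4 β.hs⟩
      ⟨β.t2, d.exp4 β.ht⟩ β.ne a2 with rfl | rfl | rfl | rfl
    exacts [one_mem _, mul_mem m1 m1, mul_mem m2 m2, mul_mem (mul_mem m1 m1) (mul_mem m2 m2)]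
  have k2 : ∀ c ∈ B, c ∈ zpowers s ⊔ zpowers t → b * b = c * c → b ∈ zpowers s ⊔ zpowers t :=
    fun c hc m e => mem_of_eq (mul_mem m (k1 _ (mul_mem (inv_mem hc) hb)
      (d.ts.sq_eq' d.hP hc hb e.symm))) (by group)
  rcases d.cases h4 β hb with e | e | e | e
  exacts [k1 b hb e, k2 s β.hs m1 e, k2 t β.ht m2 e, k2 _ (mul_mem β.hs β.ht) (mul_mem m1 m2) e]

namespace Sc

variable (σ : Sc F B P Q)
include σ

theorem no_fix (hm : m ∈ Nor B) (d : Ad F B R) (hx : x ∈ R) (x1 : x ≠ 1) (e : m * x = x * m) :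
    CA P (conjS m P) := by
  have e1 := mem_normalizer_iff_conjS.1 (σ.ts.cnr d.hQ hx x1 e)
  have k : ∀ {P}, Ad F B P → CA P R → CA P (conjS m P) := fun d' c =>
    σ.trans d' d (d'.conj' hm) c (e1 ▸ TS.ca_conj c m).symm
  exact (σ.two d).elim (k σ.d1) fun c => σ.symm.fix2 hm (k σ.d2 c)

theorem back (ht : g⁻¹ * t * g ∈ TT B P) (t2 : t * t = 1) (tn : t ∈ Nor B) : t ∈ TT B P := by
  obtain ⟨R, hR, e⟩ := σ.T_pt ht (by simpa using conj_sq1 g⁻¹ t2)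
  exact σ.pt_T (σ.ts.conj R hR g) (mem_conjS.2 e) t2 tn

theorem step1 (hS : IsSylowOf 2 S (XX B)) (hT : TT B P ≤ S) (hs : s ∈ S) : CI s B := by
  by_contra hn
  have h4 := σ.sp.q4
  have hB := σ.mx.hB
  have SB := σ.mx.S_nor hS.isPGroup (le_sup_left.trans hT)
  obtain ⟨a0, h0, a1, h1, i0, i1, ne⟩ := σ.ts.rk B hB
  obtain ⟨z, hz, z1, z2, zc⟩ := H7.exists_fixed_order_p (σ.ts.two B hB) hS.isPGroup SB
    (W.ne_bot_of h0 i0.1)
  have zi : Inv z := ⟨z1, by rw [← sq, z2]⟩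
  have par : ∀ x ∈ S, ∀ y ∈ S, ¬ CI x B → ¬ CI y B → CI (x * y) B := fun x hx y hy =>
    h4.par hB (SB hx) (SB hy) hz zi (zc x (mem_sup_right hx)) (zc y (mem_sup_right hy))
  obtain ⟨t, tS, t2, tn⟩ : ∃ t ∈ S, t * t = 1 ∧ ¬ CI t B := by
    obtain ⟨u, hu, e⟩ := σ.stab (SB hs)
    have n : ¬ CI (u * s) B := fun c => hn (((σ.T_fix hu).1.inv.mul c).of_eq (by group))
    have m := mul_mem (hT hu) hs
    generalize u * s = t at e n m
    obtain ⟨a, a2⟩ := σ.stab_T (par t m t m n n)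
      (by rw [← conjS_conjS]; rcases e with e | e <;> simp only [e.1, e.2])
      (by rw [← conjS_conjS]; rcases e with e | e <;> simp only [e.1, e.2])
    by_cases t2 : t * t = 1
    · exact ⟨t, m, t2, n⟩
    obtain ⟨c, hc, ci, ne⟩ : ∃ c ∈ B, Inv c ∧ c ≠ t * t := by
      by_cases e : a0 = t * t
      exacts [⟨a1, h1, i1, e ▸ ne.symm⟩, ⟨a0, h0, i0, e⟩]
    refine ⟨t * c, mul_mem m (hT (mem_sup_left hc)), ?_, fun e => n ((e.mul
      (σ.ts.ci_self hB (inv_mem hc))).of_eq (by group))⟩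
    calc _ = t * c * t⁻¹ * (t * t * c) := by group
      _ = 1 := by
        rw [h4.act hB (SB m) a ⟨t2, a2⟩ (mul_assoc t t t).symm n hc ci.2 ci.1 ne,
          sq_mul (σ.ts.ab B hB _ a c hc), a2, ci.2, one_mul]
  have mO : ∀ x, x ∈ Cen (Om B) ↔ CI x B := fun x => ⟨fun e a ha a2 => cen.1 e a (mem_Om' ha a2),
    fun e => cen.2 fun a ha => e a (Om_le ha) ((σ.ts.mem_Om hB).1 ha).2⟩
  obtain ⟨g, e1, e2⟩ := gtr_in (σ.d1.perf σ.sp.full) hS (M := S ⊓ Cen (Om B)) inf_le_left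
    (fun x hx y hy x1 y1 => ⟨mul_mem hx hy, (mO _).2 (par x hx y hy
      (fun e => x1 ⟨hx, (mO _).2 e⟩) fun e => y1 ⟨hy, (mO _).2 e⟩)⟩) t2 tS (hT (mem_sup_left hz))
    (zc t (mem_sup_right tS)).symm
  have c := (mO _).1 e1.2
  have m : g⁻¹ * z * g ∈ conjS g⁻¹ B := by simpa using conj_mem_conjS (g := g⁻¹) hz
  have m1 : g⁻¹ * z * g ≠ 1 := by simpa using conj_ne g⁻¹ z1
  rcases σ.ts.pair' hB (σ.ts.conj B hB g⁻¹) m (SB e2) m1 with d | d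
  · have := inv_mem (mem_normalizer_iff_conjS.2 (σ.mx.eq_B (σ.ts.conj B hB g⁻¹) d))
    exact tn ((c.conj this).of_eq (by group))
  · exact tn (σ.T_fix (σ.back (σ.mem_T c (σ.no_fix (SB e1.1) d m m1 (by
      simpa using conj_cm (zc t (mem_sup_right tS)) g⁻¹))) t2 (SB tS))).1

theorem step2 (hS : IsSylowOf 2 S (XX B)) (hT : TT B P ≤ S) : S ≤ TT B P := fun s hs => by
  by_contra hn
  have SB := σ.mx.S_nor hS.isPGroup (le_sup_left.trans hT)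
  have c := fun s hs => σ.step1 (s := s) hS hT hs
  obtain ⟨k, hk⟩ := σ.d1.dg σ.sp.full
  obtain ⟨b, hb, e⟩ := σ.line σ.d2 (σ.d2.conj' hk.n1) (σ.symm.ca_k hk)
  obtain ⟨β, hβ, e1⟩ := H8.Sq.fpf_surj hk.n1 hk.f1 (inv_mem hb)
  have e2 : conjS k (conjS β Q) = conjS β Q := by
    rw [conjS_conjS, show k * β = k * β * k⁻¹ * β⁻¹ * β * k by group, ← conjS_conjS, ← e, e1,
      conjS_conjS, mul_assoc, σ.ts.ab B σ.mx.hB β hβ b hb, inv_mul_cancel_left]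
  have d' := σ.d2.conj' (le_normalizer hβ)
  have σ' := σ.sp_of σ.d1 d' fun e => σ.sp.nc (σ.trans σ.d1 d' σ.d2 e (σ.d2.ca_cj hβ).symm)
  generalize conjS β Q = R at e2 σ'
  obtain ⟨u, hu, e3⟩ := σ'.stab (SB hs)
  have n : u * s ∉ TT B P := fun e => hn (mem_of_eq (mul_mem (inv_mem hu) e) (by group))
  have m := mul_mem (hT hu) hs
  generalize u * s = t at e3 n m
  obtain ⟨e3, e4⟩ := e3.resolve_left fun e => n (σ.mem_T (c t m)
    (e.1.symm ▸ (σ.ts.cm_self σ.d1.hQ).ca))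
  have e5 := mem_normalizer_iff_conjS.1 hk.n2
  have i : ∀ {g : G} {A A' : Subgroup G}, conjS g A = A' → conjS g⁻¹ A' = A := fun e =>
    e ▸ conjS_inv_conjS _ _
  obtain ⟨a, -⟩ := σ'.stab_T ((c t m).mul (c t m)) (by rw [← conjS_conjS, e4, e3])
    (by rw [← conjS_conjS, e3, e4])
  obtain ⟨a', a2⟩ := σ'.stab_T (((c t m).conj hk.n1).mul (c t m).inv)
    (by rw [← conjS_conjS, ← conjS_conjS, ← conjS_conjS, i e3, i e2, e3, e5])
    (by rw [← conjS_conjS, ← conjS_conjS, ← conjS_conjS, i e4, i e5, e4, e2])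
  have t2 : t * t = 1 := hk.f1 _ a (of_cj (by
    calc _ = k * t * k⁻¹ * t⁻¹ * (t * (k * t * k⁻¹ * t⁻¹) * t⁻¹) * (t * t) := by group
      _ = _ := by rw [cj_of (c t m _ a' a2), a2, one_mul]))
  obtain ⟨g, e1, -⟩ := gtr_in (σ.d1.perf σ.sp.full) hS hT (fun x hx y hy x1 y1 =>
    σ.mem_T (c _ (mul_mem hx hy)) (σ.par (SB hx) (SB hy) (fun e => x1 (σ.mem_T (c x hx) e))
      fun e => y1 (σ.mem_T (c y hy) e))) t2 m m rfl
  exact n (σ.back e1 t2 (SB m))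

theorem syl : IsSylowOf 2 (TT B P) (XX B) := by
  obtain ⟨S, hS, hT⟩ := exists_isSylowOf_ge σ.d1.two_T σ.d1.T_le
  exact le_antisymm (σ.step2 hS hT) hT ▸ hS

theorem V_sup : VV B P ⊔ VV B Q = TT B P := by
  refine le_antisymm (sup_le σ.d1.V_le (σ.T_eq ▸ σ.d2.V_le)) (sup_le (fun b hb => ?_)
    fun x hx => mem_sup_left (σ.d1.mV2 (Om_le hx) ((σ.ts.mem_Om σ.d1.hQ).1 hx).2))
  obtain ⟨x, hx, x2, e⟩ := σ.sp.onto hb
  have := σ.d2.rl_inv hb (σ.d1.ci hx x2) x2 e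
  refine mem_of_eq (mul_mem (inv_mem (mem_sup_left (σ.d1.mV2 hx x2))) ((σ.inv_T (u := x * b)
    (mul_mem (mem_sup_right (mem_Om' hx x2)) (mem_sup_left hb)) ?_).elim mem_sup_left
      mem_sup_right)) (by group)
  calc _ = x * b * x⁻¹ * (x * x) * b := by group
    _ = 1 := by rw [this, x2]; group

theorem cen_V : Cen (VV B P) ≤ VV B P := fun g hg => by
  have c : CI g P := fun x hx x2 => cen.1 hg x (σ.d1.mV2 hx x2)
  obtain ⟨b, hb, x, hx, rfl⟩ := σ.d1.mem_T.1 (σ.mem_T (fun a ha a2 => cen.1 hg a (σ.d1.mV1 ha a2))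
    ((mem_normalizer_iff_conjS.1 (σ.ts.ci_nor σ.d1.hQ c)).symm ▸ (σ.ts.cm_self σ.d1.hQ).ca))
  exact mul_mem (σ.d1.mV1 hb (σ.d1.ci_sq hb ((c.mul (σ.ts.ci_self σ.d1.hQ
    (inv_mem hx.1))).of_eq (by group)))) (σ.d1.mV2 hx.1 hx.2)

theorem V_inf (h1 : v ∈ VV B P) (h2 : v ∈ VV B Q) : v ∈ B := by
  obtain ⟨a, ha, x, hx, rfl⟩ := σ.d1.mem_V.1 h1
  obtain rfl : x = 1 := by_contra fun x1 => σ.sp.nc (σ.ts.ca_ci σ.d1.hQ σ.d2.hQ hx.1 x1
    (((σ.d2.symm.ci ha.1 ha.2).inv.mul fun y hy y2 =>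
      el_comm σ.d2.pre.el h2 (σ.d2.mV2 hy y2)).of_eq (by group)))
  simpa using ha.1

theorem vx : CIT.Vx ((VV B P).subgroupOf (XX B)) ∧
    (VV B Q).subgroupOf (XX B) ≤ Nor ((VV B P).subgroupOf (XX B)) ∧
    Cen ((VV B P).subgroupOf (XX B)) = (VV B P).subgroupOf (XX B) ∧
    IsSylowOf 2 ((VV B P).subgroupOf (XX B) ⊔ (VV B Q).subgroupOf (XX B)) ⊤ := by
  have d := σ.d1
  refine vx_in (d.V_le.trans d.T_le) (σ.d2.V_le.trans σ.d2.T_le) d.pre.el σ.d2.pre.el σ.cen_V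
    (σ.d2.V_le.trans (σ.T_eq ▸ d.T_norV)) (σ.V_sup ▸ σ.syl) (fun e => ?_) fun v hv => ?_
  · obtain ⟨x, hx, xi⟩ := σ.ts.ex_inv d.hQ
    exact xi.1 (σ.ts.one d.hP d.hQ d.ne (σ.V_inf (d.mV2 hx xi.2) (e (d.mV2 hx xi.2))) hx)
  rcases d.V_pt σ.sp.full hv with e | ⟨b, hb, e⟩
  · exact ⟨1, one_mem _, one_mem _, by simpa using σ.d2.mV1 e (d.pre.el v hv)⟩
  obtain ⟨s, hs, si⟩ := σ.ts.e4 B d.hP
  obtain ⟨w, ω⟩ := d.sw σ.sp.full hs si.1
  refine ⟨w * b⁻¹, mul_mem (sup_le le_normalClosure (σ.ts.le_X d.hP d.hQ) ω.mem)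
    (inv_mem (le_normalClosure hb)), mul_mem (mnor fun u hu => ?_)
      (inv_mem (d.T_norV (mem_sup_left hb))), σ.d2.mV1 (mem_of_eq (ω.m2 (mem_conjS.1 e)) (by group))
      (conj_sq1 _ (d.pre.el v hv))⟩
  obtain ⟨a, ha, x, hx, rfl⟩ := d.mem_V.1 hu
  exact mem_of_eq (mul_mem (d.mV2 (ω.m1 ha.1) (conj_sq1 w ha.2)) (d.mV1 (ω.m2 hx.1)
    (conj_sq1 w hx.2))) (by group)

theorem psl : Nonempty (XX B ≃* Matrix.ProjectiveSpecialLinearGroup (Fin 3) H2.F4) := by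
  obtain ⟨h1, h2, h3, h4⟩ := σ.vx
  obtain ⟨k1, k2, k3, -⟩ := σ.symm.vx
  refine CIT.Q4.psl ⟨⟨⟨fun t ht => ?_, h1, k1, h2, k2, fun e => ?_⟩, h3, k3⟩, ?_, h4⟩
  · obtain ⟨g, -, e⟩ := H8.Sq.conj_into σ.syl t.2 (p2_of_sq (congrArg Subtype.val (ii ht)))
    have ti : Inv (t : G) := ⟨fun e => ine ht (Subtype.ext e), congrArg Subtype.val (ii ht)⟩
    obtain ⟨R, hR, e1⟩ := σ.T_pt e (conj_sq1 g ti.2)
    have := σ.two_cen (σ.ts.conj R hR g⁻¹) (mem_conjS.2 (by simpa using e1)) ti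
    exact (this.comap_subtype (K := XX B)).to_le fun x hx => c1.2 (congrArg Subtype.val (c1.1 hx))
  · obtain ⟨x, hx, xi⟩ := σ.ts.ex_inv σ.d2.hQ
    have m := σ.d2.mV2 hx xi.2
    exact xi.1 (σ.ts.one σ.d2.hP σ.d2.hQ σ.d2.ne (σ.V_inf
      ((h3 ▸ e) (show (⟨x, σ.d2.T_le (σ.d2.V_le m)⟩ : XX B) ∈ _ from m)) m) hx)
  · obtain ⟨a, ha, b, hb, ai, bi, ne⟩ := σ.ts.rk B σ.mx.hB
    have f : F4 a b := ⟨orderOf_eq_two' ai.2 ai.1, orderOf_eq_two' bi.2 bi.1,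
      σ.ts.ab B σ.mx.hB a ha b hb, ne.symm⟩
    have e : VV B P ⊓ VV B Q = V4 a b := le_antisymm (fun v hv => f.mem_V.2 (σ.sp.q4 B σ.mx.hB a ha
      b hb v (σ.V_inf hv.1 hv.2) ai bi ne (σ.d1.pre.el v hv.1)))
      (V_le ⟨σ.d1.mV1 ha ai.2, σ.d2.mV1 ha ai.2⟩ ⟨σ.d1.mV1 hb bi.2, σ.d2.mV1 hb bi.2⟩)
    rw [← f.card_V, ← e, subgroupOf, subgroupOf, ← comap_inf]
    exact Nat.card_congr (subgroupOfEquivOfLe (inf_le_left.trans
      (σ.d1.V_le.trans σ.d1.T_le))).toEquiv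

theorem gfit : generalizedFittingSubgroup G = XX B := by
  obtain ⟨e⟩ := σ.psl
  haveI := (H2.psl34_simple H2.F4 H2.F4.card_F4).1
  haveI := e.isSimpleGroup
  have l : XX B ≤ layer G := le_layer ⟨Normal.isSubnormal inferInstance, isQuasisimple_iff'.2
    ⟨Group.isPerfect_def.1 (isPerfect_iff.2 (σ.d1.perf σ.sp.full)), inferInstance,
      fun N hN => hN.eq_bot_or_eq_top.symm.imp_right fun e => e.le.trans bot_le⟩⟩
  have c : Cen (XX B) ≤ XX B :=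
    ((centralizer_le le_normalClosure).trans σ.cenB).trans le_normalClosure
  exact le_antisymm (Cfsg.Agent.S1325.result _ (le_trans (commutator_eq_bot_iff_le_centralizer.1
    (commutator_eq_bot_mono ((commutator_comm _ _).trans commutator_layer_fitting) le_rfl l)) c) c)
    (l.trans le_sup_left)

end Sc

end H8.Ti
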